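import Cfsg.Agent.Lib.Fusion.TerminalExists
import Cfsg.Agent.Lib.Fusion.PComponentIntrinsic
import Cfsg.Agent.Lib.Solv.UniqueSub
import Cfsg.Agent.Lib.Solv.SelfNormalizing

/-!
Two 2-components with unique involutions: the congruence calculus modulo the core of an involution
centralizer, and exact lifting of 2-subgroups.
-/

set_option autoImplicit false
set_option linter.style.haveILetI false

open Cfsg Cfsg.Agent Cfsg.Agent.Fusion
open scoped commutatorElement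

namespace Cfsg.Agent.TwoPair

local instance : Fact (Nat.Prime 2) := ⟨Nat.prime_two⟩

variable {G : Type*} [Group G]

/-- The centralizer of an element. -/
abbrev Cz (a : G) : Subgroup G := Subgroup.centralizer ({a} : Set G)

/-- Conjugation `g⁻¹ x g`. -/
abbrev cb (x g : G) : G := g⁻¹ * x * g

/-- The conjugate subgroup `g⁻¹ J g`. -/
abbrev cs (J : Subgroup G) (g : G) : Subgroup G := cj J g⁻¹

theorem mem_cs {J : Subgroup G} {g x : G} : x ∈ cs J g ↔ g * x * g⁻¹ ∈ J := by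
  rw [cs, mem_cj, inv_inv]

theorem cb_mem_cs {J : Subgroup G} {g x : G} (hx : x ∈ J) : cb x g ∈ cs J g := by
  rw [mem_cs]; simpa [cb, mul_assoc] using hx

theorem cs_one (J : Subgroup G) : cs J 1 = J := by rw [cs, inv_one, cj_one]

theorem cs_cs (J : Subgroup G) (g h : G) : cs (cs J g) h = cs J (g * h) := by
  rw [cs, cs, cs, cj_cj, mul_inv_rev]

theorem cs_inv_self {J : Subgroup G} {g : G} (h : cs J g = J) : cs J g⁻¹ = J := by
  conv_lhs => rw [← h]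
  rw [cs_cs, mul_inv_cancel, cs_one]

theorem cs_eq_of_mem_normalizer {J : Subgroup G} {g : G} (h : g ∈ Subgroup.normalizer (J : Set G)) :
    cs J g = J := cj_eq_self (inv_mem h)

theorem mem_normalizer_of_cs {J : Subgroup G} {g : G} (h : cs J g = J) :
    g ∈ Subgroup.normalizer (J : Set G) :=
  inv_inv g ▸ inv_mem (mem_normalizer_iff_cj.2 h)

theorem mem_Cz {a x : G} : x ∈ Cz a ↔ a * x = x * a :=
  Subgroup.mem_centralizer_singleton_iff.trans eq_comm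

theorem self_mem_Cz (a : G) : a ∈ Cz a := mem_Cz.2 rfl

theorem mem_Cz_comm {a x : G} (h : x ∈ Cz a) : a ∈ Cz x := mem_Cz.2 (mem_Cz.1 h).symm

theorem cb_eq_self {x g : G} : cb x g = x ↔ g ∈ Cz x := by
  rw [mem_Cz, cb, mul_assoc, inv_mul_eq_iff_eq_mul]

theorem cb_mul (x y g : G) : cb (x * y) g = cb x g * cb y g := by simp [cb, mul_assoc]
theorem cb_cb (x g h : G) : cb (cb x g) h = cb x (g * h) := by simp [cb, mul_assoc]
theorem cb_inv (x g : G) : cb x⁻¹ g = (cb x g)⁻¹ := by simp [cb, mul_assoc]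
theorem cb_one (x : G) : cb x 1 = x := by simp [cb]
theorem cb_self (x : G) : cb x x = x := by simp [cb, mul_assoc]
theorem cb_pow (x g : G) : ∀ n : ℕ, cb (x ^ n) g = cb x g ^ n
  | 0 => by simp [cb]
  | n + 1 => by rw [pow_succ, cb_mul, cb_pow x g n, pow_succ]

/-- `x` is a 2-element. -/
def TwoEl (x : G) : Prop := ∃ k : ℕ, x ^ 2 ^ k = 1

theorem twoEl_of_mem {P : Subgroup G} (hP : IsPGroup 2 P) {x : G} (hx : x ∈ P) : TwoEl x := by
  obtain ⟨k, hk⟩ := hP ⟨x, hx⟩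
  exact ⟨k, congrArg Subtype.val hk⟩

theorem isPGroup_zpowers {x : G} (hx : TwoEl x) : IsPGroup 2 (Subgroup.zpowers x) := by
  obtain ⟨k, hk⟩ := hx
  rintro ⟨_, i, rfl⟩
  refine ⟨k, Subtype.ext ?_⟩
  show (x ^ i) ^ 2 ^ k = 1
  rw [← zpow_natCast, ← zpow_mul, mul_comm, zpow_mul, zpow_natCast, hk, one_zpow]

theorem twoEl_cb {x : G} (g : G) (h : TwoEl x) : TwoEl (cb x g) := by
  obtain ⟨k, hk⟩ := h
  exact ⟨k, by rw [← cb_pow, hk]; simp [cb]⟩

/-! ### The core of an involution centralizer -/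

/-- `O(C(a))`. -/
abbrev OC (a : G) : Subgroup G := Cfsg.centralizerPPrimeCore 2 a

theorem OC_le (a : G) : OC a ≤ Cz a := Subgroup.map_subtype_le _

theorem OC_normalizer (a : G) : Cz a ≤ Subgroup.normalizer (OC a : Set G) := by
  intro g hg
  have hn : (Cfsg.pPrimeCore 2 ↥(Cz a)).Normal := inferInstance
  rw [Subgroup.mem_normalizer_iff]
  intro x
  constructor
  · rintro ⟨y, hy, rfl⟩
    exact ⟨⟨g, hg⟩ * y * (⟨g, hg⟩)⁻¹, hn.conj_mem y hy _, rfl⟩
  · rintro ⟨y, hy, he⟩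
    refine ⟨(⟨g, hg⟩)⁻¹ * y * ⟨g, hg⟩, ?_, ?_⟩
    · have := hn.conj_mem y hy (⟨g, hg⟩)⁻¹
      rwa [inv_inv] at this
    · show g⁻¹ * (y : G) * g = x
      rw [show (y : G) = g * x * g⁻¹ from he]
      group

section
variable (a : G)

/-- `C(a) / O(C(a))`. -/
abbrev Qo := ↥(Cz a) ⧸ Cfsg.pPrimeCore 2 ↥(Cz a)

open Classical in
/-- The projection to `C(a) / O(C(a))`, extended by `1`. -/
noncomputable def pr (x : G) : Qo a :=
  if h : x ∈ Cz a then QuotientGroup.mk' _ (⟨x, h⟩ : Cz a) else 1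

variable {a}

theorem pr_coe {x : G} (h : x ∈ Cz a) : pr a x = QuotientGroup.mk' _ (⟨x, h⟩ : Cz a) := dif_pos h

theorem pr_mk (x : Cz a) : QuotientGroup.mk' _ x = pr a (x : G) := (pr_coe x.2).symm

theorem pr_one : pr a (1 : G) = 1 := by rw [pr_coe (one_mem _)]; exact map_one _

theorem pr_mul {x y : G} (hx : x ∈ Cz a) (hy : y ∈ Cz a) : pr a (x * y) = pr a x * pr a y := by
  rw [pr_coe hx, pr_coe hy, pr_coe (mul_mem hx hy), ← map_mul]; rfl

theorem pr_inv {x : G} (hx : x ∈ Cz a) : pr a x⁻¹ = (pr a x)⁻¹ := by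
  rw [pr_coe hx, pr_coe (inv_mem hx), ← map_inv]; rfl

theorem pr_cb {x g : G} (hx : x ∈ Cz a) (hg : g ∈ Cz a) :
    pr a (cb x g) = (pr a g)⁻¹ * pr a x * pr a g := by
  rw [pr_mul (mul_mem (inv_mem hg) hx) hg, pr_mul (inv_mem hg) hx, pr_inv hg]

theorem cb_mem_Cz {x g : G} (hx : x ∈ Cz a) (hg : g ∈ Cz a) : cb x g ∈ Cz a :=
  mul_mem (mul_mem (inv_mem hg) hx) hg

theorem pr_eq_one {x : G} (hx : x ∈ Cz a) : pr a x = 1 ↔ x ∈ OC a := by
  rw [pr_coe hx, QuotientGroup.mk'_apply, QuotientGroup.eq_one_iff]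
  exact ⟨fun h => ⟨⟨x, hx⟩, h, rfl⟩, fun ⟨y, hy, he⟩ => by
    rwa [show (⟨x, hx⟩ : Cz a) = y from Subtype.ext he.symm]⟩

theorem pr_eq {x y : G} (hx : x ∈ Cz a) (hy : y ∈ Cz a) : pr a x = pr a y ↔ x⁻¹ * y ∈ OC a := by
  rw [← pr_eq_one (mul_mem (inv_mem hx) hy), pr_mul (inv_mem hx) hy, pr_inv hx, inv_mul_eq_one]

theorem pr_surj (q : Qo a) : ∃ x ∈ Cz a, pr a x = q := by
  obtain ⟨x, rfl⟩ := QuotientGroup.mk'_surjective _ q
  exact ⟨x, x.2, pr_coe x.2⟩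

end

variable [Finite G]

theorem OC_coprime (a : G) : (Nat.card (OC a)).Coprime 2 := by
  rw [OC, Cfsg.centralizerPPrimeCore, Subgroup.card_map_of_injective (Subgroup.subtype_injective _)]
  exact card_pPrimeCore_coprime 2 _

theorem twoEl_mem_odd {H : Subgroup G} (hH : (Nat.card H).Coprime 2) {x : G} (hx : TwoEl x)
    (hxH : x ∈ H) : x = 1 := by
  obtain ⟨k, hk⟩ := hx
  rw [← orderOf_eq_one_iff]
  exact Nat.eq_one_of_dvd_coprimes (hH.pow_right k) (Subgroup.orderOf_dvd_natCard H hxH)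
    (orderOf_dvd_of_pow_eq_one hk)

theorem twoEl_mem_OC {a x : G} (hx : TwoEl x) (hxR : x ∈ OC a) : x = 1 :=
  twoEl_mem_odd (OC_coprime a) hx hxR

/-- The projection is injective on 2-subgroups. -/
theorem pr_inj {a : G} {P : Subgroup G} (hP : IsPGroup 2 P) (hPC : P ≤ Cz a) {x y : G}
    (hx : x ∈ P) (hy : y ∈ P) (h : pr a x = pr a y) : x = y :=
  inv_mul_eq_one.1 (twoEl_mem_OC (twoEl_of_mem hP (mul_mem (inv_mem hx) hy))
    ((pr_eq (hPC hx) (hPC hy)).1 h))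

/-- The image of a subgroup of `C(a)`. -/
noncomputable def prS (a : G) (S : Subgroup G) : Subgroup (Qo a) :=
  (S.subgroupOf (Cz a)).map (QuotientGroup.mk' _)

theorem mem_prS {a : G} {S : Subgroup G} (hS : S ≤ Cz a) {q : Qo a} :
    q ∈ prS a S ↔ ∃ x ∈ S, pr a x = q := by
  constructor
  · rintro ⟨x, hx, rfl⟩
    exact ⟨x, hx, pr_coe x.2⟩
  · rintro ⟨x, hx, rfl⟩
    exact ⟨⟨x, hS hx⟩, hx, (pr_coe (hS hx)).symm⟩

theorem pr_mem_prS {a : G} {S : Subgroup G} (hS : S ≤ Cz a) {x : G} (hx : x ∈ S) :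
    pr a x ∈ prS a S := (mem_prS hS).2 ⟨x, hx, rfl⟩

theorem isPGroup_prS {a : G} {S : Subgroup G} (hS : IsPGroup 2 S) : IsPGroup 2 (prS a S) :=
  (hS.comap_subtype (K := Cz a)).map _

/-- A 2-group of `C(a) / O(C(a))` lifts to a 2-subgroup of `C(a)` containing a given one. -/
theorem lift_two {a : G} {S : Subgroup G} (hS : IsPGroup 2 S) (hSC : S ≤ Cz a)
    {T : Subgroup (Qo a)} (hT : IsPGroup 2 T) (hST : prS a S ≤ T) :
    ∃ P : Subgroup G, IsPGroup 2 P ∧ P ≤ Cz a ∧ S ≤ P ∧ (∀ x ∈ P, pr a x ∈ T) ∧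
      ∀ q ∈ T, ∃ x ∈ P, pr a x = q := by
  obtain ⟨K₀, hK₀⟩ : ∃ K₀ : Subgroup ↥(Cz a), K₀ = T.comap (QuotientGroup.mk' _) := ⟨_, rfl⟩
  have hSK : S.subgroupOf (Cz a) ≤ K₀ := by
    rw [hK₀, ← Subgroup.map_le_iff_le_comap]; exact hST
  obtain ⟨P, hP, hSP⟩ := exists_sylIn_ge (hS.comap_subtype (K := Cz a)) hSK
  have hmap : P.map (QuotientGroup.mk' _) = T := by
    refine le_antisymm ?_ ?_
    · rw [Subgroup.map_le_iff_le_comap, ← hK₀]; exact hP.le
    · have h1 : K₀.map (QuotientGroup.mk' _) = T := by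
        rw [hK₀, Subgroup.map_comap_eq_self_of_surjective (QuotientGroup.mk'_surjective _)]
      obtain ⟨U, hU⟩ : ∃ U : Subgroup (Qo a), U = P.map (QuotientGroup.mk' _) := ⟨_, rfl⟩
      have hUT : U ≤ T := by rw [hU, ← h1]; exact Subgroup.map_mono hP.le
      have h2 : U.relIndex T ∣ P.relIndex K₀ := by
        rw [hU, ← h1]
        rw [Subgroup.relIndex_map_map]
        exact Subgroup.relIndex_dvd_of_le_left _ le_sup_left |>.trans (by
          rw [sup_eq_left.2]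
          rw [hK₀, ← MonoidHom.comap_bot]
          exact Subgroup.comap_mono bot_le)
      obtain ⟨k, hk⟩ := IsPGroup.iff_card.1 hT
      obtain ⟨j, -, hj⟩ := (Nat.dvd_prime_pow Nat.prime_two).1 (hk ▸ Subgroup.relIndex_dvd_card U T)
      rcases j with _ | j
      · rw [← hU]
        exact Subgroup.relIndex_eq_one.1 (by simpa using hj)
      · exact absurd ((hj ▸ dvd_pow_self 2 (Nat.succ_ne_zero j)).trans h2) hP.not_dvd
  refine ⟨P.map (Cz a).subtype, hP.isPGroup.map _, Subgroup.map_subtype_le _,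
    fun x hx => ⟨⟨x, hSC hx⟩, hSP hx, rfl⟩, ?_, fun q hq => ?_⟩
  · rintro _ ⟨x, hx, rfl⟩
    rw [← hmap, Subgroup.subtype_apply, ← pr_mk]
    exact Subgroup.mem_map_of_mem _ hx
  · rw [← hmap] at hq
    obtain ⟨x, hx, rfl⟩ := hq
    exact ⟨x, ⟨x, hx, rfl⟩, (pr_mk x).symm⟩

theorem twoEl_pr {a x : G} (hx : x ∈ Cz a) (h : TwoEl x) : IsPGroup 2 (Subgroup.zpowers (pr a x)) := by
  have h1 : Subgroup.zpowers (pr a x) ≤ prS a (Subgroup.zpowers x) :=
    Subgroup.zpowers_le.2 (pr_mem_prS (Subgroup.zpowers_le.2 hx) (Subgroup.mem_zpowers x))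
  exact (isPGroup_prS (isPGroup_zpowers h)).to_le h1

/-- A 2-element commuting with `b` modulo the core is congruent to one commuting with `b`. -/
theorem lift_commuting {a b x : G} (hb : TwoEl b) (hbC : b ∈ Cz a) (hx : TwoEl x) (hxC : x ∈ Cz a)
    (h : pr a b * pr a x = pr a x * pr a b) :
    ∃ x', TwoEl x' ∧ x' ∈ Cz a ∧ x' ∈ Cz b ∧ pr a x' = pr a x := by
  obtain ⟨T, hT⟩ : ∃ T, T = Subgroup.zpowers (pr a x) ⊔ Subgroup.zpowers (pr a b) := ⟨_, rfl⟩
  have hn : Subgroup.zpowers (pr a x) ≤ Subgroup.normalizer (Subgroup.zpowers (pr a b) : Set (Qo a)) := by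
    refine le_trans ?_ (Subgroup.centralizer_le_normalizer _)
    rw [Subgroup.zpowers_le]
    refine Subgroup.mem_centralizer_iff.2 ?_
    rintro _ ⟨i, rfl⟩
    exact (Commute.zpow_left (show Commute (pr a b) (pr a x) from h) i).eq
  have hT2 : IsPGroup 2 T := hT ▸ IsPGroup.to_sup_of_normal_right' (twoEl_pr hxC hx) (twoEl_pr hbC hb) hn
  obtain ⟨P, hP, hPC, hbP, -, hsur⟩ := lift_two (isPGroup_zpowers hb) (Subgroup.zpowers_le.2 hbC) hT2 (by
    intro q hq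
    obtain ⟨y, ⟨i, rfl⟩, rfl⟩ := (mem_prS (Subgroup.zpowers_le.2 hbC)).1 hq
    rw [hT]
    refine Subgroup.mem_sup_right ?_
    have h2 : pr a (b ^ i) = pr a b ^ i := by
      rw [pr_coe hbC, pr_coe (zpow_mem hbC i), ← map_zpow]; rfl
    exact ⟨i, h2.symm⟩)
  obtain ⟨x', hx', he⟩ := hsur (pr a x) (hT ▸ Subgroup.mem_sup_left (Subgroup.mem_zpowers _))
  have hb' := hbP (Subgroup.mem_zpowers b)
  refine ⟨x', twoEl_of_mem hP hx', hPC hx', mem_Cz.2 ?_, he⟩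
  refine pr_inj hP hPC (mul_mem hb' hx') (mul_mem hx' hb') ?_
  rw [pr_mul hbC (hPC hx'), pr_mul (hPC hx') hbC, he, h]

end Cfsg.Agent.TwoPair
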