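import Cfsg.Agent.Lib.Fusion.TwoCompPair.Basic

/-!
2-components with a unique involution inside the centralizer of that involution.
-/

set_option autoImplicit false
set_option linter.style.haveILetI false

open Cfsg Cfsg.Agent Cfsg.Agent.Fusion
open scoped commutatorElement

namespace Cfsg.Agent.TwoPair

local instance : Fact (Nat.Prime 2) := ⟨Nat.prime_two⟩

variable {G : Type*} [Group G] [Finite G]

/-- `a` is the unique involution of `J`, a 2-component of `C(a)`. -/
structure TC (a : G) (J : Subgroup G) : Prop where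
  mem : a ∈ J
  ord : orderOf a = 2
  uniq : ∀ t ∈ J, orderOf t = 2 → t = a
  comp : Cfsg.IsPComponentOf 2 J (Cz a)

/-- `x` centralizes `J` modulo `O(C(a))`. -/
def Cent (a : G) (J : Subgroup G) (x : G) : Prop := ∀ j ∈ J, pr a x * pr a j = pr a j * pr a x

variable {a : G} {J L : Subgroup G}

theorem TC.le (h : TC a J) : J ≤ Cz a := h.comp.1

theorem TC.sq (h : TC a J) : a * a = 1 := by
  rw [← pow_two, ← h.ord, pow_orderOf_eq_one]

theorem TC.ne_one (h : TC a J) : a ≠ 1 := fun e => by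
  have := h.ord; rw [e, orderOf_one] at this; omega

theorem TC.twoEl_self (h : TC a J) : TwoEl a := ⟨1, by rw [pow_one, pow_two, h.sq]⟩

theorem TC.conj (h : TC a J) (g : G) : TC (cb a g) (cs J g) := by
  obtain ⟨hJC, hsn, hq⟩ := PComp.pcompOf_iff.1 h.comp
  have hC : cs (Cz a) g = Cz (cb a g) := by
    ext x
    rw [mem_cs, mem_Cz, mem_Cz]
    constructor
    · intro e
      calc cb a g * x = g⁻¹ * (a * (g * x * g⁻¹)) * g := by simp [cb, mul_assoc]
        _ = _ := by rw [e]; simp [cb, mul_assoc]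
    · intro e
      calc a * (g * x * g⁻¹) = g * (cb a g * x) * g⁻¹ := by simp [cb, mul_assoc]
        _ = _ := by rw [e]; simp [cb, mul_assoc]
  refine ⟨cb_mem_cs h.mem, ?_, fun t ht ho => ?_, ?_⟩
  · rw [cb, show g⁻¹ * a * g = MulAut.conj g⁻¹ a by simp, MulEquiv.orderOf_eq]; exact h.ord
  · have ht' := mem_cs.1 ht
    have := h.uniq _ ht' (by
      rw [show g * t * g⁻¹ = MulAut.conj g t by simp, MulEquiv.orderOf_eq]; exact ho)
    rw [← this]; simp [cb, mul_assoc]
  · refine PComp.pcompOf_iff.2 ⟨hC ▸ cj_mono hJC g⁻¹, ?_,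
      hq.congr (J.equivMapOfInjective _ (MulAut.conj g⁻¹).injective)⟩
    obtain ⟨e, he⟩ : ∃ e : ↥(Cz a) ≃* ↥(Cz (cb a g)), ∀ x, (e x : G) = g⁻¹ * (x : G) * g := by
      refine ⟨((Cz a).equivMapOfInjective (MulAut.conj g⁻¹).toMonoidHom (MulAut.conj g⁻¹).injective).trans
        (MulEquiv.subgroupCongr hC), fun x => ?_⟩
      show MulAut.conj g⁻¹ (x : G) = _
      simp
    have h1 := hsn.map (f := e.toMonoidHom) e.surjective
    convert h1 using 1
    ext z
    rw [Subgroup.mem_subgroupOf, mem_cs]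
    constructor
    · intro hz
      refine ⟨⟨g * z * g⁻¹, hJC hz⟩, hz, Subtype.ext ?_⟩
      show (e _ : G) = z
      rw [he]; simp [mul_assoc]
    · rintro ⟨x, hx, rfl⟩
      show g * (e x : G) * g⁻¹ ∈ J
      rw [he]
      simpa [mul_assoc] using (show (x : G) ∈ J from hx)

theorem TC.conj_mem (h : TC a J) {g : G} (hg : g ∈ Cz a) : TC a (cs J g) := by
  have := h.conj g
  rwa [cb_eq_self.2 hg] at this

theorem TC.prS_component (h : TC a J) : Cfsg.IsComponent (prS a J) := h.comp.2.2.1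

theorem TC.mem_of_pr (h : TC a J) {x : G} (hx : TwoEl x) (hxC : x ∈ Cz a) (hp : pr a x ∈ prS a J) :
    x ∈ J := by
  obtain ⟨k, hk⟩ := hx
  have h1 : (⟨x, hxC⟩ : Cz a) ∈ J.subgroupOf (Cz a) ⊔ Cfsg.pPrimeCore 2 ↥(Cz a) := by
    rw [pr_coe hxC, prS, ← Subgroup.mem_comap, Subgroup.comap_map_eq, QuotientGroup.ker_mk'] at hp
    exact hp
  exact pelement_mem_of_mem_sup (p := 2) h.comp.2.1 h1 ⟨k, Subtype.ext hk⟩

theorem TC.pr_commute (h : TC a J) (h' : TC a L) (hne : J ≠ L) {x y : G} (hx : x ∈ J) (hy : y ∈ L) :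
    pr a x * pr a y = pr a y * pr a x := by
  have hne' : J.subgroupOf (Cz a) ≠ L.subgroupOf (Cz a) := fun e => hne (by
    rw [← Subgroup.map_subgroupOf_eq_of_le h.le, e, Subgroup.map_subgroupOf_eq_of_le h'.le])
  have h1 := Subgroup.commutator_eq_bot_iff_le_centralizer.1 (pComponents_map_commute h.comp.2 h'.comp.2 hne')
  exact (Subgroup.mem_centralizer_iff.1 (h1 (pr_mem_prS h.le hx)) _ (pr_mem_prS h'.le hy)).symm

theorem TC.cent_of_mem (h : TC a J) (h' : TC a L) (hne : J ≠ L) {y : G} (hy : y ∈ L) : Cent a J y :=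
  fun j hj => (h.pr_commute h' hne hj hy).symm

/-- Exact commuting of two components inside a 2-group. -/
theorem TC.commute (h : TC a J) (h' : TC a L) (hne : J ≠ L) {P : Subgroup G} (hP : IsPGroup 2 P)
    (hPC : P ≤ Cz a) {x y : G} (hxP : x ∈ P) (hyP : y ∈ P) (hx : x ∈ J) (hy : y ∈ L) :
    x * y = y * x := by
  refine pr_inj hP hPC (mul_mem hxP hyP) (mul_mem hyP hxP) ?_
  rw [pr_mul (h.le hx) (h'.le hy), pr_mul (h'.le hy) (h.le hx), h.pr_commute h' hne hx hy]

theorem TC.normalizes (h : TC a J) (h' : TC a L) {y : G} (hy : y ∈ L) : cs J y = J := by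
  refine cs_eq_of_mem_normalizer ?_
  have h1 := pComponent_normalizes (p := 2) h.comp.2 h'.comp.2
  have h2 : (⟨y, h'.le hy⟩ : Cz a) ∈ Subgroup.normalizer (J.subgroupOf (Cz a) : Set ↥(Cz a)) :=
    h1 (show (⟨y, h'.le hy⟩ : Cz a) ∈ L.subgroupOf (Cz a) from hy)
  rw [← Subgroup.subgroupOf_normalizer_eq h.le] at h2
  exact h2

theorem TC.core_normalizes (h : TC a J) {r : G} (hr : r ∈ OC a) : cs J r = J := by
  refine cs_eq_of_mem_normalizer ?_
  obtain ⟨r', hr', rfl⟩ := hr
  have h2 := pPrimeCore_normalizes_pComponent (p := 2) h.comp.2 hr'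
  rw [← Subgroup.subgroupOf_normalizer_eq h.le] at h2
  exact h2

theorem TC.cs_congr (h : TC a J) {x y : G} (hx : x ∈ Cz a) (hy : y ∈ Cz a) (he : pr a x = pr a y) :
    cs J x = cs J y := by
  have hr := (pr_eq hx hy).1 he
  have := (h.conj_mem hx).core_normalizes hr
  rw [cs_cs, mul_inv_cancel_left] at this
  exact this.symm

/-- Two-elements of `J` generate `J`. -/
theorem TC.le_of_twoEl (h : TC a J) {W : Subgroup G} (hW : ∀ x ∈ J, TwoEl x → x ∈ W) : J ≤ W := by
  have h1 := pComponent_le_of_pelements (p := 2) (W := W.subgroupOf (Cz a)) h.comp.2 fun x hx ⟨k, hk⟩ =>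
    hW x hx ⟨k, congrArg Subtype.val hk⟩
  intro x hx
  exact h1 (show (⟨x, h.le hx⟩ : Cz a) ∈ J.subgroupOf (Cz a) from hx)

theorem TC.perfect (h : TC a J) : ⁅J, J⁆ = J := by
  have h1 := pComponent_perfect (p := 2) h.comp.2
  have h2 := congrArg (Subgroup.map (Cz a).subtype) h1
  rwa [Subgroup.map_commutator, Subgroup.map_subgroupOf_eq_of_le h.le] at h2

theorem TC.eq_of_sq (h : TC a J) {x : G} (hx : x ∈ J) (hsq : x * x = 1) : x = 1 ∨ x = a := by
  by_cases h1 : x = 1
  · exact Or.inl h1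
  · exact Or.inr (h.uniq x hx (orderOf_eq_prime (by rw [pow_two, hsq]) h1))

theorem TC.isPerfect (h : TC a J) : Group.IsPerfect ↥J := by
  refine ⟨Subgroup.map_injective J.subtype_injective ?_⟩
  rw [commutator_def, Subgroup.map_commutator, ← MonoidHom.range_eq_map, Subgroup.range_subtype, h.perfect]

theorem TC.sylow_not_cyclic (h : TC a J) {S : Subgroup G} (hS : SylIn 2 S J) : ¬ IsCyclic S := by
  intro hc
  obtain ⟨P, hP⟩ := hS.exists_sylow_subgroupOf
  haveI : IsCyclic (P : Subgroup J) := by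
    rw [hP]
    exact isCyclic_of_surjective (Subgroup.subgroupOfEquivOfLe hS.le).symm.toMonoidHom
      (Subgroup.subgroupOfEquivOfLe hS.le).symm.surjective
  have hd : 2 ∣ Nat.card J := by
    rw [← h.ord]
    exact Subgroup.orderOf_dvd_natCard J h.mem
  have hmf : (Nat.card J).minFac = 2 := (Nat.minFac_eq_two_iff _).2 hd
  have hN := IsCyclic.normalizer_le_centralizer hmf (P := P) inferInstance
  have hC := MonoidHom.ker_transferSylow_isComplement' P hN
  haveI := h.isPerfect
  have htop : (MonoidHom.transferSylow P hN).ker = ⊤ := by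
    rw [eq_top_iff, ← Group.IsPerfect.commutator_eq_top (G := J), commutator_def, Subgroup.commutator_le]
    intro x _ y _
    rw [MonoidHom.mem_ker, map_commutatorElement, commutatorElement_eq_one_iff_mul_comm]
    exact IsMulCommutative.is_comm.comm _ _
  have hPbot : (P : Subgroup J) = ⊥ := by
    have := hC.disjoint.eq_bot
    rwa [htop, top_inf_eq] at this
  have h2 : 2 ∣ Nat.card (P : Subgroup J) := P.dvd_card_of_dvd_card hd
  rw [hPbot, Subgroup.card_bot] at h2
  omega

theorem TC.uniqueOrder (h : TC a J) {S : Subgroup G} (hS : S ≤ J) : Solv.UniqueOrderP 2 S := by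
  intro x y hx hy hy1
  by_cases hx1 : x = 1
  · rw [hx1]; exact one_mem _
  have ex : (x : G) = a := ((h.eq_of_sq (hS x.2) (by
    have := congrArg Subtype.val hx; simpa [pow_two] using this)).resolve_left fun e => hx1 (Subtype.ext e))
  have ey : (y : G) = a := ((h.eq_of_sq (hS y.2) (by
    have := congrArg Subtype.val hy; simpa [pow_two] using this)).resolve_left fun e => hy1 (Subtype.ext e))
  rw [show x = y from Subtype.ext (ex.trans ey.symm)]
  exact Subgroup.mem_zpowers y

/-- A Sylow subgroup of `J` is quaternion. -/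
theorem TC.sylow_quaternion' (h : TC a J) {S : Subgroup G} (hS : SylIn 2 S J) :
    ∃ n : ℕ, Nonempty (↥S ≃* QuaternionGroup (2 ^ (n + 1))) := by
  rcases Solv.cyclic_or_quaternion hS.isPGroup (h.uniqueOrder hS.le) with hc | ⟨-, n, ⟨e⟩⟩
  · exact absurd hc (h.sylow_not_cyclic hS)
  · rcases n with _ | n
    · refine absurd ?_ (h.sylow_not_cyclic hS)
      have h4 : IsCyclic (QuaternionGroup (2 ^ 0)) := isCyclic_of_orderOf_eq_card (QuaternionGroup.xa 0) (by
        simp [QuaternionGroup.orderOf_xa, Nat.card_eq_fintype_card, QuaternionGroup.card])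
      exact isCyclic_of_surjective e.symm.toMonoidHom e.symm.surjective
    · exact ⟨n, ⟨e⟩⟩

theorem TC.sylow_quaternion (h : TC a J) {S : Subgroup G} (hS : SylIn 2 S J) :
    ∃ m : ℕ, 2 ∣ m ∧ Nonempty (↥S ≃* QuaternionGroup m) := by
  obtain ⟨n, he⟩ := h.sylow_quaternion' hS
  exact ⟨2 ^ (n + 1), dvd_pow_self 2 (Nat.succ_ne_zero n), he⟩

/-- A 2-element of `J` of order at least 4 does not centralize `J` modulo the core. -/
theorem TC.sq_eq_one_of_cent (h : TC a J) {x : G} (hx : x ∈ J) (h2 : TwoEl x) (hc : Cent a J x) :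
    x * x = 1 := by
  obtain ⟨S, hS, hxS⟩ := exists_sylIn_ge (isPGroup_zpowers h2) (Subgroup.zpowers_le.2 hx)
  have hxS' := hxS (Subgroup.mem_zpowers x)
  have hcen : (⟨x, hxS'⟩ : S) ∈ Subgroup.center ↥S := by
    refine Subgroup.mem_center_iff.2 fun y => Subtype.ext ?_
    refine pr_inj hS.isPGroup (hS.le.trans h.le) (mul_mem y.2 hxS') (mul_mem hxS' y.2) ?_
    show pr a ((y : G) * x) = pr a (x * (y : G))
    rw [pr_mul (h.le (hS.le y.2)) (h.le hx), pr_mul (h.le hx) (h.le (hS.le y.2)), hc y (hS.le y.2)]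
  obtain ⟨m, hm, ⟨e⟩⟩ := h.sylow_quaternion hS
  have hec : ∀ w : QuaternionGroup m, w * e ⟨x, hxS'⟩ = e ⟨x, hxS'⟩ * w := fun w => by
    obtain ⟨s, rfl⟩ := e.surjective w
    rw [← map_mul, ← map_mul, Subgroup.mem_center_iff.1 hcen s]
  have key : ∀ z : QuaternionGroup m, (∀ w, w * z = z * w) → z * z = 1 := by
    rintro (i | i) hz
    · have h1 := hz (QuaternionGroup.xa 0)
      simp only [QuaternionGroup.xa_mul_a, QuaternionGroup.a_mul_xa, zero_add, zero_sub] at h1
      have h2 : i = -i := QuaternionGroup.xa.inj h1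
      rw [QuaternionGroup.a_mul_a, eq_neg_iff_add_eq_zero.1 h2]
      rfl
    · exfalso
      have h1 := hz (QuaternionGroup.a 1)
      simp only [QuaternionGroup.xa_mul_a, QuaternionGroup.a_mul_xa] at h1
      have h2 : i - 1 = i + 1 := QuaternionGroup.xa.inj h1
      have h3 : ((2 : ℕ) : ZMod (2 * m)) = 0 := by
        rw [Nat.cast_two]
        linear_combination -h2
      rw [ZMod.natCast_eq_zero_iff] at h3
      have h4 := Nat.le_of_dvd (by norm_num) h3
      obtain ⟨c, rfl⟩ := hm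
      rcases c with _ | c
      · simp at h3
      · omega
  have := key _ hec
  rw [← map_mul, ← map_one e] at this
  exact congrArg Subtype.val (e.injective this)

theorem TC.not_cent (h : TC a J) {x : G} (hx : x ∈ J) (h2 : TwoEl x) (hne : x * x ≠ 1) :
    ¬ Cent a J x := fun hc => hne (h.sq_eq_one_of_cent hx h2 hc)

/-- Two distinct components share no 2-element of order at least 4. -/
theorem TC.sq_eq_one_of_inter (h : TC a J) (h' : TC a L) (hne : J ≠ L) {x : G} (hx : x ∈ J)
    (hxL : x ∈ L) (h2 : TwoEl x) : x * x = 1 :=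
  h.sq_eq_one_of_cent hx h2 (h.cent_of_mem h' hne hxL)

/-- `x⁻¹z` central in `J` modulo the core, for 2-elements `x`, `z` of `J`. -/
theorem TC.eq_or_mul_of_cent (h : TC a J) {x z : G} (hx : x ∈ J) (hx2 : TwoEl x) (hz : z ∈ J)
    (hz2 : TwoEl z) (hc : Cent a J (x⁻¹ * z)) : pr a z = pr a x ∨ pr a z = pr a (x * a) := by
  have hxC := h.le hx
  have hzC := h.le hz
  have hcomm : pr a x * pr a z = pr a z * pr a x := by
    have h1 := hc x hx
    rw [pr_mul (inv_mem hxC) hzC, pr_inv hxC] at h1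
    calc pr a x * pr a z = pr a x * (pr a x * ((pr a x)⁻¹ * pr a z)) := by group
      _ = pr a x * ((pr a x)⁻¹ * pr a z * pr a x) := by rw [h1]
      _ = _ := by group
  obtain ⟨z', hz'2, hz'C, hz'x, he⟩ := lift_commuting hx2 hxC hz2 hzC hcomm
  have hz'J : z' ∈ J := h.mem_of_pr hz'2 hz'C (by rw [he]; exact pr_mem_prS h.le hz)
  have hcx : x * z' = z' * x := mem_Cz.1 hz'x
  obtain ⟨i, hi⟩ := hx2
  obtain ⟨j, hj⟩ := hz'2
  have h2 : TwoEl (x⁻¹ * z') := by
    refine ⟨i + j, ?_⟩
    have hcm : Commute x⁻¹ z' := (show Commute x z' from hcx).inv_left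
    rw [hcm.mul_pow, inv_pow, pow_add, pow_mul x, hi, one_pow, inv_one, one_mul,
      ← pow_add, add_comm i j, pow_add, pow_mul, hj, one_pow]
  have hc' : Cent a J (x⁻¹ * z') := by
    intro w hw
    rw [pr_mul (inv_mem hxC) hz'C, he, ← pr_mul (inv_mem hxC) hzC]
    exact hc w hw
  rcases h.eq_of_sq (mul_mem (inv_mem hx) hz'J) (h.sq_eq_one_of_cent (mul_mem (inv_mem hx) hz'J) h2 hc') with e | e
  · exact Or.inl (by rw [← he, inv_mul_eq_one.1 e])
  · exact Or.inr (by rw [← he, ← e, mul_inv_cancel_left])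

theorem TC.exists_order_four (h : TC a J) {S : Subgroup G} (hS : SylIn 2 S J) :
    ∃ x ∈ S, x * x = a := by
  obtain ⟨m, hm, ⟨e⟩⟩ := h.sylow_quaternion hS
  have hm0 : NeZero m ∨ m = 0 := (eq_or_ne m 0).symm.imp_left fun hh => ⟨hh⟩
  rcases hm0 with hm0 | rfl
  · obtain ⟨x, hx⟩ := e.surjective (QuaternionGroup.xa 0)
    refine ⟨x, x.2, ?_⟩
    have h4 : orderOf (x : G) = 4 := by
      rw [Subgroup.orderOf_coe, ← MulEquiv.orderOf_eq e, hx, QuaternionGroup.orderOf_xa]
    refine ((h.eq_of_sq (mul_mem (hS.le x.2) (hS.le x.2)) ?_).resolve_left ?_)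
    · rw [← pow_two, ← pow_two, ← pow_mul, show 2 * 2 = orderOf (x : G) from h4.symm, pow_orderOf_eq_one]
    · intro e2
      have := orderOf_dvd_of_pow_eq_one (show (x : G) ^ 2 = 1 by rw [pow_two, e2])
      rw [h4] at this
      norm_num at this
  · exfalso
    have : Finite (QuaternionGroup 0) := Finite.of_equiv S e.toEquiv
    have h5 : Finite (ZMod (2 * 0)) := Finite.of_injective QuaternionGroup.a fun _ _ h => QuaternionGroup.a.inj h
    haveI : Finite ℤ := h5
    exact not_finite ℤ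

/-- A Sylow subgroup of `C(a)` meets `J` in a Sylow subgroup of `J`. -/
theorem TC.sylIn_inf (h : TC a J) {P : Subgroup G} (hP : SylIn 2 P (Cz a)) : SylIn 2 (P ⊓ J) J := by
  obtain ⟨S, hS⟩ := hP.exists_sylow_subgroupOf
  have h1 : ∀ L : Subgroup ↥(Cz a), L.IsSubnormal →
      SylIn 2 ((S : Subgroup ↥(Cz a)) ⊓ L) L := by
    intro L hL
    induction hL with
    | top => rw [inf_top_eq]; exact sylIn_top S
    | step H M hle _ hN ih =>
      have h := ih.inf_normal hle ((Subgroup.normal_subgroupOf_iff_le_normalizer hle).1 hN)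
      rwa [inf_assoc, inf_eq_right.2 hle] at h
  have h2 := h1 _ h.comp.2.1
  have e1 : ((S : Subgroup ↥(Cz a)) ⊓ J.subgroupOf (Cz a)).map (Cz a).subtype = P ⊓ J := by
    rw [Subgroup.map_inf _ _ _ (Subgroup.subtype_injective _), hS,
      Subgroup.map_subgroupOf_eq_of_le hP.le, Subgroup.map_subgroupOf_eq_of_le h.le]
  refine ⟨inf_le_right, hP.isPGroup.to_inf_left, ?_⟩
  have h3 := h2.not_dvd
  rw [← Subgroup.relIndex_map_map_of_injective _ _ (Subgroup.subtype_injective (Cz a)), e1,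
    Subgroup.map_subgroupOf_eq_of_le h.le] at h3
  exact h3

end Cfsg.Agent.TwoPair
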