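import Mathlib

/-!
An involutive automorphism of a generalized quaternion group moving some element by the central
involution inverts an element of order four.
-/

set_option autoImplicit false

namespace Cfsg.Agent.TwoPair

open QuaternionGroup

theorem quat_exists_inverted {n : ℕ} (σ : QuaternionGroup (2 ^ (n + 1)) → QuaternionGroup (2 ^ (n + 1)))
    (hmul : ∀ x y, σ (x * y) = σ x * σ y) (hinv : ∀ x, σ (σ x) = x) {x : QuaternionGroup (2 ^ (n + 1))}
    (hx : σ x = x * a ((2 ^ (n + 1) : ℕ) : ZMod (2 * 2 ^ (n + 1)))) :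
    ∃ h, h * h = a ((2 ^ (n + 1) : ℕ) : ZMod (2 * 2 ^ (n + 1))) ∧
      σ h = h * a ((2 ^ (n + 1) : ℕ) : ZMod (2 * 2 ^ (n + 1))) := by
  obtain ⟨m, hm⟩ : ∃ m : ZMod (2 * 2 ^ (n + 1)), m = ((2 ^ (n + 1) : ℕ) : ZMod (2 * 2 ^ (n + 1))) := ⟨_, rfl⟩
  rw [← hm] at hx ⊢
  have hmm : m + m = 0 := by
    rw [hm, ← Nat.cast_add, ← two_mul]; exact ZMod.natCast_self _
  have hm0 : m ≠ 0 := by
    rw [hm, Ne, ZMod.natCast_eq_zero_iff]
    intro h
    have := Nat.le_of_dvd (pow_pos two_pos _) h
    have := Nat.two_pow_pos (n + 1)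
    omega
  have hinj : Function.Injective σ := fun p q h => by rw [← hinv p, h, hinv]
  have hone : σ 1 = 1 := by
    have := hmul 1 1
    rw [one_mul] at this
    exact left_eq_mul.1 this
  cases x with
  | xa i =>
    exact ⟨xa i, by rw [xa_mul_xa, ← hm, add_sub_cancel_right], hx⟩
  | a i =>
    by_cases h2 : i + i = m
    · exact ⟨a i, by rw [a_mul_a, h2], hx⟩
    rw [a_mul_a] at hx
    have hii : i + i ≠ 0 := by
      intro h0
      have h1 : i = 0 ∨ i = m := by
        have hd : 2 * 2 ^ (n + 1) ∣ i.val + i.val := by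
          rw [← ZMod.natCast_eq_zero_iff, Nat.cast_add, ZMod.natCast_zmod_val, h0]
        have hlt := ZMod.val_lt i
        obtain ⟨c, hc⟩ := hd
        have hc2 : c < 2 := by
          by_contra hh
          have : 2 * 2 ^ (n + 1) * 2 ≤ 2 * 2 ^ (n + 1) * c := Nat.mul_le_mul_left _ (by omega)
          omega
        rcases c with _ | _ | c
        · left
          rw [← ZMod.natCast_zmod_val i, show i.val = 0 by omega, Nat.cast_zero]
        · right
          rw [← ZMod.natCast_zmod_val i, show i.val = 2 ^ (n + 1) by omega, hm]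
        · omega
      rcases h1 with rfl | rfl
      · rw [← one_def, hone, one_def, zero_add] at hx
        exact hm0 (a.inj hx).symm
      · rw [hmm, ← one_def] at hx
        have := hinj (hx.trans hone.symm)
        exact hm0 (a.inj (this.trans one_def))
    have hcomm : ∀ p : QuaternionGroup (2 ^ (n + 1)), σ p * σ (a i) = σ (a i) * σ p → p * a i = a i * p :=
      fun p h => hinj (by rw [hmul, hmul, h])
    -- the rotations are preserved
    obtain ⟨u, hu⟩ : ∃ u, σ (a 1) = a u := by
      match h : σ (a 1) with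
      | a u => exact ⟨u, rfl⟩
      | xa t =>
        exfalso
        have h1 : σ (a 1) * σ (a i) = σ (a i) * σ (a 1) := by rw [← hmul, ← hmul, a_mul_a, a_mul_a, add_comm 1 i]
        rw [h, hx, xa_mul_a, a_mul_xa] at h1
        have h2 := xa.inj h1
        exact hii (by linear_combination h2 - hmm)
    have hk : ∀ k : ℕ, σ (a (k : ZMod (2 * 2 ^ (n + 1)))) = a ((k : ZMod (2 * 2 ^ (n + 1))) * u) := by
      intro k
      induction k with
      | zero => simp [← one_def, hone]
      | succ k ih =>
        rw [Nat.cast_succ, ← a_mul_a, hmul, ih, hu, a_mul_a, add_mul, one_mul]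
    have hk' : ∀ k, σ (a k) = a (k * u) := fun k => by
      rw [← ZMod.natCast_zmod_val k]; exact hk _
    have hiu : i * u = i + m := a.inj ((hk' i).symm.trans hx)
    have huu : u * u = 1 := by
      have := hinv (a 1)
      rw [hu, hk'] at this
      exact a.inj this
    obtain ⟨j, hj⟩ : ∃ j, σ (xa 0) = xa j := by
      match h : σ (xa 0) with
      | xa j => exact ⟨j, rfl⟩
      | a j =>
        exfalso
        have h1 := hcomm (xa 0) (by rw [h, hx, a_mul_a, a_mul_a, add_comm j])
        rw [xa_mul_a, a_mul_xa] at h1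
        have h2 := xa.inj h1
        exact hii (by linear_combination h2)
    have hju : j + j * u = 0 := by
      have h1 := hinv (xa 0)
      rw [hj, show xa j = xa 0 * a j by rw [xa_mul_a, zero_add], hmul, hj, hk', xa_mul_a] at h1
      exact xa.inj h1
    have hodd : ∀ s : ℕ, IsUnit ((2 * s + 1 : ℕ) : ZMod (2 * 2 ^ (n + 1))) := fun s => by
      rw [ZMod.isUnit_iff_coprime, show 2 * 2 ^ (n + 1) = 2 ^ (n + 2) by ring]
      exact Nat.Coprime.pow_right _ (Nat.coprime_two_right.2 (odd_two_mul_add_one s))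
    obtain ⟨v, hv⟩ : ∃ v : ℕ, u = (v : ZMod (2 * 2 ^ (n + 1))) := ⟨u.val, (ZMod.natCast_zmod_val u).symm⟩
    rcases Nat.even_or_odd' v with ⟨w, hw | hw⟩
    · exfalso
      have h1 := congrArg (ZMod.castHom (dvd_mul_right 2 (2 ^ (n + 1))) (ZMod 2)) huu
      rw [map_mul, map_one, hv, map_natCast, hw, Nat.cast_mul,
        show ((2 : ℕ) : ZMod 2) = 0 from ZMod.natCast_self 2, zero_mul, zero_mul] at h1
      exact zero_ne_one h1
    rcases Nat.even_or_odd' w with ⟨s, hs | hs⟩
    · -- `u + 1` is twice a unit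
      have h1 : (j + j) * ((2 * s + 1 : ℕ) : ZMod (2 * 2 ^ (n + 1))) = 0 := by
        rw [hv, hw, hs] at hju
        push_cast at hju ⊢
        linear_combination hju
      have h2 : j + j = 0 := (hodd s).mul_left_eq_zero.1 h1
      have hd : 2 * 2 ^ (n + 1) ∣ j.val + j.val := by
        rw [← ZMod.natCast_eq_zero_iff, Nat.cast_add, ZMod.natCast_zmod_val, h2]
      have hlt := ZMod.val_lt j
      obtain ⟨c, hc⟩ := hd
      rcases c with _ | _ | c
      · have hj0 : j = 0 := by
          rw [← ZMod.natCast_zmod_val j, show j.val = 0 by omega, Nat.cast_zero]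
        refine ⟨xa i, by rw [xa_mul_xa, ← hm, add_sub_cancel_right], ?_⟩
        rw [show xa i = xa 0 * a i by rw [xa_mul_a, zero_add], hmul, hj, hj0, hx, xa_mul_a, xa_mul_a,
          xa_mul_a, add_assoc]
      · have hjm : j = m := by
          rw [← ZMod.natCast_zmod_val j, show j.val = 2 ^ (n + 1) by omega, hm]
        exact ⟨xa 0, by rw [xa_mul_xa, ← hm, add_sub_cancel_right], by rw [hj, hjm, xa_mul_a, zero_add]⟩
      · have : 2 * 2 ^ (n + 1) * 2 ≤ 2 * 2 ^ (n + 1) * (c + 1 + 1) := Nat.mul_le_mul_left _ (by omega)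
        omega
    · exfalso
      refine h2 ((hodd s).mul_left_injective ?_)
      show (i + i) * ((2 * s + 1 : ℕ) : ZMod (2 * 2 ^ (n + 1))) = m * ((2 * s + 1 : ℕ) : ZMod (2 * 2 ^ (n + 1)))
      rw [hv, hw, hs] at hiu
      push_cast at hiu ⊢
      linear_combination hiu - (s : ZMod (2 * 2 ^ (n + 1))) * hmm

end Cfsg.Agent.TwoPair
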