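import Cfsg.Agent.Lib.Fusion.TwoCompPair.Comp
import Cfsg.Agent.Lib.Fusion.TwoCompPair.Quat
import Cfsg.Agent.Lib.Fusion.ExtendedLayer
import Cfsg.Agent.Lib.Char.ZStar

/-!
An element of `K` moving `J`: the involution of `K` fixes `J`, acts nontrivially on it and inverts
an element of order four.
-/

set_option autoImplicit false
set_option linter.style.haveILetI false

open Cfsg Cfsg.Agent Cfsg.Agent.Fusion
open scoped commutatorElement

namespace Cfsg.Agent.TwoPair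

local instance : Fact (Nat.Prime 2) := ⟨Nat.prime_two⟩

/-- The trick: two commuting images of a perfect group, equal modulo `ker q`. -/
theorem odd_trick {A B : Type*} [Group A] [Group B] [Finite A] [Finite B] (q : A →* B)
    (D N : Subgroup A) (σ : A → A) (hN : (Nat.card N).Coprime 2) (hperf : D ≤ ⁅D, D⁆ ⊔ N)
    (hσ : ∀ c ∈ D, q (σ c) = q c) (hcomm : ∀ c ∈ D, ∀ e ∈ D, ⁅c, σ e⁆ ∈ N) :
    ∀ c ∈ D, TwoEl c → q c = 1 := by
  intro c hc hc2
  have h1 : ⁅D, D⁆.map q ≤ N.map q := by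
    rw [Subgroup.map_le_iff_le_comap, Subgroup.commutator_le]
    intro x hx y hy
    exact ⟨⁅x, σ y⁆, hcomm x hx y hy, by rw [map_commutatorElement, map_commutatorElement, hσ y hy]⟩
  have h2 : q c ∈ N.map q := by
    have := Subgroup.mem_map_of_mem q (hperf hc)
    rw [Subgroup.map_sup] at this
    exact (sup_le h1 le_rfl : _ ≤ N.map q) this
  obtain ⟨k, hk⟩ := hc2
  exact twoEl_mem_odd (hN.coprime_dvd_left (Subgroup.card_map_dvd N q))
    ⟨k, by rw [← map_pow, hk, map_one]⟩ h2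

variable {G : Type*} [Group G] [Finite G]

/-- A 2-element `y` of `K` centralizing `a` moves `J`. -/
structure Mov (a b y : G) (J K : Subgroup G) : Prop where
  tJ : TC a J
  tK : TC b K
  ne : a ≠ b
  yK : y ∈ K
  y2 : TwoEl y
  ya : y ∈ Cz a
  four : 4 ≤ orderOf y
  move : cs J y ≠ J

variable {a b y : G} {J K : Subgroup G}

theorem orderOf_twoEl {x : G} (h : TwoEl x) : ∃ k, orderOf x = 2 ^ k := by
  obtain ⟨k, hk⟩ := h
  obtain ⟨j, -, hj⟩ := (Nat.dvd_prime_pow Nat.prime_two).1 (orderOf_dvd_of_pow_eq_one hk)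
  exact ⟨j, hj⟩

theorem exists_pow_eq (hK : TC b K) {x : G} (hx : x ∈ K) (h2 : TwoEl x) (hne : 4 ≤ orderOf x) :
    ∃ k, orderOf x = 2 ^ (k + 2) ∧ x ^ 2 ^ (k + 1) = b := by
  obtain ⟨j, hj⟩ := orderOf_twoEl h2
  obtain ⟨k, rfl⟩ : ∃ k, j = k + 2 := by
    rcases j with _ | _ | k
    · rw [hj] at hne; norm_num at hne
    · rw [hj] at hne; norm_num at hne
    · exact ⟨k, rfl⟩
  refine ⟨k, hj, hK.uniq _ (pow_mem hx _) ?_⟩
  rw [orderOf_pow, hj, Nat.gcd_eq_right (pow_dvd_pow 2 (Nat.le_succ _)), pow_succ, Nat.mul_div_cancel_left]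
  exact pow_pos two_pos _

namespace Mov

theorem exists_k (S : Mov a b y J K) : ∃ k, orderOf y = 2 ^ (k + 2) ∧ y ^ 2 ^ (k + 1) = b :=
  exists_pow_eq S.tK S.yK S.y2 S.four

theorem bCa (S : Mov a b y J K) : b ∈ Cz a := by
  obtain ⟨k, -, hb⟩ := S.exists_k
  exact hb ▸ pow_mem S.ya _

theorem aCb (S : Mov a b y J K) : a ∈ Cz b := mem_Cz_comm S.bCa

theorem yCb (S : Mov a b y J K) : y ∈ Cz b := S.tK.le S.yK

theorem tJy (S : Mov a b y J K) : TC a (cs J y) := S.tJ.conj_mem S.ya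

theorem tJb (S : Mov a b y J K) : TC a (cs J b) := S.tJ.conj_mem S.bCa

theorem b_comm (S : Mov a b y J K) : b * y = y * b := mem_Cz.1 S.yCb

theorem move_sq (S : Mov a b y J K) (h : cs J b ≠ J) : cs J (y * y) ≠ J := by
  intro h2
  obtain ⟨k, -, hb⟩ := S.exists_k
  refine h ?_
  have hn := mem_normalizer_of_cs h2
  refine cs_eq_of_mem_normalizer ?_
  rw [← hb, pow_succ', pow_mul, pow_two]
  exact pow_mem hn _

/-- A perfect subgroup of `C(a)/O(C(a))` made of images of `C(a) ∩ C(b)` and commuting with its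
conjugate by `y`: its 2-elements fix `K`. -/
theorem fix_of_diag (S : Mov a b y J K) (D : Subgroup (Qo a)) (hperf : ⁅D, D⁆ = D)
    (hsur : D ≤ prS a (Cz a ⊓ Cz b))
    (hcomm : ∀ p ∈ D, ∀ q ∈ D, p * ((pr a y)⁻¹ * q * pr a y) = ((pr a y)⁻¹ * q * pr a y) * p) :
    ∀ c : G, c ∈ Cz a → c ∈ Cz b → TwoEl c → pr a c ∈ D → cs K c = K := by
  intro c hca hcb hc2 hcD
  obtain ⟨X, hX⟩ : ∃ X : Subgroup G, X = Cz a ⊓ Cz b := ⟨_, rfl⟩
  have hXa : X ≤ Cz a := hX ▸ inf_le_left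
  have hXb : X ≤ Cz b := hX ▸ inf_le_right
  obtain ⟨D0, hD0⟩ : ∃ D0 : Subgroup G,
      D0 = (D.comap (QuotientGroup.mk' _)).map (Cz a).subtype ⊓ X := ⟨_, rfl⟩
  have hmem : ∀ x, x ∈ D0 ↔ x ∈ X ∧ pr a x ∈ D := by
    intro x
    rw [hD0, Subgroup.mem_inf]
    constructor
    · rintro ⟨⟨x', hx', rfl⟩, hx⟩
      exact ⟨hx, by rw [Subgroup.subtype_apply, ← pr_mk]; exact hx'⟩
    · rintro ⟨hx, hp⟩
      exact ⟨⟨⟨x, hXa hx⟩, Subgroup.mem_comap.2 (by rw [pr_mk]; exact hp), rfl⟩, hx⟩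
  have hD0a : D0 ≤ Cz a := fun x hx => hXa ((hmem x).1 hx).1
  have himg : prS a D0 = D := by
    refine le_antisymm (fun q hq => ?_) (fun q hq => ?_)
    · obtain ⟨x, hx, rfl⟩ := (mem_prS hD0a).1 hq
      exact ((hmem x).1 hx).2
    · obtain ⟨x, hx, rfl⟩ := (mem_prS (inf_le_left : Cz a ⊓ Cz b ≤ Cz a)).1 (hsur hq)
      exact pr_mem_prS hD0a ((hmem x).2 ⟨hX ▸ hx, hq⟩)
  -- work inside `C(b)` modulo the layer
  haveI hMn : (Cfsg.pLayer 2 ↥(Cz b)).Normal := pLayer_normal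
  have hyM : (⟨y, S.yCb⟩ : Cz b) ∈ Cfsg.pLayer 2 ↥(Cz b) :=
    (le_sSup S.tK.comp.2 : K.subgroupOf (Cz b) ≤ Cfsg.pLayer 2 ↥(Cz b)) S.yK
  obtain ⟨σ, hσ⟩ : ∃ σ : ↥(Cz b) → ↥(Cz b), σ = fun e => (⟨y, S.yCb⟩ : Cz b)⁻¹ * e * ⟨y, S.yCb⟩ := ⟨_, rfl⟩
  have key := odd_trick (QuotientGroup.mk' (Cfsg.pLayer 2 ↥(Cz b))) (D0.subgroupOf (Cz b))
    ((OC a ⊓ Cz b).subgroupOf (Cz b)) σ ?_ ?_ ?_ ?_ ⟨c, hcb⟩
    ((hmem c).2 ⟨hX ▸ ⟨hca, hcb⟩, hcD⟩) (by
      obtain ⟨j, hj⟩ := hc2; exact ⟨j, Subtype.ext hj⟩)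
  · refine cs_eq_of_mem_normalizer ?_
    have h1 : (⟨c, hcb⟩ : Cz b) ∈ Cfsg.pLayer 2 ↥(Cz b) := (QuotientGroup.eq_one_iff _).1 key
    have h2 := pLayer_le_normalizer (p := 2) S.tK.comp.2 h1
    rw [← Subgroup.subgroupOf_normalizer_eq S.tK.le] at h2
    exact h2
  · rw [Nat.card_congr (Subgroup.subgroupOfEquivOfLe inf_le_right).toEquiv]
    exact (OC_coprime a).coprime_dvd_left (Subgroup.card_dvd_of_le inf_le_left)
  · intro x hx
    have hx' : (x : G) ∈ D0 := hx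
    have h1 : pr a (x : G) ∈ (⁅D0.subgroupOf (Cz a), D0.subgroupOf (Cz a)⁆).map (QuotientGroup.mk' _) := by
      rw [Subgroup.map_commutator]
      show pr a (x : G) ∈ ⁅prS a D0, prS a D0⁆
      rw [himg, hperf]
      exact ((hmem _).1 hx').2
    obtain ⟨z, hz, he⟩ := h1
    have hz1 : (z : G) ∈ ⁅D0, D0⁆ := by
      have := Subgroup.mem_map_of_mem (Cz a).subtype hz
      rwa [Subgroup.map_commutator, Subgroup.map_subgroupOf_eq_of_le hD0a] at this
    have hzb : (z : G) ∈ Cz b := hXb ((hmem _).1 (Subgroup.commutator_le_self D0 hz1)).1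
    have hz2 : (⟨z, hzb⟩ : Cz b) ∈ ⁅D0.subgroupOf (Cz b), D0.subgroupOf (Cz b)⁆ := by
      have h3 : (⁅D0.subgroupOf (Cz b), D0.subgroupOf (Cz b)⁆).map (Cz b).subtype = ⁅D0, D0⁆ := by
        rw [Subgroup.map_commutator, Subgroup.map_subgroupOf_eq_of_le fun w hw => hXb ((hmem w).1 hw).1]
      rw [← h3] at hz1
      obtain ⟨w, hw, hwe⟩ := hz1
      rwa [show (⟨z, hzb⟩ : Cz b) = w from Subtype.ext hwe.symm]
    have hr : (⟨z, hzb⟩ : Cz b)⁻¹ * x ∈ (OC a ⊓ Cz b).subgroupOf (Cz b) := by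
      refine ⟨?_, ((⟨z, hzb⟩ : Cz b)⁻¹ * x).2⟩
      rw [pr_mk] at he
      exact (pr_eq (z.2) (hD0a hx')).1 he
    have := mul_mem (Subgroup.mem_sup_left hz2 : _ ∈ ⁅D0.subgroupOf (Cz b), D0.subgroupOf (Cz b)⁆ ⊔
      (OC a ⊓ Cz b).subgroupOf (Cz b)) (Subgroup.mem_sup_right hr)
    rwa [mul_inv_cancel_left] at this
  · intro x _
    rw [hσ]
    simp only [map_mul, map_inv]
    rw [show QuotientGroup.mk' (Cfsg.pLayer 2 ↥(Cz b)) ⟨y, S.yCb⟩ = 1 from
      (QuotientGroup.eq_one_iff _).2 hyM, inv_one, one_mul, mul_one]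
  · intro x hx e he
    have hxa : (x : G) ∈ Cz a := hD0a hx
    have hea : cb (e : G) y ∈ Cz a := cb_mem_Cz (hD0a he) S.ya
    have h1 : pr a (x : G) * ((pr a y)⁻¹ * pr a (e : G) * pr a y) =
        ((pr a y)⁻¹ * pr a (e : G) * pr a y) * pr a (x : G) :=
      hcomm _ ((hmem _).1 hx).2 _ ((hmem _).1 he).2
    rw [← pr_cb (x := (e : G)) (g := y) (show (e : G) ∈ Cz a from hD0a he) S.ya, ← pr_mul hxa hea, ← pr_mul hea hxa] at h1
    have h2 := (pr_eq (mul_mem hea hxa) (mul_mem hxa hea)).1 h1.symm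
    have h3 : ⁅(x : G), cb (e : G) y⁆ ∈ OC a := by
      have hn := (Subgroup.mem_normalizer_iff.1
        (OC_normalizer a (mul_mem hea hxa)) ((cb (e : G) y * x)⁻¹ * (x * cb (e : G) y))).1 h2
      convert hn using 1
      simp only [commutatorElement_def]
      group
    refine ⟨?_, (⁅x, σ e⁆).2⟩
    rw [hσ]
    exact h3

/-- The involution of `K` fixes `J`. -/
theorem b_fix (S : Mov a b y J K) : cs J b = J := by
  by_contra hb
  have tJby : TC a (cs (cs J b) y) := S.tJb.conj_mem S.ya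
  have hJy2 : cs J (y * y) ≠ J := S.move_sq hb
  have hbb : cs (cs J b) b = J := by rw [cs_cs, S.tK.sq, cs_one]
  have n1 : J ≠ cs J y := Ne.symm S.move
  have n3 : cs J b ≠ cs (cs J b) y := fun e => S.move (by
    have h1 := congrArg (fun T => cs T b) e
    rw [hbb, cs_cs, cs_cs, show b * (y * b) = y by rw [← S.b_comm, ← mul_assoc, S.tK.sq, one_mul]] at h1
    exact h1.symm)
  have n4 : cs J y ≠ cs J b := fun e => hJy2 (by
    have h1 : cs J (y * b) = J := by rw [← cs_cs, e, hbb]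
    have h2 := congrArg (fun T => cs T (y * b)) h1
    rw [cs_cs, h1, show y * b * (y * b) = y * y * (b * b) by
      rw [mul_assoc, ← mul_assoc b, S.b_comm]; simp [mul_assoc], S.tK.sq, mul_one] at h2
    exact h2)
  have n2 : J ≠ cs (cs J b) y := fun e => n4 (by
    have h1 := congrArg (fun T => cs T b) e
    rw [cs_cs, cs_cs, show b * (y * b) = y by rw [← S.b_comm, ← mul_assoc, S.tK.sq, one_mul]] at h1
    exact h1.symm)
  -- the diagonal homomorphism
  have hJC : ∀ j : J, (j : G) ∈ Cz a := fun j => S.tJ.le j.2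
  obtain ⟨δ, hδ⟩ : ∃ δ : ↥J →* Qo a, ∀ j : J, δ j = pr a (j : G) * pr a (cb (j : G) b) := by
    refine ⟨MonoidHom.mk' (fun j : J => pr a (j : G) * pr a (cb (j : G) b)) fun i j => ?_, fun j => rfl⟩
    rw [Subgroup.coe_mul, pr_mul (hJC i) (hJC j), cb_mul, pr_mul (cb_mem_Cz (hJC i) S.bCa) (cb_mem_Cz (hJC j) S.bCa)]
    exact Commute.mul_mul_mul_comm
      (S.tJ.pr_commute S.tJb (Ne.symm hb) j.2 (cb_mem_cs (g := b) i.2)) _ _
  have hperf : ⁅δ.range, δ.range⁆ = δ.range := by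
    haveI := S.tJ.isPerfect
    rw [MonoidHom.range_eq_map, ← Subgroup.map_commutator, ← commutator_def, Group.IsPerfect.commutator_eq_top]
  have hsur : δ.range ≤ prS a (Cz a ⊓ Cz b) := by
    rw [MonoidHom.range_eq_map, Subgroup.map_le_iff_le_comap]
    intro j _
    have hW := S.tJ.le_of_twoEl (W := ((prS a (Cz a ⊓ Cz b)).comap δ).map J.subtype) (fun i hi hi2 => ?_) j.2
    · obtain ⟨w, hw, hwe⟩ := hW
      rwa [show j = w from Subtype.ext hwe.symm]
    refine ⟨⟨i, hi⟩, Subgroup.mem_comap.2 ?_, rfl⟩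
    have hiC := S.tJ.le hi
    have hiC' := cb_mem_Cz hiC S.bCa
    have hcm := S.tJ.pr_commute S.tJb (Ne.symm hb) hi (cb_mem_cs (g := b) hi)
    obtain ⟨i', hi'2, hi'C, hi'i, he⟩ := lift_commuting hi2 hiC (twoEl_cb b hi2) hiC' hcm
    have hprod : TwoEl (i * i') := by
      obtain ⟨k, hk⟩ := hi2
      obtain ⟨l, hl⟩ := hi'2
      refine ⟨k + l, ?_⟩
      rw [(show Commute i i' from mem_Cz.1 hi'i).mul_pow, pow_add, pow_mul i, hk, one_pow, one_mul,
        ← pow_add, add_comm k l, pow_add, pow_mul, hl, one_pow]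
    have hxe : pr a (i * i') = pr a i * pr a (cb i b) := by rw [pr_mul hiC hi'C, he]
    have hbp : pr a b * pr a b = 1 := by rw [← pr_mul S.bCa S.bCa, S.tK.sq, pr_one]
    have hbinv : (pr a b)⁻¹ = pr a b := inv_eq_of_mul_eq_one_right hbp
    obtain ⟨x', -, hx'a, hx'b, hx'e⟩ := lift_commuting S.tK.twoEl_self S.bCa hprod (mul_mem hiC hi'C) (by
      rw [hxe]
      have hci : pr a (cb i b) = pr a b * pr a i * pr a b := by rw [pr_cb hiC S.bCa, hbinv]
      conv_lhs => rw [hcm]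
      rw [hci]
      simp only [mul_assoc, hbp, mul_one]
      rw [← mul_assoc (pr a b) (pr a b), hbp, one_mul])
    rw [hδ, ← hxe, ← hx'e]
    exact pr_mem_prS inf_le_left ⟨hx'a, hx'b⟩
  have hcomm : ∀ p ∈ δ.range, ∀ q ∈ δ.range,
      p * ((pr a y)⁻¹ * q * pr a y) = ((pr a y)⁻¹ * q * pr a y) * p := by
    rintro _ ⟨i, rfl⟩ _ ⟨j, rfl⟩
    have hj' : (pr a y)⁻¹ * δ j * pr a y = pr a (cb (j : G) y) * pr a (cb (cb (j : G) b) y) := by
      rw [hδ, pr_cb (hJC j) S.ya, pr_cb (cb_mem_Cz (hJC j) S.bCa) S.ya]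
      group
    rw [hj', hδ]
    have a1 : Commute (pr a (i : G)) (pr a (cb (j : G) y)) :=
      S.tJ.pr_commute S.tJy n1 i.2 (cb_mem_cs j.2)
    have a2 : Commute (pr a (i : G)) (pr a (cb (cb (j : G) b) y)) :=
      S.tJ.pr_commute tJby n2 i.2 (cb_mem_cs (cb_mem_cs j.2))
    have a3 : Commute (pr a (cb (i : G) b)) (pr a (cb (j : G) y)) :=
      S.tJb.pr_commute S.tJy (Ne.symm n4) (cb_mem_cs i.2) (cb_mem_cs j.2)
    have a4 : Commute (pr a (cb (i : G) b)) (pr a (cb (cb (j : G) b) y)) :=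
      S.tJb.pr_commute tJby n3 (cb_mem_cs i.2) (cb_mem_cs (cb_mem_cs j.2))
    exact ((a1.mul_right a2).mul_left (a3.mul_right a4)).eq
  have hfix := S.fix_of_diag δ.range hperf hsur hcomm
  -- exact elements in a 2-group containing `y`
  obtain ⟨P, hP, hyP⟩ := exists_sylIn_ge (isPGroup_zpowers S.y2) (Subgroup.zpowers_le.2 S.ya)
  have hyP' := hyP (Subgroup.mem_zpowers y)
  obtain ⟨k, -, hbk⟩ := S.exists_k
  have hbP : b ∈ P := hbk ▸ pow_mem hyP' _
  obtain ⟨c, hc, hca⟩ := S.tJ.exists_order_four (S.tJ.sylIn_inf hP)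
  obtain ⟨hcP, hcJ⟩ := hc
  have hcbP : ∀ {x g : G}, x ∈ P → g ∈ P → cb x g ∈ P := fun hx hg => mul_mem (mul_mem (inv_mem hg) hx) hg
  have hsqc : ∀ g ∈ Cz a, cb c g * cb c g = a := fun g hg => by
    rw [← cb_mul, hca, cb_eq_self.2 hg]
  obtain ⟨c', hc'⟩ : ∃ c', c' = cb c b := ⟨_, rfl⟩
  have hc'J : c' ∈ cs J b := hc' ▸ cb_mem_cs hcJ
  have hc'P : c' ∈ P := hc' ▸ hcbP hcP hbP
  have hcc' : c * c' = c' * c := S.tJ.commute S.tJb (Ne.symm hb) hP.isPGroup hP.le hcP hc'P hcJ hc'J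
  obtain ⟨d, hd⟩ : ∃ d, d = c * c' := ⟨_, rfl⟩
  have hdP : d ∈ P := hd ▸ mul_mem hcP hc'P
  have hdb : d ∈ Cz b := by
    refine mem_Cz_comm (cb_eq_self.1 ?_)
    rw [hd, cb_mul, hc', cb_cb, S.tK.sq, cb_one, ← hc', hcc']
  have hdK : cs K d = K := hfix d (hP.le hdP) hdb (twoEl_of_mem hP.isPGroup hdP)
    ⟨⟨c, hcJ⟩, by rw [hδ, hd, pr_mul (hP.le hcP) (hP.le hc'P), hc']⟩
  obtain ⟨w, hw⟩ : ∃ w, w = d⁻¹ * cb d y := ⟨_, rfl⟩
  have hwK : w ∈ K := by
    rw [hw, show d⁻¹ * cb d y = (cb y d)⁻¹ * y by simp [cb, mul_assoc]]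
    exact mul_mem (inv_mem (hdK ▸ cb_mem_cs S.yK)) S.yK
  have hd'P : cb d y ∈ P := hcbP hdP hyP'
  have hd2 : d * d = 1 := by
    calc d * d = c * (c' * c) * c' := by rw [hd]; simp [mul_assoc]
      _ = (c * c) * (c' * c') := by rw [← hcc']; simp [mul_assoc]
      _ = 1 := by rw [hca, hc', hsqc b S.bCa, S.tJ.sq]
  have hdd : d * cb d y = cb d y * d := by
    have h1 : ∀ {L : Subgroup G} {z : G}, TC a L → z ∈ P → z ∈ L → J ≠ L → cs J b ≠ L → Commute d z := by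
      intro L z hL hzP hzL e1 e2
      rw [hd]
      exact Commute.mul_left (S.tJ.commute hL e1 hP.isPGroup hP.le hcP hzP hcJ hzL)
        (S.tJb.commute hL e2 hP.isPGroup hP.le hc'P hzP hc'J hzL)
    rw [hd, cb_mul, ← hd]
    exact ((h1 S.tJy (hcbP hcP hyP') (cb_mem_cs hcJ) n1 (Ne.symm n4)).mul_right
      (h1 tJby (hcbP hc'P hyP') (cb_mem_cs hc'J) n2 n3)).eq
  have hw2 : w * w = 1 := by
    have hdi : d⁻¹ = d := inv_eq_of_mul_eq_one_right hd2
    rw [hw, hdi]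
    calc d * cb d y * (d * cb d y) = d * (cb d y * d) * cb d y := by simp [mul_assoc]
      _ = (d * d) * (cb d y * cb d y) := by rw [← hdd]; simp [mul_assoc]
      _ = 1 := by rw [hd2, ← cb_mul, hd2]; simp [cb]
  rcases S.tK.eq_of_sq hwK hw2 with e | e
  · -- `d` fixed by `y`: `c` would centralize `J`
    rw [hw, inv_mul_eq_one] at e
    refine S.tJ.not_cent hcJ (twoEl_of_mem hP.isPGroup hcP) (by rw [hca]; exact S.tJ.ne_one) ?_
    have e2 : c = cb c y * cb c' y * c'⁻¹ := by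
      rw [← cb_mul, ← hd, ← e, hd, mul_inv_cancel_right]
    intro j hj
    have k1 : Commute (pr a j) (pr a (cb c y)) := S.tJ.pr_commute S.tJy n1 hj (cb_mem_cs hcJ)
    have k2 : Commute (pr a j) (pr a (cb c' y)) := S.tJ.pr_commute tJby n2 hj (cb_mem_cs hc'J)
    have k3 : Commute (pr a j) (pr a c') := S.tJ.pr_commute S.tJb (Ne.symm hb) hj hc'J
    have hcy := cb_mem_Cz (hP.le hcP) S.ya
    have hc'y := cb_mem_Cz (hP.le hc'P) S.ya
    rw [e2, pr_mul (mul_mem hcy hc'y) (inv_mem (hP.le hc'P)), pr_mul hcy hc'y, pr_inv (hP.le hc'P)]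
    exact ((k1.mul_right k2).mul_right k3.inv_right).symm.eq
  · refine hb ?_
    have h1 : cs J d = J := by
      rw [hd, ← cs_cs, S.tJ.normalizes S.tJ hcJ, S.tJ.normalizes S.tJb hc'J]
    have h2 : cs J (cb d y) = J := by
      rw [hd, cb_mul, ← cs_cs, S.tJ.normalizes S.tJy (cb_mem_cs hcJ),
        S.tJ.normalizes tJby (cb_mem_cs hc'J)]
    rw [← e, hw, ← cs_cs, cs_inv_self h1, h2]

/-- The involution of `K` acts nontrivially on `J`. -/
theorem b_act (S : Mov a b y J K) : ¬ ∀ j ∈ J, pr a (cb j b) = pr a j := by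
  intro htriv
  have hperf : ⁅prS a J, prS a J⁆ = prS a J := by
    rw [prS, ← Subgroup.map_commutator, pComponent_perfect (p := 2) S.tJ.comp.2]
  have hsur : prS a J ≤ prS a (Cz a ⊓ Cz b) := by
    intro q hq
    obtain ⟨j, hj, rfl⟩ := (mem_prS S.tJ.le).1 hq
    have hW := S.tJ.le_of_twoEl
      (W := ((prS a (Cz a ⊓ Cz b)).comap (QuotientGroup.mk' _)).map (Cz a).subtype) (fun i hi hi2 => ?_) hj
    · obtain ⟨w, hw, hwe⟩ := hW
      rw [← hwe, Subgroup.subtype_apply, ← pr_mk]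
      exact Subgroup.mem_comap.1 hw
    have hiC := S.tJ.le hi
    obtain ⟨x', -, hxa, hxb, hxe⟩ := lift_commuting S.tK.twoEl_self S.bCa hi2 hiC (by
      have h1 := htriv i hi
      rw [pr_cb hiC S.bCa] at h1
      conv_lhs => rw [← h1]
      group)
    exact ⟨⟨i, hiC⟩, Subgroup.mem_comap.2 (by rw [pr_mk, ← hxe]; exact pr_mem_prS inf_le_left ⟨hxa, hxb⟩), rfl⟩
  have n1 : J ≠ cs J y := Ne.symm S.move
  have hfix := S.fix_of_diag (prS a J) hperf hsur (by
    intro p hp q hq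
    obtain ⟨i, hi, rfl⟩ := (mem_prS S.tJ.le).1 hp
    obtain ⟨j, hj, rfl⟩ := (mem_prS S.tJ.le).1 hq
    rw [← pr_cb (S.tJ.le hj) S.ya]
    exact S.tJ.pr_commute S.tJy n1 hi (cb_mem_cs hj))
  obtain ⟨P, hP, hyP⟩ := exists_sylIn_ge (isPGroup_zpowers S.y2) (Subgroup.zpowers_le.2 S.ya)
  have hyP' := hyP (Subgroup.mem_zpowers y)
  obtain ⟨k, -, hbk⟩ := S.exists_k
  have hbP : b ∈ P := hbk ▸ pow_mem hyP' _
  obtain ⟨c, ⟨hcP, hcJ⟩, hca⟩ := S.tJ.exists_order_four (S.tJ.sylIn_inf hP)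
  have hcbP : ∀ {x g : G}, x ∈ P → g ∈ P → cb x g ∈ P := fun hx hg => mul_mem (mul_mem (inv_mem hg) hx) hg
  have hcb : c ∈ Cz b := mem_Cz_comm (cb_eq_self.1
    (pr_inj hP.isPGroup hP.le (hcbP hcP hbP) hcP (htriv c hcJ)))
  have hcK : cs K c = K := hfix c (hP.le hcP) hcb (twoEl_of_mem hP.isPGroup hcP) (pr_mem_prS S.tJ.le hcJ)
  obtain ⟨w, hw⟩ : ∃ w, w = c⁻¹ * cb c y := ⟨_, rfl⟩
  have hwK : w ∈ K := by
    rw [hw, show c⁻¹ * cb c y = (cb y c)⁻¹ * y by simp [cb, mul_assoc]]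
    exact mul_mem (inv_mem (hcK ▸ cb_mem_cs S.yK)) S.yK
  have hcy : c * cb c y = cb c y * c :=
    S.tJ.commute S.tJy n1 hP.isPGroup hP.le hcP (hcbP hcP hyP') hcJ (cb_mem_cs hcJ)
  have hw2 : w * w = 1 := by
    rw [hw]
    have hcm : Commute c⁻¹ (cb c y) := (show Commute c (cb c y) from hcy).inv_left
    rw [mul_assoc, ← mul_assoc (cb c y), ← hcm.eq]
    rw [mul_assoc c⁻¹, ← cb_mul, hca, cb_eq_self.2 S.ya, ← mul_assoc, ← mul_inv_rev, hca,
      inv_mul_cancel]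
  have hc2 := twoEl_of_mem hP.isPGroup hcP
  have hcne : c * c ≠ 1 := by rw [hca]; exact S.tJ.ne_one
  rcases S.tK.eq_of_sq hwK hw2 with e | e
  · rw [hw, inv_mul_eq_one] at e
    exact hcne (S.tJ.sq_eq_one_of_inter S.tJy n1 hcJ (e ▸ cb_mem_cs hcJ) hc2)
  · refine S.tJ.not_cent hcJ hc2 hcne fun j hj => ?_
    have hjC := S.tJ.le hj
    have hcC := hP.le hcP
    have hc'C := cb_mem_Cz hcC S.ya
    have k1 : Commute (pr a j) (pr a (cb c y)) := S.tJ.pr_commute S.tJy n1 hj (cb_mem_cs hcJ)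
    have k2 : Commute (pr a j) (pr a b) := by
      have h1 := htriv j hj
      rw [pr_cb hjC S.bCa] at h1
      show pr a j * pr a b = pr a b * pr a j
      conv_rhs => rw [← h1]
      group
    have e2 : c = cb c y * b⁻¹ := by
      rw [← e, hw, mul_inv_rev, inv_inv, mul_inv_cancel_left]
    rw [e2, pr_mul hc'C (inv_mem S.bCa), pr_inv S.bCa]
    exact (k1.mul_right k2.inv_right).symm.eq

/-- One may assume that `y²` fixes `J`. -/
theorem reduce : ∀ {y : G}, Mov a b y J K → ∃ z, Mov a b z J K ∧ cs J (z * z) = J := by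
  suffices h : ∀ (k : ℕ) {y : G}, Mov a b y J K → orderOf y = 2 ^ k → ∃ z, Mov a b z J K ∧ cs J (z * z) = J by
    intro y S
    obtain ⟨k, hk⟩ := orderOf_twoEl S.y2
    exact h k S hk
  intro k
  induction k using Nat.strong_induction_on with
  | _ k ih =>
    intro y S hk
    by_cases h : cs J (y * y) = J
    · exact ⟨y, S, h⟩
    obtain ⟨l, hl, hb⟩ := S.exists_k
    rcases l with _ | l
    · exact absurd (by rw [← pow_two, show (2 : ℕ) = 2 ^ (0 + 1) from rfl, hb]; exact S.b_fix) h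
    have ho : orderOf (y * y) = 2 ^ (l + 2) := by
      rw [← pow_two, orderOf_pow, hl, Nat.gcd_eq_right (dvd_pow_self 2 (Nat.succ_ne_zero _)),
        pow_succ, Nat.mul_div_cancel _ two_pos]
    have hkl : l + 1 + 2 = k := Nat.pow_right_injective le_rfl (hl.symm.trans hk)
    refine ih (l + 2) (by omega) ⟨S.tJ, S.tK, S.ne, mul_mem S.yK S.yK,
      ⟨l + 2, by rw [← ho]; exact pow_orderOf_eq_one _⟩, mul_mem S.ya S.ya, ?_, h⟩ ho
    rw [ho, pow_add]
    have := Nat.two_pow_pos l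
    omega

/-- An element of order four of `J` inverted by `b`, in a 2-group containing `y`. -/
theorem exists_h (S : Mov a b y J K) (hy2 : cs J (y * y) = J) :
    ∃ (P : Subgroup G) (h : G), IsPGroup 2 P ∧ P ≤ Cz a ∧ y ∈ P ∧ h ∈ P ∧ h ∈ J ∧ h * h = a ∧
      cb h b = h * a := by
  obtain ⟨k, -, hbk⟩ := S.exists_k
  have hzC : y * y ∈ Cz a := mul_mem S.ya S.ya
  have haC := self_mem_Cz a
  have hJC : ∀ j ∈ J, j ∈ Cz a := fun j hj => S.tJ.le hj
  have hacent : ∀ q : Qo a, q * pr a a = pr a a * q := fun q => by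
    obtain ⟨x, hx, rfl⟩ := pr_surj q
    rw [← pr_mul hx haC, ← pr_mul haC hx, mem_Cz.1 hx]
  have haa : pr a a * pr a a = 1 := by rw [← pr_mul haC haC, S.tJ.sq, pr_one]
  obtain ⟨N, hN⟩ : ∃ N : Subgroup G, ∀ j, j ∈ N ↔
      j ∈ J ∧ (pr a (cb j b) = pr a j ∨ pr a (cb j b) = pr a (j * a)) := by
    refine ⟨{ carrier := {j | j ∈ J ∧ (pr a (cb j b) = pr a j ∨ pr a (cb j b) = pr a (j * a))}
              one_mem' := ⟨one_mem J, Or.inl (by simp [cb])⟩
              mul_mem' := ?_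
              inv_mem' := ?_ }, fun j => Iff.rfl⟩
    · rintro i j ⟨hi, hi'⟩ ⟨hj, hj'⟩
      refine ⟨mul_mem hi hj, ?_⟩
      have hiC := hJC i hi
      have hjC := hJC j hj
      rw [cb_mul, pr_mul (cb_mem_Cz hiC S.bCa) (cb_mem_Cz hjC S.bCa), pr_mul hiC hjC,
        pr_mul (mul_mem hiC hjC) haC, pr_mul hiC hjC]
      rw [pr_mul hiC haC] at hi'
      rw [pr_mul hjC haC] at hj'
      rcases hi' with e | e <;> rcases hj' with e' | e' <;> rw [e, e']
      · exact Or.inl rfl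
      · exact Or.inr (mul_assoc _ _ _).symm
      · right
        rw [mul_assoc (pr a i), ← hacent, ← mul_assoc]
      · left
        rw [mul_assoc (pr a i), ← mul_assoc (pr a a), ← hacent, mul_assoc (pr a j), haa, mul_one]
    · rintro i ⟨hi, hi'⟩
      refine ⟨inv_mem hi, ?_⟩
      have hiC := hJC i hi
      rw [cb_inv, pr_inv (cb_mem_Cz hiC S.bCa), pr_mul (inv_mem hiC) haC, pr_inv hiC]
      rw [pr_mul hiC haC] at hi'
      rcases hi' with e | e <;> rw [e]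
      · exact Or.inl rfl
      · right
        rw [mul_inv_rev, inv_eq_of_mul_eq_one_right haa, hacent]
  have hNJ : N ≤ J := fun j hj => ((hN j).1 hj).1
  -- `b` moves some element of `N`
  obtain ⟨j, hjN, hjne⟩ : ∃ j ∈ N, pr a (cb j b) ≠ pr a j := by
    obtain ⟨Y, hY⟩ : ∃ Y : Subgroup (Qo a), Y = prS a J ⊔ Subgroup.zpowers (pr a b) := ⟨_, rfl⟩
    obtain ⟨t, ht⟩ : ∃ t : Y, (t : Qo a) = pr a b :=
      ⟨⟨_, hY ▸ Subgroup.mem_sup_right (Subgroup.mem_zpowers _)⟩, rfl⟩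
    have hbp : pr a b * pr a b = 1 := by rw [← pr_mul S.bCa S.bCa, S.tK.sq, pr_one]
    have hnorm : Subgroup.zpowers (pr a b) ≤ Subgroup.normalizer (prS a J : Set (Qo a)) := by
      rw [Subgroup.zpowers_le]
      refine mem_normalizer_of_cj_le ?_
      rintro _ ⟨_, hq, rfl⟩
      obtain ⟨x, hx, rfl⟩ := (mem_prS S.tJ.le).1 hq
      have hb' : cs J b = J := S.b_fix
      refine (mem_prS S.tJ.le).2 ⟨cb x b, hb' ▸ cb_mem_cs hx, ?_⟩
      rw [pr_cb (hJC x hx) S.bCa]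
      show _ = pr a b * pr a x * (pr a b)⁻¹
      rw [inv_eq_of_mul_eq_one_right hbp]
    have hmemY : ∀ q ∈ Y, ∃ x ∈ J, q = pr a x ∨ q = pr a b * pr a x := by
      intro q hq
      rw [hY, sup_comm, ← SetLike.mem_coe, Subgroup.coe_mul_of_left_le_normalizer_right _ _ hnorm] at hq
      obtain ⟨q1, ⟨i, hi⟩, q2, hq2, rfl⟩ := Set.mem_mul.1 hq
      obtain ⟨x, hx, rfl⟩ := (mem_prS S.tJ.le).1 hq2
      refine ⟨x, hx, ?_⟩
      rcases Int.even_or_odd' i with ⟨l, rfl | rfl⟩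
      · left
        rw [← hi]
        show pr a b ^ (2 * l) * _ = _
        rw [zpow_mul, zpow_two, hbp, one_zpow, one_mul]
      · right
        rw [← hi]
        show pr a b ^ (2 * l + 1) * _ = _
        rw [zpow_add_one, zpow_mul, zpow_two, hbp, one_zpow, one_mul]
    have hQ0 : Cfsg.pPrimeCore 2 (Qo a) = ⊥ := pPrimeCore_quotient_eq_bot
    have hOY : Cfsg.oddCore Y = ⊥ := by
      obtain ⟨O, hO⟩ : ∃ O, O = Cfsg.oddCore Y := ⟨_, rfl⟩
      rw [← hO]
      have hOodd : (Nat.card O).Coprime 2 := hO ▸ card_pPrimeCore_coprime 2 Y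
      haveI hOn : O.Normal := hO ▸ (inferInstance : (Cfsg.pPrimeCore 2 Y).Normal)
      have hJY : prS a J ≤ Y := hY ▸ le_sup_left
      haveI hJn : ((prS a J).subgroupOf Y).Normal := by
        rw [Subgroup.normal_subgroupOf_iff_le_normalizer hJY, hY]
        exact sup_le Subgroup.le_normalizer hnorm
      have hle : O.map Y.subtype ≤ prS a J := by
        rintro _ ⟨q, hq, rfl⟩
        obtain ⟨x, hx, e | e⟩ := hmemY q q.2
        · show (q : Qo a) ∈ _
          rw [e]; exact pr_mem_prS S.tJ.le hx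
        · -- the image of `q` in `Y / J̄` has odd order and order dividing two
          have h1 : (QuotientGroup.mk' ((prS a J).subgroupOf Y)) q = 1 := by
            rw [← orderOf_eq_one_iff]
            refine Nat.eq_one_of_dvd_coprimes hOodd
              ((orderOf_map_dvd _ q).trans (Subgroup.orderOf_dvd_natCard O hq))
              (orderOf_dvd_of_pow_eq_one ?_)
            rw [← map_pow, QuotientGroup.mk'_apply, QuotientGroup.eq_one_iff, Subgroup.mem_subgroupOf,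
              Subgroup.coe_pow, e, pow_two]
            have h2 : pr a b * pr a x * pr a b ∈ prS a J := by
              rw [← mul_left_inj (pr a b)] at hbp
              refine (mem_prS S.tJ.le).2 ⟨cb x b, (show cs J b = J from S.b_fix) ▸ cb_mem_cs hx, ?_⟩
              rw [pr_cb (hJC x hx) S.bCa, inv_eq_of_mul_eq_one_right
                (by rw [← pr_mul S.bCa S.bCa, S.tK.sq, pr_one])]
            rw [← mul_assoc]
            exact mul_mem h2 (pr_mem_prS S.tJ.le hx)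
          rw [QuotientGroup.mk'_apply, QuotientGroup.eq_one_iff] at h1
          exact h1
      rw [← Subgroup.map_eq_bot_iff_of_injective _ Y.subtype_injective, eq_bot_iff, ← hQ0]
      refine piPrime_of_subnormal ?_ ?_
      · have hsn : ((O.map Y.subtype).subgroupOf (prS a J)).Normal := by
          rw [Subgroup.normal_subgroupOf_iff_le_normalizer hle]
          intro g hg
          refine mem_normalizer_of_cj_le ?_
          rintro _ ⟨_, ⟨q, hq, rfl⟩, rfl⟩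
          exact ⟨⟨g, hJY hg⟩ * q * (⟨g, hJY hg⟩)⁻¹, hOn.conj_mem q hq _, rfl⟩
        exact Subgroup.IsSubnormal.step _ _ hle S.tJ.prS_component.1 hsn
      · rw [Subgroup.card_map_of_injective Y.subtype_injective]; exact hOodd
    have htne : t ≠ 1 := fun e => by
      rw [e, Subgroup.coe_one] at ht
      exact S.tK.ne_one (twoEl_mem_OC S.tK.twoEl_self ((pr_eq_one S.bCa).1 ht.symm))
    have ht2 : orderOf t = 2 := orderOf_eq_prime (Subtype.ext (by
      rw [Subgroup.coe_pow, ht, pow_two, hbp, Subgroup.coe_one])) htne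
    have hniso : ¬ Cfsg.IsIsolatedInvolution t := by
      intro hi
      refine S.b_act fun x hx => ?_
      have h1 := Char.zStar_isolated hi ⟨pr a x, hY ▸ Subgroup.mem_sup_left (pr_mem_prS S.tJ.le hx)⟩
      rw [hOY, Subgroup.mem_bot, Subtype.ext_iff] at h1
      simp only [Subgroup.coe_mul, Subgroup.coe_inv, Subgroup.coe_one, ht] at h1
      rw [mul_inv_eq_one, mul_inv_eq_iff_eq_mul] at h1
      rw [pr_cb (hJC x hx) S.bCa, mul_assoc, inv_mul_eq_iff_eq_mul, h1]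
    obtain ⟨g, hg, hgne⟩ : ∃ g : Y, Commute t (g * t * g⁻¹) ∧ g * t * g⁻¹ ≠ t := by
      by_contra hcon
      exact hniso ⟨ht2, fun g hg => by_contra fun hne => hcon ⟨g, hg, hne⟩⟩
    have hg' : Commute (pr a b) ((g : Qo a) * pr a b * (g : Qo a)⁻¹) := by
      have := congrArg Subtype.val hg.eq
      simp only [Subgroup.coe_mul, Subgroup.coe_inv, ht] at this
      exact this
    have hgne' : (g : Qo a) * pr a b * (g : Qo a)⁻¹ ≠ pr a b := fun e => hgne (Subtype.ext (by simpa [ht] using e))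
    obtain ⟨x, hx, hgx⟩ := hmemY g g.2
    have hxC := hJC x hx
    have hxb : cb x b ∈ J := (show cs J b = J from S.b_fix) ▸ cb_mem_cs hx
    have hbinv : (pr a b)⁻¹ = pr a b := inv_eq_of_mul_eq_one_right hbp
    obtain ⟨u, hu⟩ : ∃ u, u = pr a x * pr a b * (pr a x)⁻¹ * pr a b := ⟨_, rfl⟩
    have hcm : Commute (pr a x * pr a b * (pr a x)⁻¹) (pr a b) := by
      rcases hgx with e | e
      · rw [← e]; exact hg'.symm
      · have e' : pr a x = pr a b * (g : Qo a) := by rw [e, ← mul_assoc, hbp, one_mul]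
        rw [e', mul_inv_rev, hbinv]
        show (pr a b * (g : Qo a) * pr a b * ((g : Qo a)⁻¹ * pr a b)) * pr a b = _
        have h3 := hg'.eq
        simp only [mul_assoc] at h3 ⊢
        rw [hbp, mul_one, ← mul_assoc (pr a b) (pr a b), hbp, one_mul]
        exact h3
    have hune : u ≠ 1 := fun e => by
      have e' : pr a x * pr a b * (pr a x)⁻¹ = pr a b := by
        rw [hu, mul_eq_one_iff_eq_inv, hbinv] at e; exact e
      apply hgne'
      rcases hgx with e2 | e2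
      · rw [e2, e']
      · rw [e2, mul_inv_rev, hbinv]
        calc pr a b * pr a x * pr a b * ((pr a x)⁻¹ * pr a b)
            = pr a b * (pr a x * pr a b * (pr a x)⁻¹) * pr a b := by group
          _ = pr a b := by rw [e', hbp, one_mul]
    have huu : u * u = 1 := by
      have hp1 : (pr a x * pr a b * (pr a x)⁻¹) * (pr a x * pr a b * (pr a x)⁻¹) = 1 := by
        calc (pr a x * pr a b * (pr a x)⁻¹) * (pr a x * pr a b * (pr a x)⁻¹)
            = pr a x * (pr a b * pr a b) * (pr a x)⁻¹ := by group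
          _ = 1 := by rw [hbp, mul_one, mul_inv_cancel]
      rw [hu, ← hcm.mul_mul_mul_comm, hp1, hbp, one_mul]
    have huJ : u = pr a (x * (cb x b)⁻¹) := by
      rw [pr_mul hxC (inv_mem (cb_mem_Cz hxC S.bCa)), pr_inv (cb_mem_Cz hxC S.bCa), pr_cb hxC S.bCa,
        hu, mul_inv_rev, mul_inv_rev, hbinv, hbinv]
      group
    obtain ⟨P0, hP0, hP0C, -, -, hsur⟩ := lift_two (S := Subgroup.zpowers a) (isPGroup_zpowers S.tJ.twoEl_self)
      (Subgroup.zpowers_le.2 haC) (T := Subgroup.zpowers (pr a a) ⊔ Subgroup.zpowers u) (by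
        refine IsPGroup.to_sup_of_normal_right' (twoEl_pr haC S.tJ.twoEl_self) ?_ ?_
        · rintro ⟨_, i, rfl⟩
          refine ⟨1, Subtype.ext ?_⟩
          show (u ^ i) ^ 2 ^ 1 = 1
          rw [pow_one, ← zpow_natCast, ← zpow_mul, mul_comm, zpow_mul, zpow_natCast, pow_two, huu, one_zpow]
        · refine le_trans ?_ (Subgroup.centralizer_le_normalizer _)
          rw [Subgroup.zpowers_le]
          refine Subgroup.mem_centralizer_iff.2 ?_
          rintro _ ⟨i, rfl⟩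
          exact (Commute.zpow_left (show Commute u (pr a a) from hacent u) i).eq)
      (by
        intro q hq
        obtain ⟨w, ⟨i, rfl⟩, rfl⟩ := (mem_prS (Subgroup.zpowers_le.2 haC)).1 hq
        refine Subgroup.mem_sup_left ⟨i, ?_⟩
        show pr a a ^ i = pr a (a ^ i)
        rw [pr_coe haC, pr_coe (zpow_mem haC i), ← map_zpow]; rfl)
    obtain ⟨x0, hx0, hx0e⟩ := hsur u (Subgroup.mem_sup_right (Subgroup.mem_zpowers u))
    have hx0J : x0 ∈ J := S.tJ.mem_of_pr (twoEl_of_mem hP0 hx0) (hP0C hx0) (by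
      rw [hx0e, huJ]; exact pr_mem_prS S.tJ.le (mul_mem hx (inv_mem hxb)))
    have hx0sq : x0 * x0 = 1 := pr_inj hP0 hP0C (mul_mem hx0 hx0) (one_mem _) (by
      rw [pr_mul (hP0C hx0) (hP0C hx0), hx0e, huu, pr_one])
    have hua : u = pr a a := by
      rcases S.tJ.eq_of_sq hx0J hx0sq with e | e
      · exact absurd (by rw [← hx0e, e, pr_one]) hune
      · rw [← hx0e, e]
    have e1 : pr a x * pr a b = pr a a * pr a b * pr a x := by
      rw [← hua, hu]
      calc pr a x * pr a b = pr a x * pr a b * (pr a x)⁻¹ * (pr a b * pr a b) * pr a x := by rw [hbp]; group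
        _ = _ := by group
    have e2 : pr a (cb x b) = pr a (x * a) := by
      rw [pr_cb hxC S.bCa, hbinv, pr_mul hxC haC, hacent]
      calc pr a b * pr a x * pr a b = pr a b * (pr a x * pr a b) := mul_assoc _ _ _
        _ = pr a b * (pr a a * pr a b * pr a x) := by rw [e1]
        _ = pr a a * (pr a b * pr a b) * pr a x := by
          rw [← mul_assoc (pr a b) (pr a a * pr a b), ← mul_assoc (pr a b) (pr a a), hacent (pr a b)]
          simp only [mul_assoc]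
        _ = pr a a * pr a x := by rw [hbp, mul_one]
    refine ⟨x, (hN x).2 ⟨hx, Or.inr e2⟩, ?_⟩
    rw [e2, pr_mul hxC haC, Ne, mul_eq_left]
    intro e
    exact S.tJ.ne_one (twoEl_mem_OC S.tJ.twoEl_self ((pr_eq_one haC).1 e))
  -- the 2-part of `j` is moved as well
  have hpN : ∀ x ∈ N, pr a (cb x b) ≠ pr a x → pr a (cb x b) = pr a x * pr a a := fun x hx hne => by
    rw [← pr_mul (hJC x (hNJ hx)) haC]
    exact ((hN x).1 hx).2.resolve_left hne
  have hpow : ∀ (x : G), x ∈ N → pr a (cb x b) = pr a x * pr a a → ∀ n : ℕ,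
      pr a (cb (x ^ n) b) = pr a (x ^ n) * pr a a ^ n := by
    intro x hx he n
    induction n with
    | zero => simp [cb]
    | succ n ih =>
      have hxn := hJC _ (pow_mem (hNJ hx) n)
      have hx1 := hJC x (hNJ hx)
      rw [pow_succ, cb_mul, pr_mul (cb_mem_Cz hxn S.bCa) (cb_mem_Cz hx1 S.bCa), ih, he, pr_mul hxn hx1, pow_succ]
      simp only [mul_assoc]
      rw [← mul_assoc (pr a a ^ n), ((show Commute (pr a x) (pr a a) from hacent _).pow_right n).eq.symm]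
      simp only [mul_assoc]
  obtain ⟨j2, hj2N, hj22, hj2e⟩ : ∃ j2 ∈ N, TwoEl j2 ∧ pr a (cb j2 b) = pr a j2 * pr a a := by
    obtain ⟨e, o, ho, hoe⟩ := Nat.exists_eq_two_pow_mul_odd (orderOf_pos j).ne'
    refine ⟨j ^ o, pow_mem hjN o, ⟨e, ?_⟩, ?_⟩
    · rw [← pow_mul, mul_comm, ← hoe, pow_orderOf_eq_one]
    · rw [hpow j hjN (hpN j hjN hjne) o]
      obtain ⟨w, rfl⟩ := ho
      rw [pow_succ (pr a a), pow_mul (pr a a), pow_two (pr a a), haa, one_pow, one_mul]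
  have hz2 : TwoEl (y * y) := by
    obtain ⟨l, hl⟩ := S.y2
    exact ⟨l, by rw [← pow_two, ← pow_mul, mul_comm, pow_mul, hl, one_pow]⟩
  have hzN : Subgroup.zpowers (y * y) ≤ Subgroup.normalizer (N : Set G) := by
    rw [Subgroup.zpowers_le]
    refine inv_inv (y * y) ▸ inv_mem (mem_normalizer_of_cj_le ?_)
    intro w hw
    rw [mem_cj, inv_inv] at hw
    obtain ⟨hwJ, hw'⟩ := (hN _).1 hw
    refine (hN w).2 ?_
    have hwJ' : w ∈ J := by
      rw [← hy2, mem_cs]; exact hwJ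
    refine ⟨hwJ', ?_⟩
    have hwC := hJC w hwJ'
    have hz : y * y * b = b * (y * y) := by
      rw [← mul_assoc b, S.b_comm, mul_assoc, mul_assoc, S.b_comm]
    have hcomm : cb (y * y * w * (y * y)⁻¹) b = y * y * cb w b * (y * y)⁻¹ := by
      have h1 : b⁻¹ * (y * y) = y * y * b⁻¹ := by
        rw [inv_mul_eq_iff_eq_mul, ← mul_assoc, ← hz, mul_inv_cancel_right]
      have h2 : (y * y)⁻¹ * b = b * (y * y)⁻¹ := by
        rw [inv_mul_eq_iff_eq_mul, ← mul_assoc, hz, mul_inv_cancel_right]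
      calc cb (y * y * w * (y * y)⁻¹) b = b⁻¹ * (y * y) * w * ((y * y)⁻¹ * b) := by simp [cb, mul_assoc]
        _ = y * y * b⁻¹ * w * (b * (y * y)⁻¹) := by rw [h1, h2]
        _ = _ := by simp [cb, mul_assoc]
    rw [hcomm, pr_mul (mul_mem hzC (cb_mem_Cz hwC S.bCa)) (inv_mem hzC), pr_mul hzC (cb_mem_Cz hwC S.bCa),
      pr_mul (mul_mem (mul_mem hzC hwC) (inv_mem hzC)) haC, pr_mul (mul_mem hzC hwC) (inv_mem hzC),
      pr_mul hzC hwC] at hw'
    rw [pr_mul hwC haC]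
    rcases hw' with e | e
    · exact Or.inl (mul_left_cancel (mul_right_cancel e))
    · right
      refine mul_left_cancel (mul_right_cancel (a := pr a (y * y) * _) (b := pr a (y * y)⁻¹) ?_)
      rw [e, mul_assoc, hacent]
      simp only [mul_assoc]
  obtain ⟨P0, hP0, hzP0⟩ := exists_sylIn_ge (isPGroup_zpowers hz2)
    (le_sup_right : Subgroup.zpowers (y * y) ≤ N ⊔ Subgroup.zpowers (y * y))
  have hsN := hP0.inf_normal le_sup_left (sup_le Subgroup.le_normalizer hzN)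
  obtain ⟨c, hcN, hcle⟩ := hsN.conj_le (isPGroup_zpowers hj22) (Subgroup.zpowers_le.2 hj2N)
  obtain ⟨j0, hj0⟩ : ∃ j0, j0 = c * j2 * c⁻¹ := ⟨_, rfl⟩
  have hj0mem : j0 ∈ P0 ⊓ N := hj0 ▸ hcle (conj_mem_cj (Subgroup.mem_zpowers j2))
  have hj0e : pr a (cb j0 b) = pr a j0 * pr a a := by
    have hcC := hJC c (hNJ hcN)
    have hjC := hJC j2 (hNJ hj2N)
    rw [hj0, cb_mul, cb_mul, cb_inv, pr_mul (mul_mem (cb_mem_Cz hcC S.bCa) (cb_mem_Cz hjC S.bCa))
      (inv_mem (cb_mem_Cz hcC S.bCa)), pr_mul (cb_mem_Cz hcC S.bCa) (cb_mem_Cz hjC S.bCa),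
      pr_inv (cb_mem_Cz hcC S.bCa), hj2e, pr_mul (mul_mem hcC hjC) (inv_mem hcC), pr_mul hcC hjC, pr_inv hcC]
    obtain ⟨-, e | e⟩ := (hN c).1 hcN
    · rw [e]; simp only [mul_assoc]; rw [← hacent (pr a c)⁻¹]
    · rw [e, pr_mul hcC haC, mul_inv_rev, inv_eq_of_mul_eq_one_right haa]
      simp only [mul_assoc]
      rw [← mul_assoc (pr a a) (pr a a), haa, one_mul, ← mul_assoc (pr a a) (pr a j2), ← hacent (pr a j2),
        mul_assoc, ← hacent (pr a c)⁻¹]
  have hP0C : P0 ≤ Cz a := hP0.le.trans (sup_le (hNJ.trans S.tJ.le) (Subgroup.zpowers_le.2 hzC))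
  obtain ⟨P', hP', hP0P'⟩ := exists_sylIn_ge hP0.isPGroup hP0C
  have hzP' : y * y ∈ P' := hP0P' (hzP0 (Subgroup.mem_zpowers _))
  have hbP' : b ∈ P' := by
    rw [← hbk, pow_succ', pow_mul, pow_two]
    exact pow_mem hzP' _
  have hQ : SylIn 2 (P' ⊓ J) J := S.tJ.sylIn_inf hP'
  obtain ⟨Q, hQdef⟩ : ∃ Q, Q = P' ⊓ J := ⟨_, rfl⟩
  rw [← hQdef] at hQ
  have hQJ : Q ≤ J := hQ.le
  have hQP : Q ≤ P' := hQdef ▸ inf_le_left
  have hj0Q : j0 ∈ Q := hQdef ▸ ⟨hP0P' hj0mem.1, hNJ hj0mem.2⟩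
  have haQ : a ∈ Q := by
    obtain ⟨x, hx, hle⟩ := hQ.conj_le (isPGroup_zpowers S.tJ.twoEl_self) (Subgroup.zpowers_le.2 S.tJ.mem)
    have h1 := hle (conj_mem_cj (Subgroup.mem_zpowers a))
    rwa [show x * a * x⁻¹ = a by rw [← mem_Cz.1 (hJC x hx), mul_inv_cancel_right]] at h1
  have hbQ : ∀ w ∈ Q, cb w b ∈ Q := fun w hw => by
    rw [hQdef] at hw ⊢
    obtain ⟨hw1, hw2⟩ := Subgroup.mem_inf.1 hw
    exact Subgroup.mem_inf.2 ⟨mul_mem (mul_mem (inv_mem hbP') hw1) hbP', (show cs J b = J from S.b_fix) ▸ cb_mem_cs hw2⟩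
  obtain ⟨n, ⟨e⟩⟩ := S.tJ.sylow_quaternion' hQ
  obtain ⟨σ, hσ⟩ : ∃ σ : QuaternionGroup (2 ^ (n + 1)) → QuaternionGroup (2 ^ (n + 1)),
      σ = fun w => e ⟨cb (e.symm w : G) b, hbQ _ (e.symm w).2⟩ := ⟨_, rfl⟩
  obtain ⟨ζ, hζ⟩ : ∃ ζ : QuaternionGroup (2 ^ (n + 1)),
      ζ = QuaternionGroup.a ((2 ^ (n + 1) : ℕ) : ZMod (2 * 2 ^ (n + 1))) := ⟨_, rfl⟩
  have hζa : ζ = e ⟨a, haQ⟩ := by
    have hζ2 : ζ * ζ = 1 := by
      rw [hζ, QuaternionGroup.a_mul_a, ← Nat.cast_add, ← two_mul, ZMod.natCast_self]; rfl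
    have hζ1 : ζ ≠ 1 := by
      rw [hζ, QuaternionGroup.one_def, Ne, QuaternionGroup.a.injEq, ZMod.natCast_eq_zero_iff]
      intro h
      have := Nat.le_of_dvd (pow_pos two_pos _) h
      have := Nat.two_pow_pos (n + 1)
      omega
    have h1 : (e.symm ζ : G) * (e.symm ζ : G) = 1 := by
      rw [← Subgroup.coe_mul, ← map_mul, hζ2, map_one, Subgroup.coe_one]
    rcases S.tJ.eq_of_sq (hQJ (e.symm ζ).2) h1 with h2 | h2
    · exact absurd (by rw [← e.apply_symm_apply ζ, show e.symm ζ = 1 from Subtype.ext h2, map_one]) hζ1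
    · rw [← show e.symm ζ = ⟨a, haQ⟩ from Subtype.ext h2, e.apply_symm_apply]
  obtain ⟨h0, h0sq, h0inv⟩ := quat_exists_inverted σ (x := e ⟨j0, hj0Q⟩) (fun u v => by
      rw [hσ]; simp only
      rw [← map_mul]
      congr 1
      refine Subtype.ext ?_
      simp only [map_mul, Subgroup.coe_mul, cb_mul]) (fun u => by
      rw [hσ]
      simp only [MulEquiv.symm_apply_apply, cb_cb, S.tK.sq, cb_one]
      exact e.apply_symm_apply u) (by
      rw [hσ, ← hζ, hζa, ← map_mul]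
      simp only [MulEquiv.symm_apply_apply]
      congr 1
      refine Subtype.ext ?_
      show cb j0 b = j0 * a
      refine pr_inj hP'.isPGroup hP'.le (hQP (hbQ j0 hj0Q)) (mul_mem (hQP hj0Q) (hQP haQ)) ?_
      rw [hj0e, pr_mul (hJC j0 (hQJ hj0Q)) haC])
  rw [← hζ, hζa] at h0sq h0inv
  obtain ⟨h, hh⟩ : ∃ h : Q, h = e.symm h0 := ⟨_, rfl⟩
  have hhsq : (h : G) * h = a := by
    have := congrArg (fun w => ((e.symm w : Q) : G)) h0sq
    simpa [hh, map_mul] using this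
  have hhinv : cb (h : G) b = h * a := by
    rw [hσ] at h0inv
    have := congrArg (fun w => ((e.symm w : Q) : G)) h0inv
    simpa [hh, map_mul] using this
  -- a 2-group containing `y` and a representative of `h`
  have hQy : cs Q y ≤ cs J y := cj_mono hQJ _
  have hQC : Q ≤ Cz a := hQJ.trans S.tJ.le
  have hQyC : cs Q y ≤ Cz a := hQy.trans S.tJy.le
  have hQz : cs Q (y * y) = Q := by
    have e1 : cs Q (y * y) ≤ Q := by
      intro w hw
      rw [mem_cs] at hw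
      rw [hQdef] at hw ⊢
      refine ⟨?_, ?_⟩
      · have := mul_mem (mul_mem (inv_mem hzP') hw.1) hzP'
        simpa [mul_assoc] using this
      · show w ∈ J
        rw [← hy2, mem_cs]; exact hw.2
    exact cj_eq_of_cj_le e1
  have hT0 : IsPGroup 2 (prS a Q ⊔ prS a (cs Q y) : Subgroup (Qo a)) := by
    refine IsPGroup.to_sup_of_normal_right' (isPGroup_prS hQ.isPGroup) (isPGroup_prS (isPGroup_cj hQ.isPGroup _)) ?_
    refine le_trans ?_ (Subgroup.centralizer_le_normalizer _)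
    intro q hq
    obtain ⟨x, hx, rfl⟩ := (mem_prS hQC).1 hq
    refine Subgroup.mem_centralizer_iff.2 fun r hr => ?_
    obtain ⟨w, hw, rfl⟩ := (mem_prS hQyC).1 hr
    exact (S.tJ.pr_commute S.tJy (Ne.symm S.move) (hQJ hx) (hQy hw)).symm
  have hyT : Subgroup.zpowers (pr a y) ≤
      Subgroup.normalizer ((prS a Q ⊔ prS a (cs Q y) : Subgroup (Qo a)) : Set (Qo a)) := by
    rw [Subgroup.zpowers_le]
    refine inv_inv (pr a y) ▸ inv_mem (mem_normalizer_of_cj_le ?_)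
    rw [cj_sup, sup_le_iff]
    constructor
    · rintro _ ⟨q, hq, rfl⟩
      obtain ⟨x, hx, rfl⟩ := (mem_prS hQC).1 hq
      refine Subgroup.mem_sup_right ((mem_prS hQyC).2 ⟨cb x y, cb_mem_cs hx, ?_⟩)
      rw [pr_cb (hQC hx) S.ya]
      show _ = (pr a y)⁻¹ * pr a x * (pr a y)⁻¹⁻¹
      rw [inv_inv]
    · rintro _ ⟨q, hq, rfl⟩
      obtain ⟨x, hx, rfl⟩ := (mem_prS hQyC).1 hq
      refine Subgroup.mem_sup_left ((mem_prS hQC).2 ⟨cb x y, ?_, ?_⟩)
      · have := cb_mem_cs (g := y) hx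
        rwa [cs_cs, hQz] at this
      · rw [pr_cb (hQyC hx) S.ya]
        show _ = (pr a y)⁻¹ * pr a x * (pr a y)⁻¹⁻¹
        rw [inv_inv]
  obtain ⟨P, hP, hPC, hyP, -, hsur⟩ := lift_two (isPGroup_zpowers S.y2) (Subgroup.zpowers_le.2 S.ya)
    (T := Subgroup.zpowers (pr a y) ⊔ (prS a Q ⊔ prS a (cs Q y)))
    (IsPGroup.to_sup_of_normal_right' (twoEl_pr S.ya S.y2) hT0 hyT) (by
      intro q hq
      obtain ⟨w, ⟨i, rfl⟩, rfl⟩ := (mem_prS (Subgroup.zpowers_le.2 S.ya)).1 hq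
      refine Subgroup.mem_sup_left ⟨i, ?_⟩
      show pr a y ^ i = pr a (y ^ i)
      rw [pr_coe S.ya, pr_coe (zpow_mem S.ya i), ← map_zpow]; rfl)
  have hyP' := hyP (Subgroup.mem_zpowers y)
  obtain ⟨h1, hh1, hh1e⟩ := hsur (pr a (h : G))
    (Subgroup.mem_sup_right (Subgroup.mem_sup_left (pr_mem_prS hQC h.2)))
  obtain ⟨a1, ha1, ha1e⟩ := hsur (pr a a)
    (Subgroup.mem_sup_right (Subgroup.mem_sup_left (pr_mem_prS hQC haQ)))
  have haP : a ∈ P := by
    have hJ1 : a1 ∈ J := S.tJ.mem_of_pr (twoEl_of_mem hP ha1) (hPC ha1) (by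
      rw [ha1e]; exact pr_mem_prS S.tJ.le S.tJ.mem)
    have hs : a1 * a1 = 1 := pr_inj hP hPC (mul_mem ha1 ha1) (one_mem _) (by
      rw [pr_mul (hPC ha1) (hPC ha1), ha1e, haa, pr_one])
    rcases S.tJ.eq_of_sq hJ1 hs with e' | e'
    · exfalso
      rw [e', pr_one] at ha1e
      exact S.tJ.ne_one (twoEl_mem_OC S.tJ.twoEl_self ((pr_eq_one haC).1 ha1e.symm))
    · exact e' ▸ ha1
  have hbP : b ∈ P := hbk ▸ pow_mem hyP' _
  have hh1C := hPC hh1
  refine ⟨P, h1, hP, hPC, hyP', hh1, S.tJ.mem_of_pr (twoEl_of_mem hP hh1) hh1C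
    (by rw [hh1e]; exact pr_mem_prS S.tJ.le (hQJ h.2)), ?_, ?_⟩
  · refine pr_inj hP hPC (mul_mem hh1 hh1) haP ?_
    rw [pr_mul hh1C hh1C, hh1e, ← pr_mul (hQC h.2) (hQC h.2), hhsq]
  · refine pr_inj hP hPC (mul_mem (mul_mem (inv_mem hbP) hh1) hbP) (mul_mem hh1 haP) ?_
    rw [pr_mul hh1C haC, pr_cb hh1C S.bCa, hh1e, ← pr_cb (hQC h.2) S.bCa, hhinv, pr_mul (hQC h.2) haC]

end Mov

end Cfsg.Agent.TwoPair
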