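import Cfsg.Agent.Lib.Fusion.TwoCompPair.Move

/-!
The pair of components supporting `g = h h'` and the reduction to an element of order four.
-/

set_option autoImplicit false
set_option linter.style.haveILetI false

open Cfsg Cfsg.Agent Cfsg.Agent.Fusion

namespace Cfsg.Agent.TwoPair

local instance : Fact (Nat.Prime 2) := ⟨Nat.prime_two⟩

variable {G : Type*} [Group G] [Finite G]

theorem cs_inj {J L : Subgroup G} {g : G} (h : cs J g = cs L g) : J = L :=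
  Subgroup.map_injective (f := (MulAut.conj g⁻¹).toMonoidHom) (MulAut.conj g⁻¹).injective h

/-- No nontrivial 2-element lies in two subgroups with different unique involutions. -/
theorem eq_one_of_mem_both {a b : G} {J K : Subgroup G} (hJ : TC a J) (hK : TC b K) (hab : a ≠ b)
    {x : G} (hx : TwoEl x) (hxJ : x ∈ J) (hxK : x ∈ K) : x = 1 := by
  obtain ⟨k, hk⟩ := orderOf_twoEl hx
  rcases k with _ | k
  · exact orderOf_eq_one_iff.1 (by simpa using hk)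
  exfalso
  have ho : orderOf (x ^ 2 ^ k) = 2 := by
    rw [orderOf_pow, hk, Nat.gcd_eq_right (pow_dvd_pow 2 (Nat.le_succ k)), pow_succ,
      Nat.mul_div_cancel_left _ (pow_pos two_pos _)]
  exact hab ((hJ.uniq _ (pow_mem hxJ _) ho).symm.trans (hK.uniq _ (pow_mem hxK _) ho))

/-- The data of `g = h h'`. -/
structure Base (a b y g h : G) (J K : Subgroup G) : Prop where
  tJ : TC a J
  tK : TC b K
  ne : a ≠ b
  yK : y ∈ K
  ya : y ∈ Cz a
  y2 : y * y = b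
  move : cs J y ≠ J
  bfix : cs J b = J
  hJ : h ∈ J
  hh : h * h = a
  hb : cb h b = h * a
  hcomm : h * cb h y = cb h y * h
  gdef : g = h * cb h y
  gg : g * g = 1
  gy : cb g y = g * a
  gK : cs K g ≠ K
  pgrp : ∃ P : Subgroup G, IsPGroup 2 P ∧ P ≤ Cz a ∧ y ∈ P ∧ h ∈ P

theorem Base.exists_of_mov {a b y : G} {J K : Subgroup G} (S0 : Mov a b y J K) :
    ∃ z g h, Base a b z g h J K := by
  obtain ⟨y, S, hy2⟩ := S0.reduce
  obtain ⟨P, h, hP, hPC, hyP, hhP, hhJ, hhh, hhb⟩ := S.exists_h hy2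
  obtain ⟨k, hk, hbk⟩ := S.exists_k
  have hcbP : ∀ {x g : G}, x ∈ P → g ∈ P → cb x g ∈ P := fun hx hg => mul_mem (mul_mem (inv_mem hg) hx) hg
  have haP : a ∈ P := hhh ▸ mul_mem hhP hhP
  have hbP : b ∈ P := hbk ▸ pow_mem hyP _
  have n1 : J ≠ cs J y := Ne.symm S.move
  obtain ⟨h', hh'⟩ : ∃ h', h' = cb h y := ⟨_, rfl⟩
  have hh'J : h' ∈ cs J y := hh' ▸ cb_mem_cs hhJ
  have hh'P : h' ∈ P := hh' ▸ hcbP hhP hyP
  have hcm : h * h' = h' * h := S.tJ.commute S.tJy n1 hP hPC hhP hh'P hhJ hh'J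
  have hh'2 : h' * h' = a := by rw [hh', ← cb_mul, hhh, cb_eq_self.2 S.ya]
  obtain ⟨g, hg⟩ : ∃ g, g = h * h' := ⟨_, rfl⟩
  have hgP : g ∈ P := hg ▸ mul_mem hhP hh'P
  have hga : g ∈ Cz a := hPC hgP
  have hgg : g * g = 1 := by
    calc g * g = h * (h' * h) * h' := by rw [hg]; simp [mul_assoc]
      _ = (h * h) * (h' * h') := by rw [← hcm]; simp [mul_assoc]
      _ = 1 := by rw [hhh, hh'2, S.tJ.sq]
  have hh'b : cb h' b = h' * a := by
    rw [hh', cb_cb, ← S.b_comm, ← cb_cb, hhb, cb_mul, cb_eq_self.2 S.ya]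
  have hgb : g ∈ Cz b := by
    refine mem_Cz_comm (cb_eq_self.1 ?_)
    rw [hg, cb_mul, hhb, hh'b]
    calc h * a * (h' * a) = h * (a * h') * a := by simp [mul_assoc]
      _ = h * h' * (a * a) := by rw [mem_Cz.1 (hPC hh'P)]; simp [mul_assoc]
      _ = h * h' := by rw [S.tJ.sq, mul_one]
  obtain ⟨w, hw⟩ : ∃ w, w = g⁻¹ * cb g y := ⟨_, rfl⟩
  have hwP : w ∈ P := hw ▸ mul_mem (inv_mem hgP) (hcbP hgP hyP)
  have hw1 : w = h⁻¹ * cb h (y * y) := by
    have h1 : cb g y = h' * cb h (y * y) := by rw [hg, cb_mul, hh', cb_cb]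
    rw [hw, h1, hg, mul_inv_rev]
    have h2 : h⁻¹ * h' = h' * h⁻¹ := by
      rw [inv_mul_eq_iff_eq_mul, ← mul_assoc, hcm, mul_inv_cancel_right]
    calc h'⁻¹ * h⁻¹ * (h' * cb h (y * y)) = h'⁻¹ * (h⁻¹ * h') * cb h (y * y) := by simp [mul_assoc]
      _ = _ := by rw [h2]; simp [mul_assoc]
  have hwJ : w ∈ J := hw1 ▸ mul_mem (inv_mem hhJ) (hy2 ▸ cb_mem_cs hhJ)
  have hwy : w = (cb y g)⁻¹ * y := by rw [hw]; simp [cb, mul_assoc]
  have hh1 : h * a ≠ h := fun e => S.tJ.ne_one (mul_eq_left.1 e)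
  have hgK : cs K g ≠ K := by
    intro hK
    have hwK : w ∈ K := hwy ▸ mul_mem (inv_mem (hK ▸ cb_mem_cs S.yK)) S.yK
    have hw0 := eq_one_of_mem_both S.tJ S.tK S.ne (twoEl_of_mem hP hwP) hwJ hwK
    rw [hw1, inv_mul_eq_one] at hw0
    refine hh1 ?_
    rw [← hhb, cb_eq_self, ← hbk, pow_succ', pow_mul, pow_two]
    exact pow_mem (cb_eq_self.1 hw0.symm) _
  rcases k with _ | k
  · have hyy : y * y = b := by rw [← pow_two]; simpa using hbk
    refine ⟨y, g, h, S.tJ, S.tK, S.ne, S.yK, S.ya, hyy, S.move, S.b_fix, hhJ, hhh, hhb,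
      hh' ▸ hcm, hh' ▸ hg, hgg, ?_, hgK, P, hP, hPC, hyP, hhP⟩
    rw [hyy, hhb, inv_mul_cancel_left] at hw1
    rw [← hw1, hw, mul_inv_cancel_left]
  exfalso
  -- the square root of `b` in `⟨y⟩` fixes `J`
  obtain ⟨PH, hPH⟩ : ∃ PH, PH = P ⊓ Cz b := ⟨_, rfl⟩
  have hPH2 : IsPGroup 2 PH := hPH ▸ hP.to_inf_left
  have hPHb : PH ≤ Cz b := hPH ▸ inf_le_right
  have hyPH : y ∈ PH := hPH ▸ ⟨hyP, S.yCb⟩
  have hgPH : g ∈ PH := hPH ▸ ⟨hgP, hgb⟩
  have tK' : TC b (cs K g) := S.tK.conj_mem hgb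
  have hy'PH : cb y g ∈ PH := mul_mem (mul_mem (inv_mem hgPH) hyPH) hgPH
  have hyy' : Commute (cb y g) y :=
    tK'.commute S.tK hgK hPH2 hPHb hy'PH hyPH (cb_mem_cs S.yK) S.yK
  obtain ⟨z, hz⟩ : ∃ z, z = y ^ 2 ^ (k + 1) := ⟨_, rfl⟩
  have hzK : z ∈ K := hz ▸ pow_mem S.yK _
  have hzP : z ∈ P := hz ▸ pow_mem hyP _
  have hzz : z * z = b := by rw [hz, ← pow_add, ← two_mul, ← pow_succ', hbk]
  have hz' : cb z g = cb y g ^ 2 ^ (k + 1) := by rw [hz, cb_pow]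
  have hwz : w ^ 2 ^ (k + 1) = (cb z g)⁻¹ * z := by
    rw [hwy, hyy'.inv_left.mul_pow, inv_pow, hz', hz]
  have hzc : Commute (cb z g) z := by rw [hz', hz]; exact hyy'.pow_pow _ _
  have hsq : w ^ 2 ^ (k + 1) * w ^ 2 ^ (k + 1) = 1 := by
    rw [hwz]
    calc (cb z g)⁻¹ * z * ((cb z g)⁻¹ * z) = (cb z g)⁻¹ * (z * (cb z g)⁻¹) * z := by simp [mul_assoc]
      _ = (cb z g * cb z g)⁻¹ * (z * z) := by rw [← hzc.inv_left.eq]; simp [mul_assoc]
      _ = 1 := by rw [← cb_mul, hzz, cb_eq_self.2 hgb, inv_mul_cancel]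
  rcases S.tJ.eq_of_sq (pow_mem hwJ _) hsq with e | e
  · rw [hwz, inv_mul_eq_one] at e
    refine S.tK.ne_one (hzz.symm.trans (S.tK.sq_eq_one_of_inter tK' (Ne.symm hgK) hzK (e ▸ cb_mem_cs hzK) (twoEl_of_mem hP hzP)))
  · have hgz : cb g z = g * a := by
      rw [← e, hwz]; simp [cb, mul_assoc]
    have hzJ : cs J z = J := by
      refine cs_eq_of_mem_normalizer ?_
      rw [hz, pow_succ', pow_mul, pow_two]
      exact pow_mem (mem_normalizer_of_cs hy2) _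
    obtain ⟨c, hc⟩ : ∃ c, c = h⁻¹ * cb h z := ⟨_, rfl⟩
    have hcP : c ∈ P := hc ▸ mul_mem (inv_mem hhP) (hcbP hhP hzP)
    have hcJ : c ∈ J := hc ▸ mul_mem (inv_mem hhJ) (hzJ ▸ cb_mem_cs hhJ)
    have hhz : cb h' z = cb (cb h z) y := by
      rw [hh', cb_cb, cb_cb, hz, ← pow_succ' y, ← pow_succ y]
    have hprod : cb h z * cb (cb h z) y = h * h' * a := by rw [← hhz, ← cb_mul, ← hg, hgz]
    have hcJ' : c ∈ cs J y := by
      have h1 : c = h' * a * (cb (cb h z) y)⁻¹ := by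
        rw [hc, inv_mul_eq_iff_eq_mul, ← mul_assoc, ← mul_assoc, eq_mul_inv_iff_mul_eq, hprod]
      rw [h1]
      refine mul_mem (mul_mem hh'J S.tJy.mem) (inv_mem (cb_mem_cs ?_))
      exact hzJ ▸ cb_mem_cs hhJ
    have hc2 := S.tJ.eq_of_sq hcJ (S.tJ.sq_eq_one_of_inter S.tJy n1 hcJ hcJ' (twoEl_of_mem hP hcP))
    have hhzc : cb h z = h * c := by rw [hc, mul_inv_cancel_left]
    rw [hhzc, cb_mul, ← hh'] at hprod
    rcases hc2 with e' | e'
    · rw [e'] at hprod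
      simp only [mul_one, cb, inv_mul_cancel] at hprod
      exact S.tJ.ne_one (mul_eq_left.1 hprod.symm)
    · rw [e', cb_eq_self.2 S.ya] at hprod
      have h1 : h * a * (h' * a) = h * h' := by
        calc h * a * (h' * a) = h * (a * h') * a := by simp [mul_assoc]
          _ = h * h' * (a * a) := by rw [mem_Cz.1 (hPC hh'P)]; simp [mul_assoc]
          _ = h * h' := by rw [S.tJ.sq, mul_one]
      rw [h1] at hprod
      exact S.tJ.ne_one (mul_eq_left.1 hprod.symm)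

namespace Base

variable {a b y g h : G} {J K : Subgroup G}

theorem tJy (B : Base a b y g h J K) : TC a (cs J y) := B.tJ.conj_mem B.ya

theorem yCb (B : Base a b y g h J K) : y ∈ Cz b := B.tK.le B.yK

theorem hCa (B : Base a b y g h J K) : h ∈ Cz a := B.tJ.le B.hJ

theorem h'Ca (B : Base a b y g h J K) : cb h y ∈ Cz a := cb_mem_Cz B.hCa B.ya

theorem h'sq (B : Base a b y g h J K) : cb h y * cb h y = a := by
  rw [← cb_mul, B.hh, cb_eq_self.2 B.ya]

theorem h2 (B : Base a b y g h J K) : TwoEl h :=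
  ⟨2, by rw [show (2 : ℕ) ^ 2 = 2 + 2 by norm_num, pow_add, pow_two, B.hh, B.tJ.sq]⟩

theorem gCa (B : Base a b y g h J K) : g ∈ Cz a := B.gdef ▸ mul_mem B.hCa B.h'Ca

theorem bCa (B : Base a b y g h J K) : b ∈ Cz a := B.y2 ▸ mul_mem B.ya B.ya

theorem h'b (B : Base a b y g h J K) : cb (cb h y) b = cb h y * a := by
  rw [cb_cb, ← mem_Cz.1 B.yCb, ← cb_cb, B.hb, cb_mul, cb_eq_self.2 B.ya]

theorem gCb (B : Base a b y g h J K) : g ∈ Cz b := by
  refine mem_Cz_comm (cb_eq_self.1 ?_)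
  rw [B.gdef, cb_mul, B.hb, B.h'b]
  calc h * a * (cb h y * a) = h * (a * cb h y) * a := by simp [mul_assoc]
    _ = h * cb h y * (a * a) := by rw [mem_Cz.1 B.h'Ca]; simp [mul_assoc]
    _ = h * cb h y := by rw [B.tJ.sq, mul_one]

/-- Whoever fixes `g` permutes the pair `J`, `J^y`. -/
theorem support (B : Base a b y g h J K) {x : G} (hx : x ∈ Cz a) (hgx : cb g x = g) :
    (cs J x = J ∧ cs (cs J y) x = cs J y) ∨ (cs J x = cs J y ∧ cs (cs J y) x = J) := by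
  have t1 : TC a (cs J x) := B.tJ.conj_mem hx
  have t2 : TC a (cs (cs J y) x) := B.tJy.conj_mem hx
  have hne : cs J x ≠ cs (cs J y) x := fun e => B.move (cs_inj e).symm
  have e0 : cb h x * cb (cb h y) x = h * cb h y := by rw [← cb_mul, ← B.gdef, hgx]
  have hx1 := cb_mem_Cz B.hCa hx
  have hx2 := cb_mem_Cz B.h'Ca hx
  have p1 : cs J x = J ∨ cs (cs J y) x = J := by
    by_contra hcon
    rw [not_or] at hcon
    refine B.tJ.not_cent B.hJ B.h2 (by rw [B.hh]; exact B.tJ.ne_one) fun j hj => ?_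
    have k1 : Commute (pr a j) (pr a (cb h x)) := B.tJ.pr_commute t1 (Ne.symm hcon.1) hj (cb_mem_cs B.hJ)
    have k2 : Commute (pr a j) (pr a (cb (cb h y) x)) :=
      B.tJ.pr_commute t2 (Ne.symm hcon.2) hj (cb_mem_cs (cb_mem_cs B.hJ))
    have k3 : Commute (pr a j) (pr a (cb h y)) :=
      B.tJ.pr_commute B.tJy (Ne.symm B.move) hj (cb_mem_cs B.hJ)
    have e : h = cb h x * cb (cb h y) x * (cb h y)⁻¹ := by rw [e0, mul_inv_cancel_right]
    rw [e, pr_mul (mul_mem hx1 hx2) (inv_mem B.h'Ca), pr_mul hx1 hx2, pr_inv B.h'Ca]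
    exact ((k1.mul_right k2).mul_right k3.inv_right).symm.eq
  have p2 : cs J x = cs J y ∨ cs (cs J y) x = cs J y := by
    by_contra hcon
    rw [not_or] at hcon
    refine B.tJy.not_cent (cb_mem_cs B.hJ) (twoEl_cb y B.h2) (by rw [B.h'sq]; exact B.tJ.ne_one)
      fun j hj => ?_
    have k1 : Commute (pr a j) (pr a (cb h x)) := B.tJy.pr_commute t1 (Ne.symm hcon.1) hj (cb_mem_cs B.hJ)
    have k2 : Commute (pr a j) (pr a (cb (cb h y) x)) :=
      B.tJy.pr_commute t2 (Ne.symm hcon.2) hj (cb_mem_cs (cb_mem_cs B.hJ))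
    have k3 : Commute (pr a j) (pr a h) := B.tJy.pr_commute B.tJ B.move hj B.hJ
    have e : cb h y = h⁻¹ * (cb h x * cb (cb h y) x) := by rw [e0, inv_mul_cancel_left]
    rw [e, pr_mul (inv_mem B.hCa) (mul_mem hx1 hx2), pr_mul hx1 hx2, pr_inv B.hCa]
    exact (k3.inv_right.mul_right (k1.mul_right k2)).symm.eq
  rcases p1 with q1 | q1 <;> rcases p2 with q2 | q2
  · exact absurd (q1.symm.trans q2).symm B.move
  · exact Or.inl ⟨q1, q2⟩
  · exact Or.inr ⟨q2, q1⟩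
  · exact absurd (q2.symm.trans q1) B.move

end Base

end Cfsg.Agent.TwoPair
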