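import Cfsg.Agent.Lib.Fusion.TwoCompPair.Basic

/-!
The action on an elementary abelian group of order 16.
-/

set_option autoImplicit false

namespace Cfsg.Agent.TwoPair

variable {G : Type*} [Group G]

/-- Coordinates in `⟨a, b, g, v⟩`. -/
abbrev Vec := ZMod 2 × ZMod 2 × ZMod 2 × ZMod 2

/-- The element with given coordinates. -/
def phi (a b g v : G) (q : Vec) : G :=
  a ^ q.1.val * b ^ q.2.1.val * (g ^ q.2.2.1.val * v ^ q.2.2.2.val)

theorem pow_val_add {x : G} (hx : x * x = 1) (i j : ZMod 2) :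
    x ^ (i + j).val = x ^ i.val * x ^ j.val := by
  rw [← pow_add, ZMod.val_add, ← pow_eq_pow_mod _ (by rw [pow_two, hx])]

/-- Pairwise commuting involutions. -/
structure Four (a b g v : G) : Prop where
  aa : a * a = 1
  bb : b * b = 1
  gg : g * g = 1
  vv : v * v = 1
  ab : Commute a b
  ag : Commute a g
  av : Commute a v
  bg : Commute b g
  bv : Commute b v
  gv : Commute g v

variable {a b g v : G}

theorem Four.phi_add (F : Four a b g v) (q r : Vec) :
    phi a b g v (q + r) = phi a b g v q * phi a b g v r := by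
  obtain ⟨i, j, k, l⟩ := q
  obtain ⟨i', j', k', l'⟩ := r
  simp only [phi, Prod.mk_add_mk, pow_val_add F.aa, pow_val_add F.bb, pow_val_add F.gg, pow_val_add F.vv]
  have c1 : ∀ m n : ℕ, Commute (b ^ m) (a ^ n) := fun m n => (F.ab.symm.pow_pow m n)
  have c2 : ∀ m n : ℕ, Commute (v ^ m) (g ^ n) := fun m n => (F.gv.symm.pow_pow m n)
  have c3 : ∀ m n p q : ℕ, Commute (g ^ m * v ^ n) (a ^ p * b ^ q) := fun m n p q =>
    ((F.ag.symm.pow_pow m p).mul_right (F.bg.symm.pow_pow m q)).mul_left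
      ((F.av.symm.pow_pow n p).mul_right (F.bv.symm.pow_pow n q))
  rw [← (c1 j.val i'.val).mul_mul_mul_comm, ← (c2 l.val k'.val).mul_mul_mul_comm,
    ← (c3 k.val l.val i'.val j'.val).mul_mul_mul_comm]

theorem val0 : (0 : ZMod 2).val = 0 := rfl

theorem val1 : (1 : ZMod 2).val = 1 := rfl

/-- The action of `R`. -/
def actR (q : Vec) : Vec := (q.2.2.2, q.2.1 + q.2.2.2, q.2.2.1, q.1 + q.2.2.2)

/-- The action of `h`. -/
def actH (e : ZMod 2) (q : Vec) : Vec := (q.1 + q.2.1 + e * q.2.2.2, q.2.1, q.2.2.1 + q.2.2.2, q.2.2.2)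

theorem Four.phi_nsmul (F : Four a b g v) (q : Vec) (i : ZMod 2) :
    phi a b g v q ^ i.val = phi a b g v (i * q.1, i * q.2.1, i * q.2.2.1, i * q.2.2.2) := by
  obtain rfl | rfl : i = 0 ∨ i = 1 := by revert i; decide
  · simp [phi, val0]
  · simp [val1]

theorem cb_prod (x y z w g' : G) : cb (x * y * (z * w)) g' = cb x g' * cb y g' * (cb z g' * cb w g') := by
  simp [cb, mul_assoc]

theorem Four.cb_phi_R (F : Four a b g v) {R : G} (ha : cb a R = v) (hb : cb b R = b) (hg : cb g R = g)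
    (hv : cb v R = v * a * b) (q : Vec) : cb (phi a b g v q) R = phi a b g v (actR q) := by
  obtain ⟨i, j, k, l⟩ := q
  have e1 : cb a R = phi a b g v (0, 0, 0, 1) := by rw [ha]; simp [phi, val0, val1]
  have e2 : cb b R = phi a b g v (0, 1, 0, 0) := by rw [hb]; simp [phi, val0, val1]
  have e3 : cb g R = phi a b g v (0, 0, 1, 0) := by rw [hg]; simp [phi, val0, val1]
  have e4 : cb v R = phi a b g v (1, 1, 0, 1) := by
    rw [hv, mul_assoc]
    simp only [phi, val0, val1, pow_one, pow_zero, one_mul]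
    exact ((F.av.symm.mul_right F.bv.symm).eq)
  conv_lhs => rw [phi, cb_prod, cb_pow, cb_pow, cb_pow, cb_pow, e1, e2, e3, e4]
  rw [F.phi_nsmul, F.phi_nsmul, F.phi_nsmul, F.phi_nsmul, ← F.phi_add, ← F.phi_add, ← F.phi_add]
  congr 1
  simp only [actR, Prod.mk_add_mk]
  revert i j k l
  decide

theorem Four.cb_phi_H (F : Four a b g v) {h : G} (e : ZMod 2) (ha : cb a h = a) (hb : cb b h = b * a)
    (hg : cb g h = g) (hv : cb v h = v * g * a ^ e.val) (q : Vec) :
    cb (phi a b g v q) h = phi a b g v (actH e q) := by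
  obtain ⟨i, j, k, l⟩ := q
  have e1 : cb a h = phi a b g v (1, 0, 0, 0) := by rw [ha]; simp [phi, val0, val1]
  have e2 : cb b h = phi a b g v (1, 1, 0, 0) := by rw [hb]; simp [phi, val0, val1, F.ab.eq]
  have e3 : cb g h = phi a b g v (0, 0, 1, 0) := by rw [hg]; simp [phi, val0, val1]
  have e4 : cb v h = phi a b g v (e, 0, 1, 1) := by
    rw [hv]
    simp only [phi, val0, val1, pow_one, pow_zero, mul_one]
    rw [F.gv.symm.eq]
    exact ((F.ag.mul_right F.av).pow_left e.val).eq.symm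
  conv_lhs => rw [phi, cb_prod, cb_pow, cb_pow, cb_pow, cb_pow, e1, e2, e3, e4]
  rw [F.phi_nsmul, F.phi_nsmul, F.phi_nsmul, F.phi_nsmul, ← F.phi_add, ← F.phi_add, ← F.phi_add]
  congr 1
  simp only [actH, Prod.mk_add_mk]
  clear hv e4
  revert i j k l e
  decide

/-- A product of the two actions fixing `a` and `g` and moving `b` out of `⟨a, b, g⟩`. -/
theorem Four.exists_word (F : Four a b g v) {R h : G} (e : ZMod 2) (hRa : cb a R = v) (hRb : cb b R = b)
    (hRg : cb g R = g) (hRv : cb v R = v * a * b) (ha : cb a h = a) (hb : cb b h = b * a)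
    (hg : cb g h = g) (hv : cb v h = v * g * a ^ e.val) :
    ∃ n : G, cb a n = a ∧ cb g n = g ∧ (cb b n = a * v ∨ cb b n = a * b * v) := by
  have pa : a = phi a b g v (1, 0, 0, 0) := by simp [phi, val0, val1]
  have pg : g = phi a b g v (0, 0, 1, 0) := by simp [phi, val0, val1]
  have pb : b = phi a b g v (0, 1, 0, 0) := by simp [phi, val0, val1]
  have hR := F.cb_phi_R hRa hRb hRg hRv
  have hH := F.cb_phi_H e ha hb hg hv
  obtain rfl | rfl : e = 0 ∨ e = 1 := by clear hv hH; revert e; decide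
  · refine ⟨R * h * R * h * R * h * (R * R) * h * R, ?_, ?_, Or.inl ?_⟩
    · conv_lhs => rw [pa]
      simp only [← cb_cb, hR, hH]
      rw [← show (1, 0, 0, 0) = actR (actH 0 (actR (actR (actH 0 (actR (actH 0 (actR (actH 0 (actR
        ((1, 0, 0, 0) : Vec)))))))))) by decide]
      exact pa.symm
    · conv_lhs => rw [pg]
      simp only [← cb_cb, hR, hH]
      rw [← show (0, 0, 1, 0) = actR (actH 0 (actR (actR (actH 0 (actR (actH 0 (actR (actH 0 (actR
        ((0, 0, 1, 0) : Vec)))))))))) by decide]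
      exact pg.symm
    · conv_lhs => rw [pb]
      simp only [← cb_cb, hR, hH]
      rw [← show (1, 0, 0, 1) = actR (actH 0 (actR (actR (actH 0 (actR (actH 0 (actR (actH 0 (actR
        ((0, 1, 0, 0) : Vec)))))))))) by decide]
      simp [phi, val0, val1]
  · refine ⟨R * h * R * h * R * h * (R * R) * h * (R * R), ?_, ?_, Or.inr ?_⟩
    · conv_lhs => rw [pa]
      simp only [← cb_cb, hR, hH]
      rw [← show (1, 0, 0, 0) = actR (actR (actH 1 (actR (actR (actH 1 (actR (actH 1 (actR (actH 1 (actR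
        ((1, 0, 0, 0) : Vec))))))))))) by decide]
      exact pa.symm
    · conv_lhs => rw [pg]
      simp only [← cb_cb, hR, hH]
      rw [← show (0, 0, 1, 0) = actR (actR (actH 1 (actR (actR (actH 1 (actR (actH 1 (actR (actH 1 (actR
        ((0, 0, 1, 0) : Vec))))))))))) by decide]
      exact pg.symm
    · conv_lhs => rw [pb]
      simp only [← cb_cb, hR, hH]
      rw [← show (1, 1, 0, 1) = actR (actR (actH 1 (actR (actR (actH 1 (actR (actH 1 (actR (actH 1 (actR
        ((0, 1, 0, 0) : Vec))))))))))) by decide]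
      simp [phi, val0, val1]

end Cfsg.Agent.TwoPair
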