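import Cfsg.Agent.Lib.Fusion.TwoCompPair.Pair
import Cfsg.Agent.Lib.Fusion.TwoCompPair.Word

/-!
A 2-element of `K` of order at least four centralizing `a` normalizes `J`.
-/

set_option autoImplicit false
set_option linter.style.haveILetI false

open Cfsg Cfsg.Agent Cfsg.Agent.Fusion

namespace Cfsg.Agent.TwoPair

local instance : Fact (Nat.Prime 2) := ⟨Nat.prime_two⟩

variable {G : Type*} [Group G] [Finite G]

theorem card_sup_dvd_of_normalizes {R U : Subgroup G} (hn : U ≤ Subgroup.normalizer (R : Set G)) :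
    Nat.card (R ⊔ U : Subgroup G) ∣ Nat.card R * Nat.card U := by
  haveI : (R.subgroupOf (R ⊔ U)).Normal :=
    Subgroup.normal_subgroupOf_of_le_normalizer (sup_le Subgroup.le_normalizer hn)
  have h2 := Solv.card_sup_dvd (R.subgroupOf (R ⊔ U)) (U.subgroupOf (R ⊔ U))
  rw [← Subgroup.subgroupOf_sup le_sup_left le_sup_right, Subgroup.subgroupOf_self, Subgroup.card_top,
    Nat.card_congr (Subgroup.subgroupOfEquivOfLe (le_sup_left : R ≤ R ⊔ U)).toEquiv,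
    Nat.card_congr (Subgroup.subgroupOfEquivOfLe (le_sup_right : U ≤ R ⊔ U)).toEquiv] at h2
  exact h2

/-- Modulo the core, every element of order four lies in a quaternion group on whose three axes an
element of `K` induces a 3-cycle. -/
def Cyc (b : G) (K : Subgroup G) : Prop :=
  ∀ x ∈ K, x * x = b → ∃ t ∈ K, pr b (cb (cb x t) x) = pr b (cb x t * b) ∧
    (pr b (cb (cb x t) t) = pr b (x * cb x t) ∨ pr b (cb (cb x t) t) = pr b (x * cb x t * b))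

namespace Base

variable {a b y g h : G} {J K : Subgroup G}

theorem aCb (B : Base a b y g h J K) : a ∈ Cz b := mem_Cz_comm B.bCa

theorem tK' (B : Base a b y g h J K) : TC b (cs K g) := B.tK.conj_mem B.gCb

theorem a_eq (B : Base a b y g h J K) : a = (cb y g)⁻¹ * y := by
  rw [show (cb y g)⁻¹ * y = g⁻¹ * cb g y by simp [cb, mul_assoc], B.gy, inv_mul_cancel_left]

theorem exists_v (B : Base a b y g h J K) (hcyc : Cyc b K) :
    ∃ (P1 : Subgroup G) (t k v : G), IsPGroup 2 P1 ∧ P1 ≤ Cz b ∧ y ∈ P1 ∧ g ∈ P1 ∧ k ∈ P1 ∧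
      t ∈ K ∧ k ∈ K ∧ k * k = b ∧ pr b (cb y t) = pr b k ∧
      (pr b (cb k t) = pr b (y * k) ∨ pr b (cb k t) = pr b (y * k * b)) ∧
      v = (cb k g)⁻¹ * k ∧ cb k y = k * b ∧ k * cb y g = cb y g * k ∧ k * cb k g = cb k g * k ∧
      cb k g * y = y * cb k g := by
  obtain ⟨t, ht, hc1, hc2⟩ := hcyc y B.yK B.y2
  obtain ⟨k0, hk0⟩ : ∃ k0, k0 = cb y t := ⟨_, rfl⟩
  rw [← hk0] at hc1 hc2
  have htC := B.tK.le ht
  have hk0K : k0 ∈ K := hk0 ▸ mul_mem (mul_mem (inv_mem ht) B.yK) ht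
  have hk0C := B.tK.le hk0K
  have hk02 : k0 * k0 = b := by rw [hk0, ← cb_mul, B.y2, cb_eq_self.2 htC]
  have hk0two : TwoEl k0 :=
    ⟨2, by rw [show (2 : ℕ) ^ 2 = 2 + 2 by norm_num, pow_add, pow_two, hk02, B.tK.sq]⟩
  have hy2el : TwoEl y :=
    ⟨2, by rw [show (2 : ℕ) ^ 2 = 2 + 2 by norm_num, pow_add, pow_two, B.y2, B.tK.sq]⟩
  obtain ⟨Q0, hQ0⟩ : ∃ Q0 : Subgroup (Qo b),
      Q0 = Subgroup.zpowers (pr b y) ⊔ Subgroup.zpowers (pr b k0) := ⟨_, rfl⟩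
  have hyn : Subgroup.zpowers (pr b y) ≤
      Subgroup.normalizer (Subgroup.zpowers (pr b k0) : Set (Qo b)) := by
    rw [Subgroup.zpowers_le]
    refine inv_inv (pr b y) ▸ inv_mem (mem_normalizer_of_cj_le ?_)
    rw [cj, MonoidHom.map_zpowers, Subgroup.zpowers_le]
    show (pr b y)⁻¹ * pr b k0 * (pr b y)⁻¹⁻¹ ∈ _
    rw [inv_inv, ← pr_cb hk0C B.yCb, hc1, pr_mul hk0C (self_mem_Cz b)]
    refine mul_mem (Subgroup.mem_zpowers _) ?_
    rw [show pr b b = pr b k0 * pr b k0 by rw [← pr_mul hk0C hk0C, hk02]]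
    exact mul_mem (Subgroup.mem_zpowers _) (Subgroup.mem_zpowers _)
  have hQ0p : IsPGroup 2 Q0 :=
    hQ0 ▸ IsPGroup.to_sup_of_normal_right' (twoEl_pr B.yCb hy2el) (twoEl_pr hk0C hk0two) hyn
  have hQ0K : Q0 ≤ prS b K := hQ0 ▸ sup_le (Subgroup.zpowers_le.2 (pr_mem_prS B.tK.le B.yK))
    (Subgroup.zpowers_le.2 (pr_mem_prS B.tK.le hk0K))
  have hπg : pr b g * pr b g = 1 := by rw [← pr_mul B.gCb B.gCb, B.gg, pr_one]
  have hπgi : (pr b g)⁻¹ = pr b g := inv_eq_of_mul_eq_one_right hπg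
  obtain ⟨T1, hT1⟩ : ∃ T1 : Subgroup (Qo b), T1 = Q0 ⊔ cj Q0 (pr b g) := ⟨_, rfl⟩
  have hT1p : IsPGroup 2 T1 := by
    rw [hT1]
    refine IsPGroup.to_sup_of_normal_right' hQ0p (isPGroup_cj hQ0p _) ?_
    refine le_trans ?_ (Subgroup.centralizer_le_normalizer _)
    intro q hq
    obtain ⟨x, hx, rfl⟩ := (mem_prS B.tK.le).1 (hQ0K hq)
    refine Subgroup.mem_centralizer_iff.2 ?_
    rintro _ ⟨r, hr, rfl⟩
    obtain ⟨w, hw, rfl⟩ := (mem_prS B.tK.le).1 (hQ0K hr)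
    have h1 := B.tK.pr_commute B.tK' (Ne.symm B.gK) hx (cb_mem_cs (g := g) hw)
    rw [pr_cb (B.tK.le hw) B.gCb, hπgi] at h1
    show pr b g * pr b w * (pr b g)⁻¹ * pr b x = pr b x * (pr b g * pr b w * (pr b g)⁻¹)
    rw [hπgi, h1]
  have hgn : Subgroup.zpowers (pr b g) ≤ Subgroup.normalizer (T1 : Set (Qo b)) := by
    rw [Subgroup.zpowers_le]
    refine mem_normalizer_of_cj_le ?_
    rw [hT1, cj_sup, cj_cj, hπg, cj_one, sup_comm]
  have hg2el : TwoEl g := ⟨1, by rw [pow_one, pow_two, B.gg]⟩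
  obtain ⟨T, hT⟩ : ∃ T : Subgroup (Qo b), T = Subgroup.zpowers (pr b g) ⊔ T1 := ⟨_, rfl⟩
  have hTp : IsPGroup 2 T := hT ▸ IsPGroup.to_sup_of_normal_right' (twoEl_pr B.gCb hg2el) hT1p hgn
  obtain ⟨P, hP, hPC, hyP, hhP⟩ := B.pgrp
  have hgP : g ∈ P := B.gdef ▸ mul_mem hhP (mul_mem (mul_mem (inv_mem hyP) hhP) hyP)
  obtain ⟨S1, hS1⟩ : ∃ S1 : Subgroup G, S1 = Subgroup.closure {y, g} := ⟨_, rfl⟩
  have hS1P : S1 ≤ P := by
    rw [hS1, Subgroup.closure_le]; rintro x (rfl | rfl) <;> assumption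
  have hS1b : S1 ≤ Cz b := by
    rw [hS1, Subgroup.closure_le]; rintro x (rfl | rfl); exacts [B.yCb, B.gCb]
  have hyT : pr b y ∈ T := hT ▸ Subgroup.mem_sup_right (hT1 ▸ Subgroup.mem_sup_left
    (hQ0 ▸ Subgroup.mem_sup_left (Subgroup.mem_zpowers _)))
  have hgT : pr b g ∈ T := hT ▸ Subgroup.mem_sup_left (Subgroup.mem_zpowers _)
  obtain ⟨P1, hP1, hP1b, hS1P1, -, hsur⟩ := lift_two (hP.to_le hS1P) hS1b hTp (by
    have : S1 ≤ (T.comap (QuotientGroup.mk' _)).map (Cz b).subtype := by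
      rw [hS1, Subgroup.closure_le]
      rintro x (rfl | rfl)
      · exact ⟨⟨x, B.yCb⟩, Subgroup.mem_comap.2 (by rw [pr_mk]; exact hyT), rfl⟩
      · exact ⟨⟨x, B.gCb⟩, Subgroup.mem_comap.2 (by rw [pr_mk]; exact hgT), rfl⟩
    intro q hq
    obtain ⟨x, hx, rfl⟩ := (mem_prS hS1b).1 hq
    obtain ⟨w, hw, hwe⟩ := this hx
    rw [← hwe, Subgroup.subtype_apply, ← pr_mk]
    exact hw)
  have hy1 : y ∈ P1 := hS1P1 (hS1 ▸ Subgroup.subset_closure (Or.inl rfl))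
  have hg1 : g ∈ P1 := hS1P1 (hS1 ▸ Subgroup.subset_closure (Or.inr rfl))
  obtain ⟨k, hk, hke⟩ := hsur (pr b k0) (hT ▸ Subgroup.mem_sup_right (hT1 ▸ Subgroup.mem_sup_left
    (hQ0 ▸ Subgroup.mem_sup_right (Subgroup.mem_zpowers _))))
  have hkC := hP1b hk
  have hkK : k ∈ K := B.tK.mem_of_pr (twoEl_of_mem hP1 hk) hkC (by rw [hke]; exact pr_mem_prS B.tK.le hk0K)
  have hb1 : b ∈ P1 := B.y2 ▸ mul_mem hy1 hy1
  have hcb1 : ∀ {x z : G}, x ∈ P1 → z ∈ P1 → cb x z ∈ P1 := fun hx hz => mul_mem (mul_mem (inv_mem hz) hx) hz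
  refine ⟨P1, t, k, (cb k g)⁻¹ * k, hP1, hP1b, hy1, hg1, hk, ht, hkK, ?_, ?_, ?_, rfl, ?_, ?_, ?_, ?_⟩
  · refine pr_inj hP1 hP1b (mul_mem hk hk) hb1 ?_
    rw [pr_mul hkC hkC, hke, ← pr_mul hk0C hk0C, hk02]
  · rw [hke, hk0]
  · rw [pr_cb hkC htC, hke, ← pr_cb hk0C htC, pr_mul (mul_mem B.yCb hkC) (self_mem_Cz b), pr_mul B.yCb hkC,
      hke, ← pr_mul B.yCb hk0C, ← pr_mul (mul_mem B.yCb hk0C) (self_mem_Cz b)]
    exact hc2
  · refine pr_inj hP1 hP1b (hcb1 hk hy1) (mul_mem hk hb1) ?_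
    rw [pr_cb hkC B.yCb, hke, ← pr_cb hk0C B.yCb, hc1, pr_mul hk0C (self_mem_Cz b), pr_mul hkC (self_mem_Cz b), hke]
  · exact B.tK.commute B.tK' (Ne.symm B.gK) hP1 hP1b hk (hcb1 hy1 hg1) hkK (cb_mem_cs B.yK)
  · exact B.tK.commute B.tK' (Ne.symm B.gK) hP1 hP1b hk (hcb1 hk hg1) hkK (cb_mem_cs hkK)
  · exact B.tK'.commute B.tK B.gK hP1 hP1b (hcb1 hk hg1) hy1 (cb_mem_cs hkK) B.yK

theorem v_swaps (B : Base a b y g h J K) {v : G} (hva : v ∈ Cz a) (hgv : cb g v = g)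
    (hvy : cb v y = v * b) (hvb : cb v b = v) : cs J v = cs J y ∧ cs (cs J y) v = J := by
  rcases B.support hva hgv with ⟨e1, -⟩ | e
  · exfalso
    have haC := self_mem_Cz a
    have hacent : ∀ q : Qo a, q * pr a a = pr a a * q := fun q => by
      obtain ⟨x, hx, rfl⟩ := pr_surj q
      rw [← pr_mul hx haC, ← pr_mul haC hx, mem_Cz.1 hx]
    have hyv : y * v = v * b * y := by
      have h1 : v * y = y * (v * b) := by rw [← hvy]; simp [cb, mul_assoc]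
      have h2 : v * b = b * v := by
        rw [← mem_Cz.1 (cb_eq_self.1 hvb)]
      calc y * v = y * (v * b) * b := by rw [mul_assoc, mul_assoc, B.tK.sq, mul_one]
        _ = v * y * b := by rw [h1]
        _ = v * (y * b) := mul_assoc _ _ _
        _ = v * (b * y) := by rw [mem_Cz.1 B.yCb]
        _ = v * b * y := (mul_assoc _ _ _).symm
    obtain ⟨hv, hhv⟩ : ∃ hv, hv = cb h v := ⟨_, rfl⟩
    have hvJ : hv ∈ J := hhv ▸ e1 ▸ cb_mem_cs B.hJ
    have hvC := B.tJ.le hvJ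
    have hv' : cb (cb h y) v = cb (cb hv b) y := by rw [hhv, cb_cb, hyv, ← cb_cb, ← cb_cb]
    have hvbJ : cb hv b ∈ J := (B.bfix : cs J b = J) ▸ cb_mem_cs hvJ
    have e0 : hv * cb (cb hv b) y = h * cb h y := by rw [← hv', hhv, ← cb_mul, ← B.gdef, hgv]
    have hc : Cent a J (h⁻¹ * hv) := by
      have e2 : h⁻¹ * hv = cb h y * (cb (cb hv b) y)⁻¹ := by
        rw [inv_mul_eq_iff_eq_mul, ← mul_assoc, eq_mul_inv_iff_mul_eq, e0]
      intro j hj
      have k1 : Commute (pr a j) (pr a (cb h y)) := B.tJ.pr_commute B.tJy (Ne.symm B.move) hj (cb_mem_cs B.hJ)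
      have k2 : Commute (pr a j) (pr a (cb (cb hv b) y)) :=
        B.tJ.pr_commute B.tJy (Ne.symm B.move) hj (cb_mem_cs hvbJ)
      have hC' := cb_mem_Cz (B.tJ.le hvbJ) B.ya
      rw [e2, pr_mul B.h'Ca (inv_mem hC'), pr_inv hC']
      exact (k1.mul_right k2.inv_right).symm.eq
    have hd := B.tJ.eq_or_mul_of_cent B.hJ B.h2 hvJ (hhv ▸ twoEl_cb v B.h2) hc
    have hε : ∃ ε : Qo a, pr a hv = pr a h * ε ∧ ε * ε = 1 ∧ (∀ q, q * ε = ε * q) := by
      rcases hd with e' | e'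
      · exact ⟨1, by rw [e', mul_one], one_mul _, fun q => by rw [mul_one, one_mul]⟩
      · exact ⟨pr a a, by rw [e', pr_mul B.hCa haC],
          by rw [← pr_mul haC haC, B.tJ.sq, pr_one], hacent⟩
    obtain ⟨ε, hεe, hε2, hεc⟩ := hε
    have h1 : pr a (cb hv b) = pr a h * pr a a * ε := by
      rw [pr_cb hvC B.bCa, hεe, ← pr_mul B.hCa haC, ← B.hb, pr_cb B.hCa B.bCa]
      simp only [mul_assoc]
      rw [hεc (pr a b)]
    have h2 : pr a (cb (cb hv b) y) = pr a (cb h y) * pr a a * ε := by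
      rw [pr_cb (B.tJ.le hvbJ) B.ya, h1, pr_cb B.hCa B.ya]
      simp only [mul_assoc]
      rw [← hεc (pr a y), ← mul_assoc (pr a a), ← hacent (pr a y), mul_assoc]
    have h3 := congrArg (pr a) e0
    rw [pr_mul hvC (cb_mem_Cz (B.tJ.le hvbJ) B.ya), pr_mul B.hCa B.h'Ca, hεe, h2, mul_assoc, mul_right_inj,
      ← mul_assoc, ← hεc, mul_assoc, mul_assoc, hε2, mul_one, mul_eq_left] at h3
    exact B.tJ.ne_one (twoEl_mem_OC B.tJ.twoEl_self ((pr_eq_one haC).1 h3))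
  · exact e

theorem exists_h1 (B : Base a b y g h J K) {v : G} {U : Subgroup G} (hU : IsPGroup 2 U) (hUa : U ≤ Cz a)
    (hbU : b ∈ U) (haU : a ∈ U) (hgU : g ∈ U) (hvU : v ∈ U) (hgv : cb g v = g)
    (hswap : cs J v = cs J y ∧ cs (cs J y) v = J) :
    ∃ (h1 : G) (e : ZMod 2), cb a h1 = a ∧ cb b h1 = b * a ∧ cb g h1 = g ∧ cb v h1 = v * g * a ^ e.val := by
  have haC := self_mem_Cz a
  have hva := hUa hvU
  have hacent : ∀ q : Qo a, q * pr a a = pr a a * q := fun q => by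
    obtain ⟨x, hx, rfl⟩ := pr_surj q
    rw [← pr_mul hx haC, ← pr_mul haC hx, mem_Cz.1 hx]
  obtain ⟨h', hh'⟩ : ∃ h', h' = cb h y := ⟨_, rfl⟩
  have hh'J : h' ∈ cs J y := hh' ▸ cb_mem_cs B.hJ
  have hh'C : h' ∈ Cz a := hh' ▸ B.h'Ca
  obtain ⟨hv, hhv⟩ : ∃ hv, hv = cb h v := ⟨_, rfl⟩
  have hvJ : hv ∈ cs J y := hhv ▸ hswap.1 ▸ cb_mem_cs B.hJ
  have hvC := B.tJy.le hvJ
  have hv'J : cb h' v ∈ J := hswap.2 ▸ cb_mem_cs hh'J
  have hv'C := B.tJ.le hv'J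
  have e0 : hv * cb h' v = h' * h := by rw [hhv, ← cb_mul, hh', ← B.gdef, hgv, B.gdef, B.hcomm]
  have hc : Cent a (cs J y) (h'⁻¹ * hv) := by
    have e2 : h'⁻¹ * hv = h * (cb h' v)⁻¹ := by
      rw [inv_mul_eq_iff_eq_mul, ← mul_assoc, eq_mul_inv_iff_mul_eq, e0]
    intro j hj
    have k1 : Commute (pr a j) (pr a h) := B.tJy.pr_commute B.tJ B.move hj B.hJ
    have k2 : Commute (pr a j) (pr a (cb h' v)) := B.tJy.pr_commute B.tJ B.move hj hv'J
    rw [e2, pr_mul B.hCa (inv_mem hv'C), pr_inv hv'C]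
    exact (k1.mul_right k2.inv_right).symm.eq
  obtain ⟨e, he⟩ : ∃ e : ZMod 2, pr a hv = pr a (h' * a ^ e.val) := by
    rcases B.tJy.eq_or_mul_of_cent hh'J (hh' ▸ twoEl_cb y B.h2) hvJ (hhv ▸ twoEl_cb v B.h2) hc with e' | e'
    · exact ⟨0, by rw [e', val0, pow_zero, mul_one]⟩
    · exact ⟨1, by rw [e', val1, pow_one]⟩
  obtain ⟨T0, hT0⟩ : ∃ T0 : Subgroup (Qo a),
      T0 = Subgroup.zpowers (pr a h) ⊔ Subgroup.zpowers (pr a h') := ⟨_, rfl⟩
  have hh : pr a h ∈ T0 := hT0 ▸ Subgroup.mem_sup_left (Subgroup.mem_zpowers _)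
  have hh'T : pr a h' ∈ T0 := hT0 ▸ Subgroup.mem_sup_right (Subgroup.mem_zpowers _)
  have hcm : Commute (pr a h) (pr a h') := by
    show pr a h * pr a h' = pr a h' * pr a h
    rw [← pr_mul B.hCa hh'C, ← pr_mul hh'C B.hCa, hh', B.hcomm]
  have haT : pr a a ∈ T0 := by
    have : pr a a = pr a h * pr a h := by rw [← pr_mul B.hCa B.hCa, B.hh]
    rw [this]; exact mul_mem hh hh
  have hT0p : IsPGroup 2 T0 := by
    rw [hT0]
    refine IsPGroup.to_sup_of_normal_right' (twoEl_pr B.hCa B.h2)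
      (twoEl_pr hh'C (hh' ▸ twoEl_cb y B.h2)) ?_
    refine le_trans ?_ (Subgroup.centralizer_le_normalizer _)
    rw [Subgroup.zpowers_le]
    refine Subgroup.mem_centralizer_iff.2 ?_
    rintro _ ⟨i, rfl⟩
    exact (hcm.symm.zpow_left i).eq
  obtain ⟨S2, hS2⟩ : ∃ S2 : Subgroup G, S2 = Subgroup.closure {a, b, g, v} := ⟨_, rfl⟩
  have hS2U : S2 ≤ U := by
    rw [hS2, Subgroup.closure_le]; rintro x (rfl | rfl | rfl | rfl) <;> assumption
  have hv'T : pr a (cb h' v) ∈ T0 := by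
    have : cb h' v = hv⁻¹ * (h' * h) := by rw [← e0, inv_mul_cancel_left]
    rw [this, pr_mul (inv_mem hvC) (mul_mem hh'C B.hCa), pr_inv hvC, pr_mul hh'C B.hCa, he,
      pr_mul hh'C (pow_mem haC _)]
    refine mul_mem (inv_mem (mul_mem hh'T ?_)) (mul_mem hh'T hh)
    obtain rfl | rfl : e = 0 ∨ e = 1 := by clear he; revert e; decide
    · rw [val0, pow_zero, pr_one]; exact one_mem _
    · rw [val1, pow_one]; exact haT
  have hgen : ∀ x ∈ ({a, b, g, v} : Set G), x ∈ Cz a → pr a (cb h x) ∈ T0 ∧ pr a (cb h' x) ∈ T0 := by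
    rintro x (rfl | rfl | rfl | rfl) hx
    · rw [cb_eq_self.2 (mem_Cz_comm B.hCa), cb_eq_self.2 (mem_Cz_comm hh'C)]
      exact ⟨hh, hh'T⟩
    · rw [B.hb, hh', B.h'b, pr_mul B.hCa haC, pr_mul B.h'Ca haC, ← hh']
      exact ⟨mul_mem hh haT, mul_mem hh'T haT⟩
    · have e1 : cb h x = h := by
        refine cb_eq_self.2 (mem_Cz.2 ?_)
        rw [B.gdef, mul_assoc, ← B.hcomm]
      have e2 : cb h' x = h' := by
        refine cb_eq_self.2 (mem_Cz.2 ?_)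
        rw [B.gdef, hh', ← mul_assoc, ← B.hcomm]
      rw [e1, e2]; exact ⟨hh, hh'T⟩
    · refine ⟨?_, hv'T⟩
      rw [← hhv, he, pr_mul hh'C (pow_mem haC _)]
      refine mul_mem hh'T ?_
      obtain rfl | rfl : e = 0 ∨ e = 1 := by clear he; revert e; decide
      · rw [val0, pow_zero, pr_one]; exact one_mem _
      · rw [val1, pow_one]; exact haT
  have hS2a : S2 ≤ Cz a := hS2U.trans hUa
  have hnorm : prS a S2 ≤ Subgroup.normalizer (T0 : Set (Qo a)) := by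
    have h1 : S2 ≤ ((Subgroup.normalizer (T0 : Set (Qo a))).comap (QuotientGroup.mk' _)).map (Cz a).subtype := by
      rw [hS2, Subgroup.closure_le]
      intro x hx
      have hxC : x ∈ Cz a := hS2a (hS2 ▸ Subgroup.subset_closure hx)
      refine ⟨⟨x, hxC⟩, Subgroup.mem_comap.2 ?_, rfl⟩
      rw [pr_mk]
      refine inv_inv (pr a x) ▸ inv_mem (mem_normalizer_of_cj_le ?_)
      rw [hT0, cj_sup, sup_le_iff, cj, MonoidHom.map_zpowers, Subgroup.zpowers_le, cj, MonoidHom.map_zpowers,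
        Subgroup.zpowers_le]
      show (pr a x)⁻¹ * pr a h * (pr a x)⁻¹⁻¹ ∈ _ ∧ (pr a x)⁻¹ * pr a h' * (pr a x)⁻¹⁻¹ ∈ _
      rw [inv_inv, ← pr_cb B.hCa hxC, ← pr_cb hh'C hxC, ← hT0]
      exact hgen x hx hxC
    intro q hq
    obtain ⟨x, hx, rfl⟩ := (mem_prS hS2a).1 hq
    obtain ⟨w, hw, hwe⟩ := h1 hx
    rw [← hwe, Subgroup.subtype_apply, ← pr_mk]
    exact hw
  obtain ⟨P2, hP2, hP2a, hS2P2, -, hsur⟩ := lift_two (hU.to_le hS2U) hS2a
    (T := prS a S2 ⊔ T0) (IsPGroup.to_sup_of_normal_right' (isPGroup_prS (hU.to_le hS2U)) hT0p hnorm) le_sup_left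
  obtain ⟨h1, hh1, hh1e⟩ := hsur (pr a h) (Subgroup.mem_sup_right hh)
  have mS : ∀ x ∈ ({a, b, g, v} : Set G), x ∈ P2 := fun x hx => hS2P2 (hS2 ▸ Subgroup.subset_closure hx)
  have ha2 := mS a (by simp)
  have hb2 := mS b (by simp)
  have hg2 := mS g (by simp)
  have hv2 := mS v (by simp)
  have hcb2 : ∀ {x z : G}, x ∈ P2 → z ∈ P2 → cb x z ∈ P2 := fun hx hz => mul_mem (mul_mem (inv_mem hz) hx) hz
  have key : ∀ x z : G, x ∈ P2 → z ∈ P2 → pr a (cb x h) = pr a z → cb x h1 = z := fun x z hx hz hxz =>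
    pr_inj hP2 hP2a (hcb2 hx hh1) hz (by
      rw [pr_cb (hP2a hx) (hP2a hh1), hh1e, ← pr_cb (hP2a hx) B.hCa, hxz])
  refine ⟨h1, e + 1, key a a ha2 ha2 (by rw [cb_eq_self.2 B.hCa]), key b _ hb2 (mul_mem hb2 ha2) ?_,
    key g g hg2 hg2 ?_, key v _ hv2 (mul_mem (mul_mem hv2 hg2) (pow_mem ha2 _)) ?_⟩
  · congr 1
    have e1 : h = cb h b * a := by rw [B.hb, mul_assoc, B.tJ.sq, mul_one]
    have e2 : b * h = h * b * a := by
      conv_lhs => rw [e1]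
      simp [cb, mul_assoc]
    calc cb b h = h⁻¹ * (b * h) := by simp [cb, mul_assoc]
      _ = b * a := by rw [e2]; simp [mul_assoc]
  · congr 1
    refine cb_eq_self.2 (mem_Cz.2 ?_)
    rw [B.gdef, mul_assoc, ← B.hcomm]
  · have e1 : cb v h = v * hv⁻¹ * h := by rw [hhv]; simp [cb, mul_assoc]
    have haa : pr a a * pr a a = 1 := by rw [← pr_mul haC haC, B.tJ.sq, pr_one]
    have hinv' : (pr a h')⁻¹ = pr a h' * pr a a := by
      refine inv_eq_of_mul_eq_one_right ?_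
      rw [← mul_assoc, ← pr_mul hh'C hh'C, hh', B.h'sq, haa]
    rw [e1, pr_mul (mul_mem hva (inv_mem hvC)) B.hCa, pr_mul hva (inv_mem hvC), pr_inv hvC, he,
      pr_mul (mul_mem hva B.gCa) (pow_mem haC _), pr_mul hva B.gCa, B.gdef, pr_mul B.hCa B.h'Ca, ← hh',
      pr_mul hh'C (pow_mem haC _), mul_inv_rev, hinv']
    obtain rfl | rfl : e = 0 ∨ e = 1 := by clear he; revert e; decide
    · rw [zero_add, val0, val1, pow_zero, pow_one, pr_one, inv_one, one_mul]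
      rw [show pr a h * pr a h' = pr a h' * pr a h from hcm.eq]
      simp only [mul_assoc]
      rw [← hacent (pr a h)]
    · rw [show (1 : ZMod 2) + 1 = 0 by decide, val0, val1, pow_zero, pow_one, pr_one, mul_one,
        inv_eq_of_mul_eq_one_right haa, ← mul_assoc (pr a a), ← hacent (pr a h'), mul_assoc (pr a h'), haa,
        mul_one, mul_assoc, hcm.eq]

theorem exists_R (B : Base a b y g h J K) {P1 : Subgroup G} {t k v : G} (hP1 : IsPGroup 2 P1)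
    (hP1b : P1 ≤ Cz b) (hy : y ∈ P1) (hg : g ∈ P1) (hk : k ∈ P1) (ht : t ∈ K) (hkK : k ∈ K)
    (h1 : pr b (cb y t) = pr b k)
    (h2 : pr b (cb k t) = pr b (y * k) ∨ pr b (cb k t) = pr b (y * k * b))
    (hv : v = (cb k g)⁻¹ * k) (hky : cb k y = k * b) (hky' : k * cb y g = cb y g * k)
    (F : Four a b g v) :
    ∃ R : G, cb a R = v ∧ cb b R = b ∧ cb g R = g ∧ cb v R = v * a * b := by
  have hbC := self_mem_Cz b
  have htC := B.tK.le ht
  have hyC := B.yCb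
  have hgC := B.gCb
  have hkC := hP1b hk
  obtain ⟨t', ht'⟩ : ∃ t', t' = cb t g := ⟨_, rfl⟩
  have ht'C : t' ∈ Cz b := ht' ▸ cb_mem_Cz htC hgC
  have ht'K : t' ∈ cs K g := ht' ▸ cb_mem_cs ht
  obtain ⟨R0, hR0⟩ : ∃ R0, R0 = t * t' := ⟨_, rfl⟩
  have hR0C : R0 ∈ Cz b := hR0 ▸ mul_mem htC ht'C
  obtain ⟨l, hl⟩ : ∃ l, l = cb k t := ⟨_, rfl⟩
  have hlK : l ∈ K := hl ▸ mul_mem (mul_mem (inv_mem ht) hkK) ht
  have hgi : g⁻¹ = g := inv_eq_of_mul_eq_one_right B.gg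
  have fixK : ∀ {x z : G}, x ∈ K → z ∈ cs K g → pr b (cb x z) = pr b x := by
    intro x z hx hz
    rw [pr_cb (B.tK.le hx) (B.tK'.le hz), mul_assoc, B.tK.pr_commute B.tK' (Ne.symm B.gK) hx hz,
      inv_mul_cancel_left]
  have fixK' : ∀ {x z : G}, x ∈ cs K g → z ∈ K → pr b (cb x z) = pr b x := by
    intro x z hx hz
    rw [pr_cb (B.tK'.le hx) (B.tK.le hz), mul_assoc, B.tK'.pr_commute B.tK B.gK hx hz, inv_mul_cancel_left]
  have img : ∀ {x : G}, x ∈ K → pr b (cb x R0) = pr b (cb x t) := fun hx => by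
    rw [hR0, ← cb_cb, fixK (mul_mem (mul_mem (inv_mem ht) hx) ht) ht'K]
  have img' : ∀ {x : G}, x ∈ K → pr b (cb (cb x g) R0) = pr b (cb (cb x t) g) := fun {x} hx => by
    have e1 : pr b (cb (cb x g) R0) = pr b (cb (cb x g) t') := by
      rw [hR0, ← cb_cb, pr_cb (cb_mem_Cz (cb_mem_Cz (B.tK.le hx) hgC) htC) ht'C, fixK' (cb_mem_cs hx) ht,
        ← pr_cb (cb_mem_Cz (B.tK.le hx) hgC) ht'C]
    rw [e1]
    congr 1
    rw [ht', cb_cb, cb_cb]
    congr 1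
    simp [cb, mul_assoc]
  have hae : a = (cb y g)⁻¹ * y := B.a_eq
  have hy'C := cb_mem_Cz hyC hgC
  have hk'C := cb_mem_Cz hkC hgC
  have ia : pr b (cb a R0) = pr b v := by
    conv_lhs => rw [hae, cb_mul, cb_inv]
    rw [pr_mul (inv_mem (cb_mem_Cz hy'C hR0C)) (cb_mem_Cz hyC hR0C), pr_inv (cb_mem_Cz hy'C hR0C),
      img B.yK, img' B.yK, pr_cb (cb_mem_Cz hyC htC) hgC, h1, ← pr_cb hkC hgC, hv,
      pr_mul (inv_mem hk'C) hkC, pr_inv hk'C]
  have ig : pr b (cb g R0) = pr b g := by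
    rw [pr_cb hgC hR0C]
    have hc : pr b g * pr b R0 = pr b R0 * pr b g := by
      have h5 : R0 = t * (g * t * g) := by rw [hR0, ht']; simp [cb, hgi, mul_assoc]
      have h6 : pr b (g * t * g) * pr b t = pr b t * pr b (g * t * g) := by
        rw [show g * t * g = cb t g by simp [cb, hgi]]
        exact B.tK'.pr_commute B.tK B.gK (cb_mem_cs ht) ht
      have hπg : pr b g * pr b g = 1 := by rw [← pr_mul hgC hgC, B.gg, pr_one]
      rw [h5, pr_mul htC (mul_mem (mul_mem hgC htC) hgC)]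
      conv_rhs => rw [← h6]
      rw [pr_mul (mul_mem hgC htC) hgC, pr_mul hgC htC]
      simp only [mul_assoc]
    rw [mul_assoc, hc, inv_mul_cancel_left]
  have iv : pr b (cb v R0) = pr b (v * a * b) := by
    have hlC := B.tK.le hlK
    have hyk := mul_mem hyC hkC
    have hl' : pr b (cb v R0) = (pr b (cb l g))⁻¹ * pr b l := by
      rw [hv, cb_mul, cb_inv, pr_mul (inv_mem (cb_mem_Cz hk'C hR0C)) (cb_mem_Cz hkC hR0C),
        pr_inv (cb_mem_Cz hk'C hR0C), img hkK, img' hkK, hl]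
    have hgen : (pr b (cb l g))⁻¹ * pr b l = (pr b (cb (y * k) g))⁻¹ * pr b (y * k) := by
      rw [hl]
      rcases h2 with e | e
      · rw [pr_cb (cb_mem_Cz hkC htC) hgC, e, ← pr_cb hyk hgC]
      · rw [pr_cb (cb_mem_Cz hkC htC) hgC, e, ← pr_cb (mul_mem hyk hbC) hgC, cb_mul _ b,
          cb_eq_self.2 hgC, pr_mul (cb_mem_Cz hyk hgC) hbC, pr_mul hyk hbC, mul_inv_rev]
        have hbb : ∀ q : Qo b, q * pr b b = pr b b * q := fun q => by
          obtain ⟨x, hx, rfl⟩ := pr_surj q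
          rw [← pr_mul hx hbC, ← pr_mul hbC hx, mem_Cz.1 hx]
        rw [hbb (pr b (y * k))]
        rw [mul_assoc, ← mul_assoc ((pr b (cb (y * k) g))⁻¹), hbb, mul_assoc, inv_mul_cancel_left]
    have hexact : (cb (y * k) g)⁻¹ * (y * k) = v * a * b := by
      have hab : cb a k = a * b := by
        have e1 : cb k a = k * b := by
          have e2 : cb k (cb y g)⁻¹ = k := by
            refine cb_eq_self.2 (inv_mem (mem_Cz.2 hky'))
          conv_lhs => rw [hae, ← cb_cb, e2, hky]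
        have e3 : a * k = k * a * b := by
          have e4 : k * a = a * (k * b) := by
            rw [← e1]; simp [cb, mul_assoc]
          rw [e4, mul_assoc, mul_assoc, B.tK.sq, mul_one]
        calc cb a k = k⁻¹ * (a * k) := by simp [cb, mul_assoc]
          _ = a * b := by rw [e3]; simp [mul_assoc]
      calc (cb (y * k) g)⁻¹ * (y * k) = (cb k g)⁻¹ * ((cb y g)⁻¹ * y) * k := by
            rw [cb_mul, mul_inv_rev]; simp [mul_assoc]
        _ = (cb k g)⁻¹ * k * (k⁻¹ * a * k) := by rw [← hae]; simp [mul_assoc]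
        _ = v * a * b := by
          rw [show k⁻¹ * a * k = a * b from hab, ← hv, mul_assoc v a b]
    rw [hl', hgen, ← pr_inv (cb_mem_Cz hyk hgC), ← pr_mul (inv_mem (cb_mem_Cz hyk hgC)) hyk, hexact]
  -- adjust by the core
  have haP : a ∈ P1 := by
    rw [hae]; exact mul_mem (inv_mem (mul_mem (mul_mem (inv_mem hg) hy) hg)) hy
  have hbP : b ∈ P1 := B.y2 ▸ mul_mem hy hy
  have hvP : v ∈ P1 := hv ▸ mul_mem (inv_mem (mul_mem (mul_mem (inv_mem hg) hk) hg)) hk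
  obtain ⟨U, hU⟩ : ∃ U : Subgroup G, U = Subgroup.closure {a, b, g, v} := ⟨_, rfl⟩
  have hUP : U ≤ P1 := by
    rw [hU, Subgroup.closure_le]; rintro x (rfl | rfl | rfl | rfl) <;> assumption
  have hUb : U ≤ Cz b := hUP.trans hP1b
  have hgenU : ∀ x ∈ ({a, b, g, v} : Set G), x ∈ U := fun x hx => hU ▸ Subgroup.subset_closure hx
  have mU : a ∈ U ∧ b ∈ U ∧ g ∈ U ∧ v ∈ U :=
    ⟨hgenU a (by simp), hgenU b (by simp), hgenU g (by simp), hgenU v (by simp)⟩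
  obtain ⟨haU, hbU, hgU, hvU⟩ := mU
  have hUcomm : ∀ x ∈ U, ∀ z ∈ U, x * z = z * x := by
    have h5 : ∀ z ∈ ({a, b, g, v} : Set G), U ≤ Cz z := by
      intro z hz
      rw [hU, Subgroup.closure_le]
      rintro x (rfl | rfl | rfl | rfl) <;> rcases hz with rfl | rfl | rfl | rfl <;>
        refine mem_Cz.2 ?_ <;>
        first
          | rfl
          | exact F.ab.eq
          | exact F.ab.symm.eq
          | exact F.ag.eq
          | exact F.ag.symm.eq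
          | exact F.av.eq
          | exact F.av.symm.eq
          | exact F.bg.eq
          | exact F.bg.symm.eq
          | exact F.bv.eq
          | exact F.bv.symm.eq
          | exact F.gv.eq
          | exact F.gv.symm.eq
    intro x hx
    have h6 : U ≤ Cz x := by
      rw [hU, Subgroup.closure_le]
      intro z hz
      exact mem_Cz_comm (h5 z hz hx)
    exact fun z hz => (mem_Cz.1 (h6 hz))
  obtain ⟨N, hN⟩ : ∃ N : Subgroup G, N = OC b ⊔ U := ⟨_, rfl⟩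
  have hUn : U ≤ Subgroup.normalizer (OC b : Set G) := hUb.trans (OC_normalizer b)
  have hUN : U ≤ N := hN ▸ le_sup_right
  have hNb : N ≤ Cz b := hN ▸ sup_le (OC_le b) hUb
  have hsyl : SylIn 2 U N := by
    refine ⟨hUN, hP1.to_le hUP, fun hd => ?_⟩
    have h5 : U.relIndex N * Nat.card U ∣ Nat.card (OC b) * Nat.card U := by
      rw [mul_comm _ (Nat.card U), ← Nat.card_congr (Subgroup.subgroupOfEquivOfLe hUN).toEquiv,
        Subgroup.relIndex, Subgroup.card_mul_index, Nat.card_congr (Subgroup.subgroupOfEquivOfLe hUN).toEquiv, hN]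
      exact card_sup_dvd_of_normalizes hUn
    exact coprime_card_iff_not_dvd.1 (OC_coprime b) (hd.trans (Nat.dvd_of_mul_dvd_mul_right Nat.card_pos h5))
  have hprN : ∀ x ∈ N, ∃ u ∈ U, pr b x = pr b u := by
    intro x hx
    rw [hN, sup_comm, ← SetLike.mem_coe, Subgroup.coe_mul_of_left_le_normalizer_right _ _ hUn] at hx
    obtain ⟨u, hu, r, hr, rfl⟩ := Set.mem_mul.1 hx
    exact ⟨u, hu, by rw [pr_mul (hUb hu) (OC_le b hr), (pr_eq_one (OC_le b hr)).2 hr, mul_one]⟩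
  have memN : ∀ {x u : G}, x ∈ Cz b → u ∈ U → pr b x = pr b u → x ∈ N := by
    intro x u hx hu e
    have h5 := (pr_eq (hUb hu) hx).1 e.symm
    have := mul_mem (hUN hu) ((hN ▸ le_sup_left : OC b ≤ N) h5)
    rwa [mul_inv_cancel_left] at this
  have hcbN : cs U R0 ≤ N := by
    rw [cs, cj, Subgroup.map_le_iff_le_comap]
    conv_lhs => rw [hU]
    rw [Subgroup.closure_le]
    rintro x hx
    rw [SetLike.mem_coe, Subgroup.mem_comap]
    show R0⁻¹ * x * R0⁻¹⁻¹ ∈ N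
    rw [inv_inv]
    rcases hx with rfl | rfl | rfl | rfl
    · exact memN (cb_mem_Cz (hUb haU) hR0C) hvU ia
    · exact memN (cb_mem_Cz hbC hR0C) hbU (congrArg _ (cb_eq_self.2 hR0C))
    · exact memN (cb_mem_Cz hgC hR0C) hgU ig
    · exact memN (cb_mem_Cz (hUb hvU) hR0C) (mul_mem (mul_mem hvU haU) hbU) iv
  obtain ⟨x, hxN, hxle⟩ := hsyl.conj_le ((hP1.to_le hUP).map _) hcbN
  obtain ⟨R, hR⟩ : ∃ R, R = R0 * x⁻¹ := ⟨_, rfl⟩
  have hxC := hNb hxN
  have hRC : R ∈ Cz b := hR ▸ mul_mem hR0C (inv_mem hxC)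
  have key : ∀ {u z : G}, u ∈ U → z ∈ U → pr b (cb u R0) = pr b z → cb u R = z := by
    intro u z hu hz e
    have hmem : cb u R ∈ U := by
      have h5 := hxle (conj_mem_cj (g := x) (cb_mem_cs (g := R0) hu))
      rwa [show x * cb u R0 * x⁻¹ = cb u R by rw [hR]; simp [cb, mul_assoc]] at h5
    refine pr_inj (hP1.to_le hUP) hUb hmem hz ?_
    obtain ⟨w, hw, hwe⟩ := hprN x hxN
    rw [show cb u R = x * cb u R0 * x⁻¹ by rw [hR]; simp [cb, mul_assoc],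
      pr_mul (mul_mem hxC (cb_mem_Cz (hUb hu) hR0C)) (inv_mem hxC), pr_mul hxC (cb_mem_Cz (hUb hu) hR0C),
      pr_inv hxC, e, hwe, ← pr_mul (hUb hw) (hUb hz), hUcomm w hw z hz, pr_mul (hUb hz) (hUb hw),
      mul_inv_cancel_right]
  exact ⟨R, key haU hvU ia, key hbU hbU (congrArg _ (cb_eq_self.2 hR0C)), key hgU hgU ig,
    key hvU (mul_mem (mul_mem hvU haU) hbU) iv⟩

end Base

/-- Part one. -/
theorem mov_false {a b y : G} {J K : Subgroup G} (S : Mov a b y J K) (hcyc : Cyc b K) : False := by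
  obtain ⟨y, g, h, B⟩ := Base.exists_of_mov S
  obtain ⟨P1, t, k, v, hP1, hP1b, hy, hg, hk, ht, hkK, hk2, h1, h2, hv, hky, hky', hkk', hk'y⟩ :=
    B.exists_v hcyc
  have hae := B.a_eq
  have hcb1 : ∀ {x z : G}, x ∈ P1 → z ∈ P1 → cb x z ∈ P1 := fun hx hz => mul_mem (mul_mem (inv_mem hz) hx) hz
  have haP : a ∈ P1 := hae ▸ mul_mem (inv_mem (hcb1 hy hg)) hy
  have hbP : b ∈ P1 := B.y2 ▸ mul_mem hy hy
  have hvP : v ∈ P1 := hv ▸ mul_mem (inv_mem (hcb1 hk hg)) hk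
  have hgb := B.gCb
  obtain ⟨k', hk'⟩ : ∃ k', k' = cb k g := ⟨_, rfl⟩
  rw [← hk'] at hv hkk' hk'y
  have hk'2 : k' * k' = b := by rw [hk', ← cb_mul, hk2, cb_eq_self.2 hgb]
  have hk'g : cb k' g = k := by rw [hk', cb_cb, B.gg, cb_one]
  have hvv : v * v = 1 := by
    rw [hv]
    calc k'⁻¹ * k * (k'⁻¹ * k) = k'⁻¹ * (k * k'⁻¹) * k := by simp [mul_assoc]
      _ = (k' * k')⁻¹ * (k * k) := by
        rw [(show Commute k k' from hkk').inv_right.eq]; simp [mul_assoc]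
      _ = 1 := by rw [hk'2, hk2, inv_mul_cancel]
  have hvi : v⁻¹ = v := inv_eq_of_mul_eq_one_right hvv
  have hgv : cb v g = v := by
    conv_rhs => rw [← hvi, hv, mul_inv_rev, inv_inv]
    rw [hv, cb_mul, cb_inv, hk'g, ← hk']
  have hky1 : cb k' y = k' := cb_eq_self.2 (mem_Cz.2 hk'y)
  have hvy : cb v y = v * b := by rw [hv, cb_mul, cb_inv, hky1, hky, mul_assoc]
  have hk'y' : cb k' (cb y g) = k' * b := by
    rw [hk', show cb (cb k g) (cb y g) = cb (cb k y) g by simp [cb, mul_assoc], hky, cb_mul,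
      cb_eq_self.2 hgb]
  have hky2 : cb k (cb y g)⁻¹ = k := cb_eq_self.2 (inv_mem (mem_Cz.2 hky'))
  have hva : cb v a = v := by
    have e1 : cb k a = k * b := by conv_lhs => rw [hae, ← cb_cb, hky2, hky]
    have hai : a = y⁻¹ * cb y g := by
      calc a = a⁻¹ := (inv_eq_of_mul_eq_one_right B.tJ.sq).symm
        _ = _ := by rw [hae, mul_inv_rev, inv_inv]
    have e2 : cb k' a = k' * b := by
      conv_lhs => rw [hai, ← cb_cb, cb_eq_self.2 (inv_mem (cb_eq_self.1 hky1)), hk'y']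
    have hbk' : b * k' = k' * b := mem_Cz.1 (hk' ▸ cb_mem_Cz (hP1b hk) hgb)
    rw [hv, cb_mul, cb_inv, e1, e2, mul_inv_rev]
    rw [show b⁻¹ * k'⁻¹ = k'⁻¹ * b⁻¹ by rw [← mul_inv_rev, ← mul_inv_rev, hbk']]
    rw [← mem_Cz.1 (hP1b hk), inv_eq_of_mul_eq_one_right B.tK.sq, mul_assoc, ← mul_assoc b, B.tK.sq, one_mul]
  have hvb : cb v b = v := cb_eq_self.2 (mem_Cz_comm (hP1b hvP))
  have hvaC : v ∈ Cz a := mem_Cz_comm (cb_eq_self.1 hva)
  have hgv' : cb g v = g := cb_eq_self.2 (mem_Cz_comm (cb_eq_self.1 hgv))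
  have hswap := B.v_swaps hvaC hgv' hvy hvb
  have F : Four a b g v :=
    ⟨B.tJ.sq, B.tK.sq, B.gg, hvv, mem_Cz.1 B.bCa, mem_Cz.1 B.gCa, mem_Cz.1 hvaC,
      mem_Cz.1 hgb, mem_Cz.1 (hP1b hvP), mem_Cz.1 (cb_eq_self.1 hgv')⟩
  obtain ⟨U, hUdef⟩ : ∃ U : Subgroup G, U = P1 ⊓ Cz a := ⟨_, rfl⟩
  have hU2 : IsPGroup 2 U := hUdef ▸ hP1.to_inf_left
  have hUa : U ≤ Cz a := hUdef ▸ inf_le_right
  have mU : ∀ {x : G}, x ∈ P1 → x ∈ Cz a → x ∈ U := fun h1 h2 => hUdef ▸ Subgroup.mem_inf.2 ⟨h1, h2⟩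
  obtain ⟨h1', e, ea, eb, eg, ev⟩ := B.exists_h1 hU2 hUa (mU hbP B.bCa) (mU haP (self_mem_Cz a))
    (mU hg B.gCa) (mU hvP hvaC) hgv' hswap
  obtain ⟨R, Ra, Rb, Rg, Rv⟩ := B.exists_R hP1 hP1b hy hg hk ht hkK h1 h2 (hk' ▸ hv) hky hky' F
  obtain ⟨n, na, ng, nb⟩ := F.exists_word e Ra Rb Rg Rv ea eb eg ev
  have hnC : n ∈ Cz a := cb_eq_self.1 na
  have hby : cs (cs J y) b = cs J y := by
    rw [cs_cs, ← mem_Cz.1 B.yCb, ← cs_cs, show cs J b = J from B.bfix]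
  have hfix : ∀ {L : Subgroup G}, cs L b = L → cs (cs L n) (cb b n) = cs L n := by
    intro L hL
    rw [cs_cs, show n * cb b n = b * n by simp [cb, mul_assoc], ← cs_cs, hL]
  have hJfix : cs J (cb b n) = J := by
    rcases B.support hnC ng with ⟨q1, -⟩ | ⟨-, q2⟩
    · have := hfix (L := J) B.bfix
      rwa [q1] at this
    · have := hfix (L := cs J y) hby
      rwa [q2] at this
  have haJ : cs J a = J := cs_eq_of_mem_normalizer (Subgroup.le_normalizer B.tJ.mem)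
  rcases nb with e' | e'
  · rw [e', ← cs_cs, haJ, hswap.1] at hJfix
    exact B.move hJfix
  · rw [e', ← cs_cs, ← cs_cs, haJ, show cs J b = J from B.bfix, hswap.1] at hJfix
    exact B.move hJfix

end Cfsg.Agent.TwoPair
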