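import Mathlib

/-!
Automorphisms of a generalized quaternion group `⟨r, x⟩` fixing `⟨r ^ M⟩`, `M` a quarter of the
order of the cyclic part: in coordinates they are `r ↦ r ^ u`, `x ↦ x r ^ j`.
-/

set_option autoImplicit false

namespace Cfsg.Agent.TwoPair

open QuaternionGroup

variable {n : ℕ}

/-- The quarter of the modulus. -/
abbrev qM (n : ℕ) : ZMod (2 * 2 ^ (n + 1)) := ((2 ^ n : ℕ) : ZMod (2 * 2 ^ (n + 1)))

/-- The half of the modulus. -/
abbrev qN (n : ℕ) : ZMod (2 * 2 ^ (n + 1)) := ((2 ^ (n + 1) : ℕ) : ZMod (2 * 2 ^ (n + 1)))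

theorem qM_add_qM : qM n + qM n = qN n := by
  rw [← Nat.cast_add, ← two_mul]
  exact congrArg Nat.cast (pow_succ' 2 n).symm

theorem qN_ne_zero : qN n ≠ 0 := by
  rw [Ne, ZMod.natCast_eq_zero_iff]
  intro h
  have := Nat.le_of_dvd (pow_pos two_pos _) h
  have := Nat.two_pow_pos (n + 1)
  omega

theorem qN_add_qN : qN n + qN n = 0 := by
  rw [← Nat.cast_add, ← two_mul]; exact ZMod.natCast_self _

theorem two_ne_zero' : (2 : ZMod (2 * 2 ^ (n + 1))) ≠ 0 := by
  rw [show (2 : ZMod (2 * 2 ^ (n + 1))) = ((2 : ℕ) : ZMod (2 * 2 ^ (n + 1))) from Nat.cast_two.symm, Ne,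
    ZMod.natCast_eq_zero_iff]
  intro h
  have := Nat.le_of_dvd two_pos h
  have := Nat.one_le_two_pow (n := n)
  rw [pow_succ] at *
  omega

theorem isUnit_odd (z : ZMod (2 * 2 ^ (n + 1))) : IsUnit (2 * z + 1) := by
  refine IsNilpotent.isUnit_add_one ⟨n + 2, ?_⟩
  rw [mul_pow, show (2 : ZMod (2 * 2 ^ (n + 1))) ^ (n + 2) = ((2 * 2 ^ (n + 1) : ℕ) : ZMod (2 * 2 ^ (n + 1))) by
    push_cast; ring, ZMod.natCast_self, zero_mul]

theorem parity (x : ZMod (2 * 2 ^ (n + 1))) : ∃ z, x = 2 * z ∨ x = 2 * z + 1 := by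
  rcases Nat.even_or_odd' x.val with ⟨w, hw | hw⟩
  · exact ⟨w, Or.inl (by rw [← ZMod.natCast_zmod_val x, hw]; push_cast; ring)⟩
  · exact ⟨w, Or.inr (by rw [← ZMod.natCast_zmod_val x, hw]; push_cast; ring)⟩

theorem exists_four_mul {x : ZMod (2 * 2 ^ (n + 1))} (h : qM n * x = 0) : ∃ y, x = 4 * y := by
  have hd : 2 * 2 ^ (n + 1) ∣ 2 ^ n * x.val := by
    rw [← ZMod.natCast_eq_zero_iff, Nat.cast_mul, ZMod.natCast_zmod_val]; exact h
  obtain ⟨w, hw⟩ := Nat.dvd_of_mul_dvd_mul_left (pow_pos two_pos n)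
    ((dvd_of_eq (by ring : 2 ^ n * 4 = 2 * 2 ^ (n + 1))).trans hd)
  exact ⟨w, by rw [← ZMod.natCast_zmod_val x, hw]; push_cast; ring⟩

theorem four_mul_qM (y : ZMod (2 * 2 ^ (n + 1))) : qM n * (4 * y) = 0 := by
  rw [← mul_assoc, show qM n * 4 = ((2 * 2 ^ (n + 1) : ℕ) : ZMod (2 * 2 ^ (n + 1))) by push_cast; ring,
    ZMod.natCast_self, zero_mul]

/-- An injective endomorphism preserving `⟨r ^ M⟩`. -/
structure Good (n : ℕ) (f : QuaternionGroup (2 ^ (n + 1)) → QuaternionGroup (2 ^ (n + 1))) : Prop where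
  mul : ∀ x y, f (x * y) = f x * f y
  inj : Function.Injective f
  fix : f (a (qM n)) = a (qM n) ∨ f (a (qM n)) = a (-qM n)

/-- `f` has coordinates `(u, j)`. -/
def Crd (f : QuaternionGroup (2 ^ (n + 1)) → QuaternionGroup (2 ^ (n + 1)))
    (u j : ZMod (2 * 2 ^ (n + 1))) : Prop :=
  ∀ i, f (a i) = a (i * u) ∧ f (xa i) = xa (j + i * u)

theorem Crd.uniq {f : QuaternionGroup (2 ^ (n + 1)) → QuaternionGroup (2 ^ (n + 1))}
    {u j u' j' : ZMod (2 * 2 ^ (n + 1))} (h : Crd f u j) (h' : Crd f u' j') : u = u' ∧ j = j' := by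
  have h1 := a.inj ((h 1).1.symm.trans (h' 1).1)
  have h2 := xa.inj ((h 0).2.symm.trans (h' 0).2)
  rw [one_mul, one_mul] at h1
  simp only [zero_mul, add_zero] at h2
  exact ⟨h1, h2⟩

theorem Crd.comp {f g : QuaternionGroup (2 ^ (n + 1)) → QuaternionGroup (2 ^ (n + 1))}
    {u j u' j' : ZMod (2 * 2 ^ (n + 1))} (h : Crd f u j) (h' : Crd g u' j') :
    Crd (fun w => f (g w)) (u' * u) (j + j' * u) := fun i => by
  refine ⟨?_, ?_⟩
  · show f (g (a i)) = _
    rw [(h' i).1, (h _).1, mul_assoc]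
  · show f (g (xa i)) = _
    rw [(h' i).2, (h _).2]
    congr 1
    ring

theorem crd_id : Crd (id : QuaternionGroup (2 ^ (n + 1)) → QuaternionGroup (2 ^ (n + 1))) 1 0 := fun i => by
  simp

theorem Crd.ext {f g : QuaternionGroup (2 ^ (n + 1)) → QuaternionGroup (2 ^ (n + 1))}
    {u j : ZMod (2 * 2 ^ (n + 1))} (h : Crd f u j) (h' : Crd g u j) (w : QuaternionGroup (2 ^ (n + 1))) :
    f w = g w := by
  cases w with
  | a i => rw [(h i).1, (h' i).1]
  | xa i => rw [(h i).2, (h' i).2]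

theorem Good.coords {f : QuaternionGroup (2 ^ (n + 1)) → QuaternionGroup (2 ^ (n + 1))} (hf : Good n f) :
    ∃ u j, Crd f u j ∧ (qM n * u = qM n ∨ qM n * u = -qM n) := by
  obtain ⟨u, hu⟩ : ∃ u, f (a 1) = a u := by
    match h : f (a 1) with
    | a u => exact ⟨u, rfl⟩
    | xa t =>
      exfalso
      have h1 : f (a 1) * f (a (qM n)) = f (a (qM n)) * f (a 1) := by
        rw [← hf.mul, ← hf.mul, a_mul_a, a_mul_a, add_comm (1 : ZMod (2 * 2 ^ (n + 1))) (qM n)]
      rw [h] at h1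
      rcases hf.fix with e | e <;> rw [e, xa_mul_a, a_mul_xa] at h1 <;> have h2 := xa.inj h1
      · exact qN_ne_zero (by linear_combination h2 - qM_add_qM (n := n))
      · exact qN_ne_zero (by linear_combination -h2 - qM_add_qM (n := n))
  obtain ⟨j, hj⟩ : ∃ j, f (xa 0) = xa j := by
    match h : f (xa 0) with
    | xa j => exact ⟨j, rfl⟩
    | a j =>
      exfalso
      have h1 : f (xa 0 * a 1) = f (a 1 * xa 0) := by
        rw [hf.mul, hf.mul, h, hu, a_mul_a, a_mul_a, add_comm j u]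
      have h2 := hf.inj h1
      rw [xa_mul_a, a_mul_xa] at h2
      exact two_ne_zero' (by linear_combination xa.inj h2)
  have hone : f 1 = 1 := by
    have := hf.mul 1 1
    rw [one_mul] at this
    exact left_eq_mul.1 this
  have hk : ∀ k : ℕ, f (a (k : ZMod (2 * 2 ^ (n + 1)))) = a ((k : ZMod (2 * 2 ^ (n + 1))) * u) := by
    intro k
    induction k with
    | zero => simp [← one_def, hone]
    | succ k ih => rw [Nat.cast_succ, ← a_mul_a, hf.mul, ih, hu, a_mul_a, add_mul, one_mul]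
  have hk' : ∀ k, f (a k) = a (k * u) := fun k => by
    rw [← ZMod.natCast_zmod_val k]; exact hk _
  refine ⟨u, j, fun i => ⟨hk' i, ?_⟩, ?_⟩
  · rw [show xa i = xa 0 * a i by rw [xa_mul_a, zero_add], hf.mul, hj, hk', xa_mul_a]
  · rcases hf.fix with e | e <;> rw [hk'] at e
    · exact Or.inl (a.inj e)
    · exact Or.inr (a.inj e)

theorem odd_of_fix {u : ZMod (2 * 2 ^ (n + 1))} (h : qM n * u = qM n ∨ qM n * u = -qM n) :
    ∃ p, u = 2 * p + 1 := by
  rcases h with h | h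
  · obtain ⟨y, hy⟩ := exists_four_mul (x := u - 1) (by linear_combination h)
    exact ⟨2 * y, by linear_combination hy⟩
  · obtain ⟨y, hy⟩ := exists_four_mul (x := u + 1) (by linear_combination h)
    exact ⟨2 * y - 1, by linear_combination hy⟩

section
variable {σ φ φ' : QuaternionGroup (2 ^ (n + 1)) → QuaternionGroup (2 ^ (n + 1))}

theorem crd_sigma (hσ : Good n σ) (hinv : σ (a (qM n)) = a (-qM n)) :
    ∃ v s c, Crd σ v s ∧ IsUnit c ∧ v = 1 + 2 * c := by
  obtain ⟨v, s, hc, -⟩ := hσ.coords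
  have h1 : qM n * v = -qM n := a.inj ((hc _).1.symm.trans hinv)
  obtain ⟨y, hy⟩ := exists_four_mul (x := v + 1) (by linear_combination h1)
  exact ⟨v, s, 2 * (y - 1) + 1, hc, isUnit_odd _, by linear_combination hy⟩

theorem comm_eq {u j v s : ZMod (2 * 2 ^ (n + 1))} (hφ : Crd φ u j) (hσ : Crd σ v s)
    (h : ∀ w, φ (σ w) = σ (φ w)) : j * (v - 1) = s * (u - 1) := by
  have h1 := h (xa 0)
  rw [(hσ 0).2, (hφ 0).2, (hφ _).2, (hσ _).2] at h1
  linear_combination -(xa.inj h1)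

/-- The automorphisms commuting with `σ` commute with each other. -/
theorem centralizer_comm (hσ : Good n σ) (hinv : σ (a (qM n)) = a (-qM n)) (hφ : Good n φ) (hφ' : Good n φ')
    (h : ∀ w, φ (σ w) = σ (φ w)) (h' : ∀ w, φ' (σ w) = σ (φ' w)) (w : QuaternionGroup (2 ^ (n + 1))) :
    φ (φ' w) = φ' (φ w) := by
  obtain ⟨v, s, c, hs, hcu, hv⟩ := crd_sigma hσ hinv
  obtain ⟨u, j, hc1, hu⟩ := hφ.coords
  obtain ⟨u', j', hc2, hu'⟩ := hφ'.coords
  obtain ⟨p, hp⟩ := odd_of_fix hu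
  obtain ⟨p', hp'⟩ := odd_of_fix hu'
  have e1 := comm_eq hc1 hs h
  have e2 := comm_eq hc2 hs h'
  have hX : j + j' * u = j' + j * u' := by
    refine (hcu.mul_left_injective ?_)
    show (j + j' * u) * c = (j' + j * u') * c
    subst hv hp hp'
    linear_combination -p' * e1 + p * e2
  refine Crd.ext (g := fun w => φ' (φ w)) (hc1.comp hc2) ?_ w
  have h3 := hc2.comp hc1
  rw [mul_comm u u', ← hX] at h3
  exact h3

/-- An involution commuting with a fixed-point-free `σ` and fixing `r ^ M` is trivial or inner by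
`r ^ M`. -/
theorem involution_cases (hσ : Good n σ) (hinv : σ (a (qM n)) = a (-qM n))
    (hfree : ∀ k, σ (xa k) ≠ xa k) (hφ : Good n φ) (h : ∀ w, φ (σ w) = σ (φ w))
    (hsq : ∀ w, φ (φ w) = w) (hfix : φ (a (qM n)) = a (qM n)) :
    (∀ w, φ w = w) ∨ Crd φ 1 (qN n) := by
  obtain ⟨v, s, c, hs, hcu, hv⟩ := crd_sigma hσ hinv
  obtain ⟨c', hc'⟩ := isUnit_iff_exists_inv.1 hcu
  obtain ⟨u, j, hc1, -⟩ := hφ.coords
  have h1 : qM n * u = qM n := a.inj ((hc1 _).1.symm.trans hfix)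
  obtain ⟨y, hy⟩ := exists_four_mul (x := u - 1) (by linear_combination h1)
  have hsu : ∃ z, s = 2 * z + 1 := by
    obtain ⟨z, hz | hz⟩ := parity s
    · exfalso
      refine hfree (-(z * c')) ?_
      rw [(hs _).2]
      congr 1
      subst hz hv
      linear_combination (-2 * z) * hc'
    · exact ⟨z, hz⟩
  obtain ⟨hu1, hj2⟩ := (hc1.comp hc1).uniq (f := fun w => φ (φ w)) (fun i => ⟨by show φ (φ _) = _; rw [hsq]; simp, by show φ (φ _) = _; rw [hsq]; simp⟩ :
    Crd (fun w => φ (φ w)) 1 0)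
  have hjj : j + j = 0 := by
    refine (isUnit_odd y).mul_left_injective ?_
    show (j + j) * (2 * y + 1) = 0 * (2 * y + 1)
    linear_combination hj2 - j * hy
  have e1 := comm_eq hc1 hs h
  have hu : u = 1 := by
    obtain ⟨z, hz⟩ := hsu
    have h4 : (u - 1) * (2 * z + 1) = 0 := by
      subst hv hz
      linear_combination c * hjj - e1
    exact sub_eq_zero.1 ((isUnit_odd z).mul_left_eq_zero.1 h4)
  have hj : j = 0 ∨ j = qN n := by
    have hd : 2 * 2 ^ (n + 1) ∣ j.val + j.val := by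
      rw [← ZMod.natCast_eq_zero_iff, Nat.cast_add, ZMod.natCast_zmod_val, hjj]
    have hlt := ZMod.val_lt j
    obtain ⟨d, hd⟩ := hd
    rcases d with _ | _ | d
    · left; rw [← ZMod.natCast_zmod_val j, show j.val = 0 by omega, Nat.cast_zero]
    · right; rw [← ZMod.natCast_zmod_val j, show j.val = 2 ^ (n + 1) by omega]
    · have : 2 * 2 ^ (n + 1) * 2 ≤ 2 * 2 ^ (n + 1) * (d + 1 + 1) := Nat.mul_le_mul_left _ (by omega)
      omega
  subst hu
  rcases hj with rfl | rfl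
  · exact Or.inl (Crd.ext hc1 crd_id)
  · exact Or.inr hc1

end

/-- A quaternion group does not act on a quaternion group of the same order, fixing `⟨r ^ M⟩`,
with its involution acting as `r ^ M`. -/
theorem no_action (ψ : QuaternionGroup (2 ^ (n + 1)) → QuaternionGroup (2 ^ (n + 1)) → QuaternionGroup (2 ^ (n + 1)))
    (hgood : ∀ y, Good n (ψ y)) (hact : ∀ y y' w, ψ (y * y') w = ψ y' (ψ y w)) (hone : ∀ w, ψ 1 w = w)
    (hz : Crd (ψ (a (qN n))) 1 (qN n)) : False := by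
  obtain ⟨u, j, hr, hu⟩ := (hgood (a 1)).coords
  obtain ⟨u', j', hy, hu'⟩ := (hgood (xa 0)).coords
  obtain ⟨ū, jb, hri, -⟩ := (hgood (a (-1))).coords
  obtain ⟨huu, hjb⟩ := ((hri.comp hr).uniq (f := fun w => ψ (a (-1)) (ψ (a 1) w)) (fun i => ⟨by
    show ψ _ (ψ _ _) = _
    rw [← hact, a_mul_a, add_neg_cancel, ← one_def, hone, mul_one], by
    show ψ _ (ψ _ _) = _
    rw [← hact, a_mul_a, add_neg_cancel, ← one_def, hone, mul_one, zero_add]⟩ :
    Crd (fun w => ψ (a (-1)) (ψ (a 1) w)) 1 0))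
  obtain ⟨hl, ht⟩ := (hy.comp hr).uniq (f := fun w => ψ (xa 0) (ψ (a 1) w)) (u' := u' * ū) (j' := jb + j' * ū) (by
    intro i
    have e : ∀ w, ψ (xa 0) (ψ (a 1) w) = ψ (a (-1)) (ψ (xa 0) w) := fun w => by
      rw [← hact, ← hact, a_mul_xa, xa_mul_a]; congr 1; simp
    obtain ⟨h1, h2⟩ := (hri.comp hy) i
    exact ⟨(e _).trans h1, (e _).trans h2⟩)
  obtain ⟨p', hp'⟩ := odd_of_fix hu'
  have hu'u : IsUnit u' := hp' ▸ isUnit_odd p'
  have hub : u = ū := hu'u.mul_left_injective (show u * u' = ū * u' by linear_combination hl)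
  have hu2 : u * u = 1 := by rw [← hub] at huu; exact huu
  rw [← hub] at hjb ht
  -- powers of `r`
  have hpow : ∀ k : ℕ, Crd (ψ (a ((2 * k : ℕ) : ZMod (2 * 2 ^ (n + 1))))) 1
      ((k : ZMod (2 * 2 ^ (n + 1))) * (j + j * u)) := by
    intro k
    induction k with
    | zero =>
      intro i
      simp [← one_def, hone]
    | succ k ih =>
      intro i
      obtain ⟨h1, h2⟩ := ((hr.comp hr).comp ih) i
      have e : ∀ w, ψ (a ((2 * (k + 1) : ℕ) : ZMod (2 * 2 ^ (n + 1)))) w =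
          ψ (a 1) (ψ (a 1) (ψ (a ((2 * k : ℕ) : ZMod (2 * 2 ^ (n + 1)))) w)) := fun w => by
        rw [← hact, ← hact, a_mul_a, a_mul_a]; congr 2; push_cast; ring
      refine ⟨(e _).trans (h1.trans ?_), (e _).trans (h2.trans ?_)⟩
      · congr 1; linear_combination i * hu2
      · congr 1
        push_cast
        linear_combination ((k : ZMod (2 * 2 ^ (n + 1))) * (j + j * u) + i) * hu2
  have hN := hpow (2 ^ n)
  have e0 : ((2 * 2 ^ n : ℕ) : ZMod (2 * 2 ^ (n + 1))) = qN n := congrArg Nat.cast (pow_succ' 2 n).symm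
  rw [e0] at hN
  obtain ⟨-, hMj⟩ := hN.uniq hz
  obtain ⟨y, hy4⟩ := exists_four_mul (x := j + j * u - 2) (by
    rw [← qM_add_qM] at hMj; linear_combination hMj)
  have hu1 : qM n * u = qM n := by
    rcases hu with h | h
    · exact h
    exfalso
    obtain ⟨z, hz4⟩ := exists_four_mul (x := u + 1) (by linear_combination h)
    refine two_ne_zero' ((isUnit_odd (y - j * z)).mul_left_eq_zero.1 ?_)
    linear_combination j * hz4 - hy4
  obtain ⟨z, hz4⟩ := exists_four_mul (x := u - 1) (by linear_combination hu1)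
  have he : (u - 1) + (u - 1) = 0 := by
    refine (isUnit_odd z).mul_left_eq_zero.1 ?_
    linear_combination hu2 - (u - 1) * hz4
  obtain ⟨w, hw | hw⟩ := parity j
  · refine two_ne_zero' ((isUnit_odd (y - w * (2 * z + 1))).mul_left_eq_zero.1 ?_)
    subst hw
    linear_combination -hy4 + 2 * w * hz4
  -- the square of `ψ x`
  have hsq : j' + j' * u' = qN n := by
    refine ((hy.comp hy).uniq (f := fun w => ψ (xa 0) (ψ (xa 0) w)) (u' := 1) (fun i => ⟨?_, ?_⟩)).2
    · show ψ _ (ψ _ _) = _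
      rw [← hact, xa_mul_xa, add_zero, sub_zero]; exact (hz i).1
    · show ψ _ (ψ _ _) = _
      rw [← hact, xa_mul_xa, add_zero, sub_zero]; exact (hz i).2
  have hev : ∃ q, j' * (j' - j) = 2 * q := by
    obtain ⟨q, hq | hq⟩ := parity j'
    · exact ⟨q * (j' - j), by rw [hq]; ring⟩
    · exact ⟨j' * (q - w), by rw [hq, hw]; ring⟩
  obtain ⟨q, hq⟩ := hev
  refine qN_ne_zero ((hw ▸ isUnit_odd w : IsUnit j).mul_left_eq_zero.1 ?_)
  have hjb' : jb + j * u = 0 := hjb
  linear_combination -j * hsq + j' * ht + j' * hjb' + (u - 1) * hq + q * he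

/-- A relabelling of the group of order eight, cycling the three cyclic subgroups of order four. -/
def rot8 : QuaternionGroup (2 ^ (0 + 1)) → QuaternionGroup (2 ^ (0 + 1))
  | a i => if i = 0 then a 0 else if i = 2 then a 2 else if i = 1 then xa 0 else xa 2
  | xa i => if i = 0 then xa 1 else if i = 2 then xa 3 else if i = 1 then a 1 else a 3

theorem rot8_mul : ∀ v w, rot8 (v * w) = rot8 v * rot8 w := by decide

theorem rot8_inv : ∀ w, rot8 (rot8 (rot8 w)) = w := by decide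

theorem quat_eight_cases : ∀ w : QuaternionGroup (2 ^ (0 + 1)), w * w = a (qN 0) →
    w = a 1 ∨ w = a 3 ∨ rot8 w = a 1 ∨ rot8 w = a 3 ∨ rot8 (rot8 w) = a 1 ∨ rot8 (rot8 w) = a 3 := by decide

/-- An element of order four can be moved to `r ^ (± 1)`. -/
theorem quat_eight_relabel (w : QuaternionGroup (2 ^ (0 + 1))) (hw : w * w = a (qN 0)) :
    ∃ e : QuaternionGroup (2 ^ (0 + 1)) ≃* QuaternionGroup (2 ^ (0 + 1)),
      e w = a (qM 0) ∨ e w = a (-qM 0) := by
  let e : QuaternionGroup (2 ^ (0 + 1)) ≃* QuaternionGroup (2 ^ (0 + 1)) :=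
    { toFun := rot8
      invFun := fun x => rot8 (rot8 x)
      left_inv := rot8_inv
      right_inv := rot8_inv
      map_mul' := rot8_mul }
  rcases quat_eight_cases w hw with h | h | h | h | h | h
  · exact ⟨MulEquiv.refl _, Or.inl h⟩
  · exact ⟨MulEquiv.refl _, Or.inr h⟩
  · exact ⟨e, Or.inl h⟩
  · exact ⟨e, Or.inr h⟩
  · exact ⟨e.trans e, Or.inl h⟩
  · exact ⟨e.trans e, Or.inr h⟩

end Cfsg.Agent.TwoPair
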