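import Cfsg.Agent.Lib.Fusion.TwoCompPair.Swap
import Cfsg.Agent.Lib.Fusion.TwoCompPair.QuatAct

/-!
`a` normalizes `K` and `b` moves `J`: contradiction with the Sylow 2-subgroups of `J` and `K` of
equal order.
-/

set_option autoImplicit false
set_option linter.style.haveILetI false

open Cfsg Cfsg.Agent Cfsg.Agent.Fusion

namespace Cfsg.Agent.TwoPair

local instance : Fact (Nat.Prime 2) := ⟨Nat.prime_two⟩

/-! ### Quaternion group -/

section
variable {n : ℕ}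

theorem two_torsion {j : ZMod (2 * 2 ^ (n + 1))} (h : j + j = 0) : j = 0 ∨ j = qN n := by
  have hd : 2 * 2 ^ (n + 1) ∣ j.val + j.val := by
    rw [← ZMod.natCast_eq_zero_iff, Nat.cast_add, ZMod.natCast_zmod_val, h]
  have hlt := ZMod.val_lt j
  obtain ⟨d, hd⟩ := hd
  rcases d with _ | _ | d
  · left; rw [← ZMod.natCast_zmod_val j, show j.val = 0 by omega, Nat.cast_zero]
  · right; rw [← ZMod.natCast_zmod_val j, show j.val = 2 ^ (n + 1) by omega]
  · have : 2 * 2 ^ (n + 1) * 2 ≤ 2 * 2 ^ (n + 1) * (d + 1 + 1) := Nat.mul_le_mul_left _ (by omega)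
    omega

theorem qM_add_qN : qM n + qN n = -qM n := by
  have h1 := qM_add_qM (n := n)
  have h2 := qN_add_qN (n := n)
  linear_combination h1 + h2

theorem half_qM (m : ℕ) :
    ((2 ^ m : ℕ) : ZMod (2 * 2 ^ (m + 1 + 1))) + ((2 ^ m : ℕ) : ZMod (2 * 2 ^ (m + 1 + 1))) = qM (m + 1) := by
  rw [← Nat.cast_add, ← two_mul]
  exact congrArg Nat.cast (pow_succ' 2 m).symm

theorem quat_invol (w : QuaternionGroup (2 ^ (n + 1))) (h1 : w ≠ 1) (h2 : w * w = 1) :
    w = QuaternionGroup.a (qN n) := by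
  cases w with
  | a i =>
    rw [QuaternionGroup.a_mul_a, QuaternionGroup.one_def] at h2
    rcases two_torsion (QuaternionGroup.a.inj h2) with e | e
    · exact absurd (by rw [e]; exact QuaternionGroup.one_def.symm) h1
    · rw [e]
  | xa i =>
    exfalso
    rw [QuaternionGroup.xa_mul_xa, QuaternionGroup.one_def, add_sub_cancel_right] at h2
    exact qN_ne_zero (QuaternionGroup.a.inj h2)

theorem quat_sq_cases {w z : QuaternionGroup (2 ^ (n + 1))} (hw : w * w = QuaternionGroup.a (qN n))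
    (hz : z * z = w) : w = QuaternionGroup.a (qM n) ∨ w = QuaternionGroup.a (-qM n) := by
  cases z with
  | xa i =>
    exfalso
    rw [QuaternionGroup.xa_mul_xa, add_sub_cancel_right] at hz
    rw [← hz, QuaternionGroup.a_mul_a] at hw
    exact qN_ne_zero ((QuaternionGroup.a.inj hw).symm.trans qN_add_qN)
  | a i =>
    rw [QuaternionGroup.a_mul_a] at hz
    rw [← hz, QuaternionGroup.a_mul_a] at hw
    rw [← hz]
    have h1 := QuaternionGroup.a.inj hw
    rcases two_torsion (j := i + i - qM n) (by linear_combination h1 - qM_add_qM (n := n)) with e | e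
    · exact Or.inl (by rw [sub_eq_zero.1 e])
    · exact Or.inr (by rw [show i + i = -qM n by linear_combination e + qM_add_qN (n := n)])

theorem exists_relabel {Q : Type*} [Group Q] (e : Q ≃* QuaternionGroup (2 ^ (n + 1))) {w : Q}
    (hw : e w * e w = QuaternionGroup.a (qN n))
    (hcase : n = 0 ∨ e w = QuaternionGroup.a (qM n) ∨ e w = QuaternionGroup.a (-qM n)) :
    ∃ e' : Q ≃* QuaternionGroup (2 ^ (n + 1)), e' w = QuaternionGroup.a (qM n) := by
  have hneg : ∀ e' : Q ≃* QuaternionGroup (2 ^ (n + 1)), e' w = QuaternionGroup.a (-qM n) →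
      ∃ e' : Q ≃* QuaternionGroup (2 ^ (n + 1)), e' w = QuaternionGroup.a (qM n) := by
    intro e' he'
    refine ⟨e'.trans (MulAut.conj (QuaternionGroup.xa 0)), ?_⟩
    rw [MulEquiv.trans_apply, he', MulAut.conj_apply, mul_inv_eq_iff_eq_mul,
      QuaternionGroup.xa_mul_a, QuaternionGroup.a_mul_xa, zero_add, zero_sub]
  rcases hcase with h0 | h1 | h1
  · subst h0
    obtain ⟨e₀, h2 | h2⟩ := quat_eight_relabel (e w) hw
    · exact ⟨e.trans e₀, h2⟩
    · exact hneg (e.trans e₀) h2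
  · exact ⟨e, h1⟩
  · exact hneg e h1

variable {G : Type*} [Group G] {Q : Subgroup G}

open Classical in
/-- Conjugation by `c` in the coordinates given by `e`. -/
noncomputable def cact (e : ↥Q ≃* QuaternionGroup (2 ^ (n + 1))) (c : G)
    (w : QuaternionGroup (2 ^ (n + 1))) : QuaternionGroup (2 ^ (n + 1)) :=
  if h : cb (e.symm w : G) c ∈ Q then e ⟨_, h⟩ else 1

variable {e : ↥Q ≃* QuaternionGroup (2 ^ (n + 1))} {c c' : G}

theorem symm_ext {v w : QuaternionGroup (2 ^ (n + 1))} (h : (e.symm v : G) = (e.symm w : G)) : v = w :=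
  e.symm.injective (Subtype.ext h)

theorem cact_spec (hc : ∀ x ∈ Q, cb x c ∈ Q) (w : QuaternionGroup (2 ^ (n + 1))) :
    (e.symm (cact e c w) : G) = cb (e.symm w : G) c := by
  rw [cact, dif_pos (hc _ (e.symm w).2), MulEquiv.symm_apply_apply]

theorem symm_mul (v w : QuaternionGroup (2 ^ (n + 1))) :
    (e.symm (v * w) : G) = (e.symm v : G) * (e.symm w : G) := by
  rw [map_mul, Subgroup.coe_mul]

theorem cact_comp (hc : ∀ x ∈ Q, cb x c ∈ Q) (hc' : ∀ x ∈ Q, cb x c' ∈ Q)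
    (w : QuaternionGroup (2 ^ (n + 1))) : cact e c' (cact e c w) = cact e (c * c') w := by
  refine symm_ext (e := e) ?_
  rw [cact_spec hc', cact_spec hc, cact_spec (fun x hx => cb_cb x c c' ▸ hc' _ (hc x hx)), cb_cb]

theorem cact_fix (hc : ∀ x ∈ Q, cb x c ∈ Q) {w : QuaternionGroup (2 ^ (n + 1))}
    (h : cb (e.symm w : G) c = (e.symm w : G)) : cact e c w = w :=
  symm_ext (e := e) (by rw [cact_spec hc, h])

theorem cact_good (hc : ∀ x ∈ Q, cb x c ∈ Q)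
    (hfix : cb (e.symm (QuaternionGroup.a (qM n)) : G) c = (e.symm (QuaternionGroup.a (qM n)) : G) ∨
      cb (e.symm (QuaternionGroup.a (qM n)) : G) c =
        (e.symm (QuaternionGroup.a (qM n)) : G) * (e.symm (QuaternionGroup.a (qN n)) : G)) :
    Good n (cact e c) := by
  refine ⟨fun x y => symm_ext (e := e) ?_, fun x y h => ?_, ?_⟩
  · rw [cact_spec hc, symm_mul, cb_mul, symm_mul, cact_spec hc, cact_spec hc]
  · have h1 := congrArg (fun v => (e.symm v : G)) h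
    simp only [cact_spec hc] at h1
    refine symm_ext (e := e) ?_
    exact (MulAut.conj c⁻¹).injective (by simpa [cb] using h1)
  · rcases hfix with h | h
    · exact Or.inl (cact_fix hc h)
    · refine Or.inr (symm_ext (e := e) ?_)
      rw [cact_spec hc, h, ← symm_mul, QuaternionGroup.a_mul_a, qM_add_qN]

end

variable {G : Type*} [Group G] [Finite G] {a b : G} {J K : Subgroup G}

theorem TC.symm_qN (h : TC a J) {Q : Subgroup G} (hQ : SylIn 2 Q J) {n : ℕ}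
    (e : ↥Q ≃* QuaternionGroup (2 ^ (n + 1))) : (e.symm (QuaternionGroup.a (qN n)) : G) = a := by
  refine (h.eq_of_sq (hQ.le (e.symm _).2) ?_).resolve_left fun he => ?_
  · rw [← symm_mul, QuaternionGroup.a_mul_a, qN_add_qN, ← QuaternionGroup.one_def, map_one,
      Subgroup.coe_one]
  · have h1 : QuaternionGroup.a (qN n) = (1 : QuaternionGroup (2 ^ (n + 1))) :=
      symm_ext (e := e) (by rw [he, map_one, Subgroup.coe_one])
    rw [QuaternionGroup.one_def] at h1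
    exact qN_ne_zero (QuaternionGroup.a.inj h1)

theorem TC.symm_qM_sq (h : TC a J) {Q : Subgroup G} (hQ : SylIn 2 Q J) {n : ℕ}
    (e : ↥Q ≃* QuaternionGroup (2 ^ (n + 1))) :
    (e.symm (QuaternionGroup.a (qM n)) : G) * (e.symm (QuaternionGroup.a (qM n)) : G) = a := by
  rw [← symm_mul, QuaternionGroup.a_mul_a, qM_add_qM, h.symm_qN hQ e]

theorem twoEl_four {x z : G} (hx : x * x = z) (hz : z * z = 1) : TwoEl x :=
  ⟨2, by rw [show (2 : ℕ) ^ 2 = 2 + 2 by norm_num, pow_add, pow_two, hx, hz]⟩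

theorem cb_inverted {a b h : G} (hb : b * b = 1) (hha : cb h a = h * b) : cb a h = a * b := by
  have e1 : h⁻¹ * a = a * (h * b)⁻¹ := by rw [← hha]; simp [cb, mul_assoc]
  calc cb a h = h⁻¹ * a * h := rfl
    _ = a * ((h * b)⁻¹ * h) := by rw [e1, mul_assoc]
    _ = a * b := by rw [mul_inv_rev, mul_assoc, inv_mul_cancel, mul_one, inv_eq_of_mul_eq_one_right hb]

/-- `b ^ f = b d a` for the diagonal `d = f f^b` of an element `f` of order four. -/
theorem diag_facts {a b f d : G} (hbb : b * b = 1) (haa : a * a = 1) (hff : f * f = a)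
    (hba : b ∈ Cz a) (hcm : f * cb f b = cb f b * f) (hd : d = f * cb f b) :
    d * d = 1 ∧ d ∈ Cz a ∧ d ∈ Cz b ∧ d ∈ Cz f ∧ cb b f = b * (d * a) := by
  have hf : f ∈ Cz a := mem_Cz.2 (by rw [← hff, mul_assoc])
  have hf' : cb f b ∈ Cz a := cb_mem_Cz hf hba
  have hf'2 : cb f b * cb f b = a := by rw [← cb_mul, hff, cb_eq_self.2 hba]
  refine ⟨?_, hd ▸ mul_mem hf hf', mem_Cz_comm (cb_eq_self.1 ?_), ?_, ?_⟩
  · rw [hd]
    calc f * cb f b * (f * cb f b) = f * f * (cb f b * cb f b) :=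
          Commute.mul_mul_mul_comm (show Commute (cb f b) f from hcm.symm) _ _
      _ = 1 := by rw [hff, hf'2, haa]
  · rw [hd, cb_mul, cb_cb, hbb, cb_one, hcm]
  · rw [hd, mem_Cz]; exact ((Commute.refl f).mul_right hcm).eq
  · have hai : a⁻¹ = a := inv_eq_of_mul_eq_one_right haa
    have hbi : b⁻¹ = b := inv_eq_of_mul_eq_one_right hbb
    have hfi : f⁻¹ = f * a := inv_eq_of_mul_eq_one_right (by rw [← mul_assoc, hff, haa])
    have hf'i : (cb f b)⁻¹ = cb f b * a :=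
      inv_eq_of_mul_eq_one_right (by rw [← mul_assoc, hf'2, haa])
    calc cb b f = b * ((cb f b)⁻¹ * f) := by simp [cb, mul_assoc]
      _ = b * (cb f b * a * f) := by rw [hf'i]
      _ = b * (cb f b * (a * f)) := by rw [mul_assoc (cb f b) a f]
      _ = b * (cb f b * (f * a)) := by rw [mem_Cz.1 hf]
      _ = b * (cb f b * f * a) := by rw [← mul_assoc (cb f b) f a]
      _ = _ := by rw [← hcm, hd]

namespace Swp

/-- The diagonal cannot move the inverted element. -/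
theorem no_flip (S : Swp a b J K) (hJc : ∀ g, Cyc (cb a g) (cs J g)) {f h : G} (hf : f ∈ J)
    (hff : f * f = a) (hcm : f * cb f b = cb f b * f) (hh : h ∈ K) (hhh : h * h = b)
    (hha : cb h a = h * b) (hd : cb h (f * cb f b) = h * b) : False := by
  obtain ⟨d, hddef⟩ : ∃ d, d = f * cb f b := ⟨_, rfl⟩
  rw [← hddef] at hd
  obtain ⟨hdd, hdA, hdB, hdF, hbf⟩ := diag_facts S.tK.sq S.tJ.sq hff S.bCa hcm hddef
  obtain ⟨e, he⟩ : ∃ e, e = d * a := ⟨_, rfl⟩
  have hfA := S.tJ.le hf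
  have hf2 := twoEl_four hff S.tJ.sq
  have hcb_a : a ∈ Cz b := S.aCb
  have hhb := S.tK.le hh
  have hee : e * e = 1 := by
    rw [he, (show Commute a d from mem_Cz.1 hdA).mul_mul_mul_comm, hdd, S.tJ.sq, mul_one]
  have heA : e ∈ Cz a := he ▸ mul_mem hdA (self_mem_Cz a)
  have heB : e ∈ Cz b := he ▸ mul_mem hdB hcb_a
  have heF : e ∈ Cz f := he ▸ mul_mem hdF (mem_Cz_comm hfA)
  have heh : e ∈ Cz h := cb_eq_self.1 (by
    rw [he, ← cb_cb, hd, cb_mul, hha, cb_eq_self.2 hcb_a, mul_assoc, S.tK.sq, mul_one])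
  have hbe : cb b f = b * e := hbf.trans (he ▸ rfl)
  have hef : cb e f = e := cb_eq_self.2 (mem_Cz_comm heF)
  have hbef : cb (b * e) f = b := by rw [cb_mul, hbe, hef, mul_assoc, hee, mul_one]
  obtain ⟨h', hh'⟩ : ∃ h', h' = cb h f := ⟨_, rfl⟩
  have hbh : cb b h = b := cb_eq_self.2 hhb
  have hbeh : cb (b * e) h = b * e := by rw [cb_mul, hbh, cb_eq_self.2 (mem_Cz_comm heh)]
  have hconj : ∀ {x : G}, cb x h = x → cb (cb x f) h' = cb x f := fun hx => by
    rw [hh', cb_cb, show f * cb h f = h * f by simp [cb, mul_assoc], ← cb_cb, hx]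
  have hbh' : cb b h' = b := by
    have := hconj hbeh
    rwa [hbef] at this
  have heh' : cb e h' = e := by
    have := hconj (cb_eq_self.2 (mem_Cz_comm heh))
    rwa [hef] at this
  have hah : cb a h = a * b := cb_inverted S.tK.sq hha
  have hah' : cb a h' = a * b * e := by
    have haf : cb a f⁻¹ = a := cb_eq_self.2 (inv_mem hfA)
    rw [hh', show cb h f = f⁻¹ * h * f from rfl, ← cb_cb, ← cb_cb, haf, hah, cb_mul,
      cb_eq_self.2 hfA, hbe, mul_assoc]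
  obtain ⟨g, hg⟩ : ∃ g, g = h * h' := ⟨_, rfl⟩
  have hag : cb a g = a * e := by
    rw [hg, ← cb_cb, hah, cb_mul, hah', hbh', mul_assoc (a * b), ← mem_Cz.1 heB, ← mul_assoc,
      mul_assoc a b b, S.tK.sq, mul_one]
  have heg : cb e g = e := by rw [hg, ← cb_cb, cb_eq_self.2 (mem_Cz_comm heh), heh']
  obtain ⟨x, hx⟩ : ∃ x, x = cb f g := ⟨_, rfl⟩
  have hxA : x ∈ Cz a := by
    have h2 : cb (a * e) g = a := by rw [cb_mul, hag, heg, mul_assoc, hee, mul_one]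
    have h3 : cb (a * e) f = a * e := by rw [cb_mul, cb_eq_self.2 hfA, hef]
    refine cb_eq_self.1 ?_
    rw [hx, show cb f g = g⁻¹ * f * g from rfl, ← cb_cb, ← cb_cb,
      show cb a g⁻¹ = a * e by conv_lhs => rw [← h2, cb_cb, mul_inv_cancel, cb_one], h3, h2]
  have hne : a ≠ a * e := fun h => by
    have he1 : e = 1 := mul_eq_left.1 h.symm
    have h4 : cb f b = f := by
      have h5 : d = a := by rwa [he, mul_eq_one_iff_eq_inv, inv_eq_of_mul_eq_one_right S.tJ.sq] at he1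
      rw [hddef, ← hff] at h5
      exact mul_left_cancel h5
    have h6 : f ∈ cs J b := h4 ▸ cb_mem_cs hf
    exact S.tJ.ne_one (hff.symm.trans (S.tJ.sq_eq_one_of_inter S.tJb (Ne.symm S.move) hf h6 hf2))
  have hxJ : cs J x = J := by
    by_contra hcon
    have t := S.tJ.conj g
    have c := hJc g
    rw [hag] at t c
    refine mov_false ⟨S.tJ, t, hne, hx ▸ cb_mem_cs hf, hx ▸ twoEl_cb g hf2, hxA,
      eq_one_or_four (hx ▸ twoEl_cb g hf2) ?_, hcon⟩ c
    rw [hx, ← cb_mul, hff, hag]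
    exact fun h1 => t.ne_one h1
  obtain ⟨c, hc⟩ : ∃ c, c = h⁻¹ * h'⁻¹ * h * h' := ⟨_, rfl⟩
  have hh'f : cb h' f = h * b := by rw [hh', cb_cb, hff, hha]
  have hbi : b⁻¹ = b := inv_eq_of_mul_eq_one_right S.tK.sq
  have hxc : x = f * b * c := by
    have e1 : h⁻¹ * f = f * h'⁻¹ := by rw [hh']; simp [cb, mul_assoc]
    have e2 : h'⁻¹ * f = f * (h * b)⁻¹ := by rw [← hh'f]; simp [cb, mul_assoc]
    calc x = h'⁻¹ * (h⁻¹ * f) * (h * h') := by rw [hx, hg]; simp [cb, mul_assoc]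
      _ = h'⁻¹ * f * (h'⁻¹ * (h * h')) := by rw [e1]; simp [mul_assoc]
      _ = f * (b⁻¹ * h⁻¹) * (h'⁻¹ * (h * h')) := by rw [e2, mul_inv_rev]
      _ = _ := by rw [hc, hbi]; simp [mul_assoc]
  have hfJ : cs J f = J := cs_eq_of_mem_normalizer (Subgroup.le_normalizer hf)
  have hswap : cs (cs J b) c = J := by
    conv_rhs => rw [← hxJ, hxc, ← cs_cs, ← cs_cs, hfJ]
  have hh'B : h' ∈ Cz b := cb_eq_self.1 hbh'
  have hcB : c ∈ Cz b := hc ▸ mul_mem (mul_mem (mul_mem (inv_mem hhb) (inv_mem hh'B)) hhb) hh'B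
  have hcA : c ∈ Cz a := by
    rw [show c = b⁻¹ * f⁻¹ * x by rw [hxc]; group]
    exact mul_mem (mul_mem (inv_mem S.bCa) (inv_mem hfA)) hxA
  have hswap' : cs J c = cs J b := by
    calc cs J c = cs (cs (cs J b) b) c := by rw [cs_cs J b b, S.tK.sq, cs_one]
      _ = cs (cs (cs J b) c) b := by rw [cs_cs, cs_cs (cs J b) c, mem_Cz.1 hcB]
      _ = _ := by rw [hswap]
  have hcf : cb c f = c⁻¹ := by
    have h1 : cb h' f = h * b := hh'f
    rw [hc, cb_mul, cb_mul, cb_mul, cb_inv, cb_inv, ← hh', h1, mul_inv_rev, hbi, mul_inv_rev,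
      mul_inv_rev, mul_inv_rev, inv_inv, inv_inv]
    have hcm : b * h⁻¹ = h⁻¹ * b := mem_Cz.1 (inv_mem hhb)
    have hcm' : b * h' = h' * b := mem_Cz.1 hh'B
    calc h'⁻¹ * (b * h⁻¹) * h' * (h * b) = h'⁻¹ * h⁻¹ * (b * h') * (h * b) := by
          rw [hcm]; simp [mul_assoc]
      _ = h'⁻¹ * h⁻¹ * h' * (b * h) * b := by rw [hcm']; simp [mul_assoc]
      _ = h'⁻¹ * h⁻¹ * h' * h * (b * b) := by rw [mem_Cz.1 hhb]; simp [mul_assoc]
      _ = _ := by rw [S.tK.sq, mul_one]; simp [mul_assoc]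
  -- the 2-part of `c`
  obtain ⟨j, m, hm, hcard⟩ := Nat.exists_eq_pow_mul_and_not_dvd (orderOf_pos c).ne' 2 (by norm_num)
  obtain ⟨c2, hc2⟩ : ∃ c2, c2 = c ^ m := ⟨_, rfl⟩
  have hc2t : TwoEl c2 := ⟨j, by rw [hc2, ← pow_mul, mul_comm, ← hcard, pow_orderOf_eq_one]⟩
  have hc2A : c2 ∈ Cz a := hc2 ▸ pow_mem hcA _
  have hc2B : c2 ∈ Cz b := hc2 ▸ pow_mem hcB _
  have hc2J : cs J c2 = cs J b := by
    obtain ⟨r, rfl⟩ : Odd m := Nat.odd_iff.2 (by omega)
    have h1 : cs J (c * c) = J := by rw [← cs_cs, hswap', hswap]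
    rw [hc2, pow_succ, ← cs_cs, pow_mul, pow_two,
      cs_eq_of_mem_normalizer (pow_mem (mem_normalizer_of_cs h1) r), hswap']
  have hc22 : c2 * c2 = 1 := by
    by_cases hK : cs K h' = K
    · have hcK : c ∈ K := by
        rw [hc, mul_assoc h⁻¹, mul_assoc h⁻¹]
        refine mul_mem (inv_mem hh) ?_
        have := cb_mem_cs (g := h') hh
        rw [hK] at this
        simpa [cb, mul_assoc] using this
      exact S.noFix (hc2 ▸ pow_mem hcK _) hc2t hc2A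
    · have t := S.tK.conj_mem hh'B
      have hhh' : cb h h' ∈ cs K h' := cb_mem_cs hh
      have hcm2 : Commute (pr b h) (pr b (cb h h')) := S.tK.pr_commute t (Ne.symm hK) hh hhh'
      have hcc : pr b (c * c) = 1 := by
        have e1 : c = h⁻¹ * cb h h' := by rw [hc]; simp [cb, mul_assoc]
        rw [pr_mul hcB hcB, e1, pr_mul (inv_mem hhb) (t.le hhh'), pr_inv hhb,
          hcm2.inv_left.symm.mul_mul_mul_comm, ← mul_inv_rev, ← pr_mul hhb hhb,
          ← pr_mul (t.le hhh') (t.le hhh'), ← cb_mul, hhh, hbh', inv_mul_cancel]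
      have hcc2 : pr b (c2 * c2) = 1 := by
        rw [pr_eq_one (mul_mem hc2B hc2B), hc2, ← pow_add, ← two_mul, pow_mul, pow_two]
        exact pow_mem ((pr_eq_one (mul_mem hcB hcB)).1 hcc) _
      refine twoEl_mem_OC ?_ ((pr_eq_one (mul_mem hc2B hc2B)).1 hcc2)
      obtain ⟨k, hk⟩ := hc2t
      exact ⟨k, by rw [← pow_two, ← pow_mul, mul_comm, pow_mul, hk, one_pow]⟩
  have hc2f : f ∈ Cz c2 := cb_eq_self.1 (by
    rw [hc2, cb_pow, hcf, inv_pow, ← hc2, inv_eq_of_mul_eq_one_right hc22])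
  have hfin : f ∈ cs J b := by
    have := cb_mem_cs (g := c2) hf
    rwa [hc2J, cb_eq_self.2 (mem_Cz_comm hc2f)] at this
  exact S.tJ.ne_one (hff.symm.trans (S.tJ.sq_eq_one_of_inter S.tJb (Ne.symm S.move) hf hfin hf2))

/-- The diagonal of an element of order four cannot centralize a Sylow subgroup of `K`. -/
theorem no_central (S : Swp a b J K) (hKc : ∀ g, Cyc (cb b g) (cs K g)) {n : ℕ} {QJ QK : Subgroup G}
    (hQJ : SylIn 2 QJ J) (hQK : SylIn 2 QK K) (eJ : ↥QJ ≃* QuaternionGroup (2 ^ (n + 1)))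
    (eK : ↥QK ≃* QuaternionGroup (2 ^ (n + 1))) {f h : G}
    (hfe : (eJ.symm (QuaternionGroup.a (qM n)) : G) = f)
    (hhe : (eK.symm (QuaternionGroup.a (qM n)) : G) = h) (hha : cb h a = h * b)
    (hcm : f * cb f b = cb f b * f) (hcent : ∀ y ∈ QK, cb y (f * cb f b) = y) : False := by
  have hfQ : f ∈ QJ := hfe ▸ (eJ.symm _).2
  have hhQ : h ∈ QK := hhe ▸ (eK.symm _).2
  have hf := hQJ.le hfQ
  have hh := hQK.le hhQ
  have hhh : h * h = b := hhe ▸ S.tK.symm_qM_sq hQK eK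
  have hff : f * f = a := hfe ▸ S.tJ.symm_qM_sq hQJ eJ
  obtain ⟨d, hddef⟩ : ∃ d, d = f * cb f b := ⟨_, rfl⟩
  simp only [← hddef] at hcent
  obtain ⟨hdd, hdA, hdB, hdF, hbf⟩ := diag_facts S.tK.sq S.tJ.sq hff S.bCa hcm hddef
  have hfA := S.tJ.le hf
  have haa := S.tJ.sq
  have hdh : cb d h = d := cb_eq_self.2 (mem_Cz_comm (cb_eq_self.1 (hcent h hhQ)))
  have hdf : cb d f = d := cb_eq_self.2 (mem_Cz_comm hdF)
  have hah : cb a h = a * b := cb_inverted S.tK.sq hha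
  have hbh : cb b h = b := cb_eq_self.2 (S.tK.le hh)
  have hda : (d * a) * (d * a) = 1 := by
    rw [(show Commute a d from mem_Cz.1 hdA).mul_mul_mul_comm, hdd, haa, mul_one]
  have hdaB : d * a ∈ Cz b := mul_mem hdB S.aCb
  obtain ⟨h', hh'⟩ : ∃ h', h' = cb h f := ⟨_, rfl⟩
  have hbh' : cb b h' = d * a := by
    have hbfi : cb b f⁻¹ = b * (d * a) := by
      have hfi : f⁻¹ = f * a := inv_eq_of_mul_eq_one_right (by rw [← mul_assoc, hff, haa])
      rw [hfi, ← cb_cb, hbf, cb_mul, cb_mul, cb_eq_self.2 S.aCb, cb_eq_self.2 (self_mem_Cz a),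
        cb_eq_self.2 (mem_Cz_comm hdA)]
    calc cb b h' = cb (cb (cb b f⁻¹) h) f := by rw [hh']; simp [cb, mul_assoc]
      _ = cb (d * a) f := by
        rw [hbfi, cb_mul b (d * a) h, cb_mul d a h, hbh, hdh, hah]
        congr 1
        calc b * (d * (a * b)) = b * (d * a) * b := by simp [mul_assoc]
          _ = d * a * (b * b) := by rw [mem_Cz.1 hdaB, mul_assoc]
          _ = d * a := by rw [S.tK.sq, mul_one]
      _ = _ := by rw [cb_mul d a f, hdf, cb_eq_self.2 hfA]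
  have hdh' : cb d h' = d := by
    rw [hh', show cb h f = f⁻¹ * h * f from rfl, ← cb_cb, ← cb_cb,
      show cb d f⁻¹ = d from cb_eq_self.2 (inv_mem (mem_Cz_comm hdF)), hdh, hdf]
  obtain ⟨K3, hK3⟩ : ∃ K3, K3 = cs K h' := ⟨_, rfl⟩
  obtain ⟨Q3, hQ3⟩ : ∃ Q3, Q3 = cs QK h' := ⟨_, rfl⟩
  have t3 : TC (d * a) K3 := hbh' ▸ hK3 ▸ S.tK.conj h'
  have c3 : Cyc (d * a) K3 := hbh' ▸ hK3 ▸ hKc h'
  have s3 : SylIn 2 Q3 K3 := hQ3 ▸ hK3 ▸ hQK.cj h'⁻¹
  have hQ3A : Q3 ≤ Cz a := by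
    intro y hy
    have hyd : y ∈ Cz d := by
      have hyQ : h' * y * h'⁻¹ ∈ QK := mem_cs.1 (hQ3 ▸ hy)
      refine cb_eq_self.1 ?_
      have h1 : cb d (h' * y * h'⁻¹) = d :=
        cb_eq_self.2 (mem_Cz_comm (cb_eq_self.1 (hcent _ hyQ)))
      rw [show y = h'⁻¹ * (h' * y * h'⁻¹) * h' by group, ← cb_cb, ← cb_cb,
        show cb d h'⁻¹ = d by conv_lhs => rw [← hdh', cb_cb, mul_inv_cancel, cb_one], h1, hdh']
    have h2 := t3.le (s3.le hy)
    refine cb_eq_self.1 ?_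
    rw [show a = d⁻¹ * (d * a) by group, cb_mul, cb_inv, cb_eq_self.2 hyd, cb_eq_self.2 h2]
  have hane : a ≠ d * a := fun h1 => by
    have h4 : cb f b = f⁻¹ := by
      rw [eq_inv_iff_mul_eq_one, ← hcm, ← hddef]
      exact mul_eq_right.1 h1.symm
    have h6 : f⁻¹ ∈ cs J b := h4 ▸ cb_mem_cs hf
    exact S.tJ.ne_one (hff.symm.trans (S.tJ.sq_eq_one_of_inter S.tJb (Ne.symm S.move) hf
      (inv_inv f ▸ inv_mem h6) (twoEl_four hff haa)))
  have hfJ : cs J f = J := cs_eq_of_mem_normalizer (Subgroup.le_normalizer hf)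
  have hdaJ : cs J (d * a) = J := by
    rw [← cs_cs, hddef, ← cs_cs, hfJ, S.tJ.normalizes S.tJb (cb_mem_cs hf),
      cs_eq_of_mem_normalizer (Subgroup.le_normalizer S.tJ.mem)]
  have hQ3J : ∀ y ∈ Q3, cs J y = J := by
    intro y hy
    have h2 := twoEl_of_mem s3.isPGroup hy
    by_cases h1 : y * y = 1
    · rcases t3.eq_of_sq (s3.le hy) h1 with e | e <;> rw [e]
      · exact cs_one J
      · exact hdaJ
    · by_contra hcon
      exact mov_false ⟨S.tJ, t3, hane, s3.le hy, h2, hQ3A hy, eq_one_or_four h2 h1, hcon⟩ c3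
  have hyd' : ∀ y ∈ Q3, cb d y = d := by
    intro y hy
    have h2 := t3.le (s3.le hy)
    rw [show d = (d * a) * a⁻¹ by group, cb_mul, cb_inv, cb_eq_self.2 h2,
      cb_eq_self.2 (hQ3A hy)]
  -- the stabilizer of `±f`
  have haPr : ∀ {x : G}, x ∈ Cz a → Commute (pr a a) (pr a x) := fun hx => by
    show pr a a * pr a _ = pr a _ * pr a a
    rw [← pr_mul (self_mem_Cz a) hx, ← pr_mul hx (self_mem_Cz a), mem_Cz.1 hx]
  have hpaa : pr a a * pr a a = 1 := by rw [← pr_mul (self_mem_Cz a) (self_mem_Cz a), haa, pr_one]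
  have hfa : pr a (f * a) = pr a f * pr a a := pr_mul hfA (self_mem_Cz a)
  have hstep : ∀ {x y : G}, x ∈ Cz a → y ∈ Cz a → pr a (cb f x) = pr a (f * a) →
      pr a (cb f (x * y)) = pr a (cb f y) * pr a a := by
    intro x y hx hy e
    rw [← cb_cb, pr_cb (cb_mem_Cz hfA hx) hy, e, hfa, pr_cb hfA hy]
    simp only [mul_assoc, (haPr hy).eq]
  have hstep' : ∀ {x y : G}, x ∈ Cz a → y ∈ Cz a → pr a (cb f x) = pr a f →
      pr a (cb f (x * y)) = pr a (cb f y) := by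
    intro x y hx hy e
    rw [← cb_cb, pr_cb (cb_mem_Cz hfA hx) hy, e, pr_cb hfA hy]
  obtain ⟨X, hX⟩ : ∃ X : Subgroup G, ∀ x, x ∈ X ↔
      x ∈ Cz a ∧ (pr a (cb f x) = pr a f ∨ pr a (cb f x) = pr a (f * a)) := by
    refine ⟨{ carrier := {x | x ∈ Cz a ∧ (pr a (cb f x) = pr a f ∨ pr a (cb f x) = pr a (f * a))}
              one_mem' := ⟨one_mem _, Or.inl (by rw [cb_one])⟩
              mul_mem' := ?_
              inv_mem' := ?_ }, fun x => Iff.rfl⟩
    · rintro x y ⟨hx, ex⟩ ⟨hy, ey⟩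
      refine ⟨mul_mem hx hy, ?_⟩
      rcases ex with ex | ex
      · rw [hstep' hx hy ex]; exact ey
      · rw [hstep hx hy ex]
        rcases ey with ey | ey
        · exact Or.inr (by rw [ey, hfa])
        · exact Or.inl (by rw [ey, hfa, mul_assoc, hpaa, mul_one])
    · rintro x ⟨hx, ex⟩
      refine ⟨inv_mem hx, ?_⟩
      rcases ex with ex | ex
      · have := hstep' hx (inv_mem hx) ex
        rw [mul_inv_cancel, cb_one] at this
        exact Or.inl this.symm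
      · have := hstep hx (inv_mem hx) ex
        rw [mul_inv_cancel, cb_one] at this
        exact Or.inr (by rw [hfa, this, mul_assoc, hpaa, mul_one])
  obtain ⟨N, hN⟩ : ∃ N, N = J ⊓ X := ⟨_, rfl⟩
  have hQJN : QJ ≤ N := by
    intro x hx
    refine hN ▸ Subgroup.mem_inf.2 ⟨hQJ.le hx, (hX x).2 ⟨S.tJ.le (hQJ.le hx), ?_⟩⟩
    obtain ⟨v, hv⟩ : ∃ v, (eJ.symm v : G) = x := ⟨eJ ⟨x, hx⟩, by rw [eJ.symm_apply_apply]⟩
    have key : QuaternionGroup.a (qM n) * v = v * QuaternionGroup.a (qM n) ∨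
        QuaternionGroup.a (qM n) * v = v * QuaternionGroup.a (qM n + qN n) := by
      cases v with
      | a i => exact Or.inl (by rw [QuaternionGroup.a_mul_a, QuaternionGroup.a_mul_a, add_comm (qM n) i])
      | xa i =>
        refine Or.inr ?_
        rw [QuaternionGroup.a_mul_xa, QuaternionGroup.xa_mul_a, qM_add_qN, sub_eq_add_neg]
    rcases key with k | k <;> have k2 := congrArg (fun w => (eJ.symm w : G)) k <;>
      simp only [symm_mul, hv, hfe] at k2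
    · exact Or.inl (by rw [show cb f x = f by rw [cb, mul_assoc, k2, inv_mul_cancel_left]])
    · refine Or.inr ?_
      rw [← QuaternionGroup.a_mul_a, symm_mul, hfe, S.tJ.symm_qN hQJ eJ] at k2
      rw [show cb f x = f * a by rw [cb, mul_assoc, k2, inv_mul_cancel_left]]
  have hQ3X : Q3 ≤ X := by
    intro y hy
    have hyA := hQ3A hy
    refine (hX y).2 ⟨hyA, ?_⟩
    have hzJ : cb f y ∈ J := by
      have := cb_mem_cs (g := y) hf
      rwa [hQ3J y hy] at this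
    have tJ'' := S.tJb.conj_mem hyA
    have hne'' : J ≠ cs (cs J b) y := fun e =>
      S.move (cs_inj (g := y) (e.symm.trans (hQ3J y hy).symm))
    have hdy : cb f y * cb (cb f b) y = f * cb f b := by
      rw [← cb_mul, ← hddef]; exact hyd' y hy
    have hz'A : cb (cb f b) y ∈ Cz a := cb_mem_Cz (cb_mem_Cz hfA S.bCa) hyA
    refine S.tJ.eq_or_mul_of_cent hf (twoEl_four hff haa) hzJ (twoEl_cb y (twoEl_four hff haa)) ?_
    intro j hj
    have e1 : f⁻¹ * cb f y = cb f b * (cb (cb f b) y)⁻¹ := by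
      rw [inv_mul_eq_iff_eq_mul, ← mul_assoc, eq_mul_inv_iff_mul_eq, hdy]
    rw [e1, pr_mul (cb_mem_Cz hfA S.bCa) (inv_mem hz'A), pr_inv hz'A]
    have k1 : Commute (pr a j) (pr a (cb f b)) :=
      S.tJ.pr_commute S.tJb (Ne.symm S.move) hj (cb_mem_cs hf)
    have k2 : Commute (pr a j) (pr a (cb (cb f b) y)) :=
      S.tJ.pr_commute tJ'' hne'' hj (cb_mem_cs (cb_mem_cs hf))
    exact (k1.mul_right k2.inv_right).symm.eq
  have hQ3N : Q3 ≤ Subgroup.normalizer (N : Set G) := by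
    intro y hy
    refine hN ▸ mem_normalizer_of_cs ?_
    rw [cs, cj_inf]
    exact congrArg₂ (· ⊓ ·) (hQ3J y hy)
      (cs_eq_of_mem_normalizer (Subgroup.le_normalizer (hQ3X hy)))
  obtain ⟨P5, hP5, hQ3P⟩ := exists_sylIn_ge s3.isPGroup (le_sup_right : Q3 ≤ N ⊔ Q3)
  have hNA : N ≤ Cz a := (hN ▸ inf_le_left : N ≤ J).trans S.tJ.le
  have hP5A : P5 ≤ Cz a := hP5.le.trans (sup_le hNA hQ3A)
  obtain ⟨Q5, hQ5⟩ : ∃ Q5, Q5 = P5 ⊓ N := ⟨_, rfl⟩
  have s5 : SylIn 2 Q5 N :=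
    hQ5 ▸ hP5.inf_normal le_sup_left (sup_le Subgroup.le_normalizer hQ3N)
  have sJ : SylIn 2 QJ N := hQJ.mono hQJN (hN ▸ inf_le_left)
  obtain ⟨x, hxN, hxe⟩ := sJ.conj_eq s5
  obtain ⟨e5, he5⟩ : ∃ e5 : ↥Q5 ≃* QuaternionGroup (2 ^ (n + 1)),
      ∀ w, (e5.symm w : G) = x * (eJ.symm w : G) * x⁻¹ := by
    refine ⟨(((QJ.equivMapOfInjective (MulAut.conj x).toMonoidHom (MulAut.conj x).injective).trans
      (MulEquiv.subgroupCongr hxe)).symm.trans eJ), fun w => ?_⟩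
    show MulAut.conj x (eJ.symm w : G) = _
    rfl
  obtain ⟨f5, hf5⟩ : ∃ f5, f5 = (e5.symm (QuaternionGroup.a (qM n)) : G) := ⟨_, rfl⟩
  have hf5Q : f5 ∈ Q5 := hf5 ▸ (e5.symm _).2
  have hQ5P : Q5 ≤ P5 := hQ5 ▸ inf_le_left
  have hQ5N : Q5 ≤ N := hQ5 ▸ inf_le_right
  have hQ5J : Q5 ≤ J := hQ5N.trans (hN ▸ inf_le_left)
  have sQ5 : SylIn 2 Q5 J := hQJ.of_card_ge s5.isPGroup hQ5J (by rw [← hxe, card_cj])
  have ha5 : (e5.symm (QuaternionGroup.a (qN n)) : G) = a := S.tJ.symm_qN sQ5 e5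
  have haP5 : a ∈ P5 := hQ5P (ha5 ▸ (e5.symm _).2)
  have hf5pr : pr a f5 = pr a f ∨ pr a f5 = pr a (f * a) := by
    have h1 : x⁻¹ ∈ X := X.inv_mem (Subgroup.mem_inf.1 (hN ▸ hxN : x ∈ J ⊓ X)).2
    have e1 : f5 = cb f x⁻¹ := by rw [hf5, he5, hfe]; simp [cb, mul_assoc]
    rw [e1]
    exact ((hX _).1 h1).2
  have hfix : ∀ y ∈ Q3, cb f5 y = f5 ∨ cb f5 y = f5 * a := by
    intro y hy
    obtain ⟨hyA, hy'⟩ := (hX y).1 (hQ3X hy)
    have hmem : cb f5 y ∈ P5 :=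
      mul_mem (mul_mem (inv_mem (hQ3P hy)) (hQ5P hf5Q)) (hQ3P hy)
    have hf5A : f5 ∈ Cz a := hP5A (hQ5P hf5Q)
    have h1 : pr a (cb f5 y) = pr a f5 ∨ pr a (cb f5 y) = pr a (f5 * a) := by
      rw [pr_cb hf5A hyA, pr_mul hf5A (self_mem_Cz a)]
      rw [pr_cb hfA hyA] at hy'
      rcases hf5pr with e | e <;> rw [e]
      · rcases hy' with e' | e'
        · exact Or.inl e'
        · exact Or.inr (by rw [e', hfa])
      · have e2 : (pr a y)⁻¹ * pr a (f * a) * pr a y =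
            (pr a y)⁻¹ * pr a f * pr a y * pr a a := by
          rw [hfa]; simp only [mul_assoc, (haPr hyA).eq]
        rw [e2]
        rcases hy' with e' | e'
        · exact Or.inl (by rw [e', hfa])
        · exact Or.inr (by rw [e'])
    rcases h1 with e | e
    · exact Or.inl (pr_inj hP5.isPGroup hP5A hmem (hQ5P hf5Q) e)
    · exact Or.inr (pr_inj hP5.isPGroup hP5A hmem (mul_mem (hQ5P hf5Q) haP5) e)
  have hQ3Q5 : ∀ y ∈ Q3, ∀ w ∈ Q5, cb w y ∈ Q5 := by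
    intro y hy w hw
    rw [hQ5] at hw ⊢
    refine Subgroup.mem_inf.2 ⟨mul_mem (mul_mem (inv_mem (hQ3P hy)) (Subgroup.mem_inf.1 hw).1) (hQ3P hy), ?_⟩
    have := cb_mem_cs (g := y) hw.2
    rwa [cs_eq_of_mem_normalizer (hQ3N hy)] at this
  obtain ⟨e3, he3⟩ : ∃ e3 : ↥Q3 ≃* QuaternionGroup (2 ^ (n + 1)),
      (e3.symm (QuaternionGroup.a (qN n)) : G) = d * a := by
    refine ⟨((QK.equivMapOfInjective (MulAut.conj h'⁻¹).toMonoidHom (MulAut.conj h'⁻¹).injective).trans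
      (MulEquiv.subgroupCongr hQ3.symm)).symm.trans eK, ?_⟩
    exact t3.symm_qN s3 _
  refine no_action (fun y w => cact e5 (e3.symm y : G) w) (fun y => ?_) (fun y y' w => ?_)
    (fun w => ?_) ?_
  · refine cact_good (hQ3Q5 _ (e3.symm y).2) ?_
    rw [← hf5, ha5]
    exact hfix _ (e3.symm y).2
  · show cact e5 (e3.symm (y * y') : G) w = _
    rw [symm_mul, cact_comp (hQ3Q5 _ (e3.symm y).2) (hQ3Q5 _ (e3.symm y').2)]
  · show cact e5 (e3.symm 1 : G) w = w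
    rw [map_one, Subgroup.coe_one]
    exact cact_fix (fun u hu => by rwa [cb_one]) (cb_one _)
  · have hdaQ : d * a ∈ Q3 := he3 ▸ (e3.symm _).2
    have key : ∀ w, (e5.symm (cact e5 (e3.symm (QuaternionGroup.a (qN n)) : G) w) : G) =
        cb (e5.symm w : G) f5 := by
      intro w
      rw [cact_spec (hQ3Q5 _ (e3.symm _).2), he3]
      have hwQ := (e5.symm w).2
      have hwA : (e5.symm w : G) ∈ Cz a := hP5A (hQ5P hwQ)
      have hf5A : f5 ∈ Cz a := hP5A (hQ5P hf5Q)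
      refine pr_inj hP5.isPGroup hP5A (hQ5P (hQ3Q5 _ hdaQ _ hwQ))
        (mul_mem (mul_mem (inv_mem (hQ5P hf5Q)) (hQ5P hwQ)) (hQ5P hf5Q)) ?_
      have hkey : ∀ u ∈ J, pr a (cb u (d * a)) = pr a (cb u f) := by
        intro u hu
        have huA := S.tJ.le hu
        have hufJ : cb u f ∈ J := by
          have := cb_mem_cs (g := f) hu
          rwa [hfJ] at this
        rw [← cb_cb, hddef, ← cb_cb,
          cb_eq_self.2 (mem_Cz_comm (cb_mem_Cz (cb_mem_Cz huA hfA) (cb_mem_Cz hfA S.bCa))),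
          pr_cb (cb_mem_Cz huA hfA) (cb_mem_Cz hfA S.bCa), mul_assoc,
          S.tJ.pr_commute S.tJb (Ne.symm S.move) hufJ (cb_mem_cs hf), inv_mul_cancel_left]
      rw [hkey _ (hQ5J hwQ), pr_cb hwA hfA, pr_cb hwA hf5A]
      rcases hf5pr with e | e <;> rw [e]
      rw [hfa, mul_inv_rev, inv_eq_of_mul_eq_one_right hpaa]
      calc (pr a f)⁻¹ * pr a (e5.symm w : G) * pr a f
          = pr a a * pr a a * ((pr a f)⁻¹ * pr a (e5.symm w : G) * pr a f) := by rw [hpaa, one_mul]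
        _ = pr a a * ((pr a f)⁻¹ * pr a (e5.symm w : G) * pr a f * pr a a) := by
          rw [mul_assoc (pr a a)]
          congr 1
          exact (((haPr hfA).inv_right.mul_right (haPr hwA)).mul_right (haPr hfA)).eq
        _ = _ := by simp only [mul_assoc]
    intro i
    refine ⟨symm_ext (e := e5) ?_, symm_ext (e := e5) ?_⟩ <;>
      rw [key, hf5, cb, ← Subgroup.coe_inv, ← map_inv, ← symm_mul, ← symm_mul] <;> congr 2
    · rw [mul_one, mul_assoc, inv_mul_eq_iff_eq_mul, QuaternionGroup.a_mul_a, QuaternionGroup.a_mul_a,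
        add_comm (qM n) i]
    · rw [mul_one, mul_assoc, inv_mul_eq_iff_eq_mul, QuaternionGroup.xa_mul_a, QuaternionGroup.a_mul_xa,
        ← qM_add_qM]
      congr 1
      ring

/-- `a` normalizes `K` and `b` moves `J`: impossible. -/
theorem false_of_card (S : Swp a b J K) (hJc : ∀ g, Cyc (cb a g) (cs J g))
    (hKc : ∀ g, Cyc (cb b g) (cs K g))
    (hcard : ∀ Q Q' : Subgroup G, SylIn 2 Q J → SylIn 2 Q' K → Nat.card Q = Nat.card Q') : False := by
  obtain ⟨δ, hδ, hperf, hsur⟩ := S.exists_diag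
  obtain ⟨P, hP, hbP⟩ := exists_sylIn_ge (isPGroup_zpowers S.tK.twoEl_self) (Subgroup.zpowers_le.2 S.bCa)
  have hbP' : b ∈ P := hbP (Subgroup.mem_zpowers b)
  obtain ⟨QJ, hQJdef⟩ : ∃ QJ, QJ = P ⊓ J := ⟨_, rfl⟩
  have hQJ : SylIn 2 QJ J := hQJdef ▸ S.tJ.sylIn_inf hP
  have hQJP : QJ ≤ P := hQJdef ▸ inf_le_left
  obtain ⟨n, ⟨eJ⟩⟩ := S.tJ.sylow_quaternion' hQJ
  have haP : a ∈ P := hQJP (S.tJ.symm_qN hQJ eJ ▸ (eJ.symm _).2)
  obtain ⟨P'', hP'', hPP''⟩ :=
    exists_sylIn_ge (hP.isPGroup.to_inf_left (K := Cz b)) (inf_le_right : P ⊓ Cz b ≤ Cz b)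
  have haP'' : a ∈ P'' := hPP'' (Subgroup.mem_inf.2 ⟨haP, S.aCb⟩)
  obtain ⟨QK, hQKdef⟩ : ∃ QK, QK = P'' ⊓ K := ⟨_, rfl⟩
  have hQK : SylIn 2 QK K := hQKdef ▸ S.tK.sylIn_inf hP''
  obtain ⟨eK0⟩ : Nonempty (↥QK ≃* QuaternionGroup (2 ^ (n + 1))) := by
    obtain ⟨n', ⟨e⟩⟩ := S.tK.sylow_quaternion' hQK
    have h1 := hcard QJ QK hQJ hQK
    rw [Nat.card_congr eJ.toEquiv, Nat.card_congr e.toEquiv, Nat.card_eq_fintype_card,
      Nat.card_eq_fintype_card, QuaternionGroup.card, QuaternionGroup.card] at h1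
    have h2 : n + 1 = n' + 1 := Nat.pow_right_injective le_rfl (show 2 ^ (n + 1) = 2 ^ (n' + 1) by omega)
    obtain rfl : n = n' := by omega
    exact ⟨e⟩
  have hinvQ : ∀ {c}, c ∈ P'' → cs K c = K → ∀ w ∈ QK, cb w c ∈ QK := by
    intro c hc hcK w hw
    rw [hQKdef] at hw ⊢
    obtain ⟨hw1, hw2⟩ := Subgroup.mem_inf.1 hw
    refine Subgroup.mem_inf.2 ⟨mul_mem (mul_mem (inv_mem hc) hw1) hc, ?_⟩
    have := cb_mem_cs (g := c) hw2
    rwa [hcK] at this
  have hQa := hinvQ haP'' S.anorm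
  -- coordinates on `QK`
  obtain ⟨eK, h, hhe, hha⟩ : ∃ (eK : ↥QK ≃* QuaternionGroup (2 ^ (n + 1))) (h : G),
      (eK.symm (QuaternionGroup.a (qM n)) : G) = h ∧ cb h a = h * b := by
    rcases n with _ | m
    · obtain ⟨h, hhQ, hhh, hha⟩ := S.exists_inverted hQK hQa
      have hw : eK0 ⟨h, hhQ⟩ * eK0 ⟨h, hhQ⟩ = QuaternionGroup.a (qN 0) := by
        refine symm_ext (e := eK0) ?_
        rw [symm_mul, eK0.symm_apply_apply, S.tK.symm_qN hQK eK0]
        exact hhh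
      obtain ⟨eK, he⟩ := exists_relabel eK0 hw (Or.inl rfl)
      exact ⟨eK, h, by rw [← he, eK.symm_apply_apply], hha⟩
    · obtain ⟨h, hh⟩ : ∃ h, h = (eK0.symm (QuaternionGroup.a (qM (m + 1))) : G) := ⟨_, rfl⟩
      refine ⟨eK0, h, hh.symm, ?_⟩
      have hhh : h * h = b := hh ▸ S.tK.symm_qM_sq hQK eK0
      have hhQ : h ∈ QK := hh ▸ (eK0.symm _).2
      obtain ⟨z, hz⟩ : ∃ z, z = (eK0.symm (QuaternionGroup.a
          ((2 ^ m : ℕ) : ZMod (2 * 2 ^ (m + 1 + 1)))) : G) := ⟨_, rfl⟩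
      have hzQ : z ∈ QK := hz ▸ (eK0.symm _).2
      have hzz : z * z = h := by
        rw [hz, ← symm_mul, QuaternionGroup.a_mul_a, hh, half_qM]
      obtain ⟨w, hw⟩ : ∃ w, eK0 ⟨cb h a, hQa h hhQ⟩ = w := ⟨_, rfl⟩
      have hws : (eK0.symm w : G) = cb h a := by rw [← hw, eK0.symm_apply_apply]
      have hww : w * w = QuaternionGroup.a (qN (m + 1)) := symm_ext (e := eK0) (by
        rw [symm_mul, hws, ← cb_mul, hhh, S.tK.symm_qN hQK eK0, cb_eq_self.2 S.aCb])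
      have hsq : eK0 ⟨cb z a, hQa z hzQ⟩ * eK0 ⟨cb z a, hQa z hzQ⟩ = w := symm_ext (e := eK0) (by
        rw [symm_mul, eK0.symm_apply_apply, hws]
        show cb z a * cb z a = _
        rw [← cb_mul, hzz])
      rcases quat_sq_cases hww hsq with e | e
      · exfalso
        rw [e, ← hh] at hws
        exact S.tK.ne_one (hhh.symm.trans (S.noFix (hQK.le hhQ) (twoEl_of_mem hQK.isPGroup hhQ)
          (mem_Cz_comm (cb_eq_self.1 hws.symm))))
      · rw [← hws, e, ← qM_add_qN, ← QuaternionGroup.a_mul_a, symm_mul, ← hh, S.tK.symm_qN hQK eK0]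
  have hhQ : h ∈ QK := hhe ▸ (eK.symm _).2
  have hbK : (eK.symm (QuaternionGroup.a (qN n)) : G) = b := S.tK.symm_qN hQK eK
  have hhh : h * h = b := hhe ▸ S.tK.symm_qM_sq hQK eK
  have hσ : Good n (cact eK a) := cact_good hQa (Or.inr (by rw [hhe, hbK]; exact hha))
  have hσinv : cact eK a (QuaternionGroup.a (qM n)) = QuaternionGroup.a (-qM n) := by
    refine symm_ext (e := eK) ?_
    rw [cact_spec hQa, hhe, hha, ← qM_add_qN, ← QuaternionGroup.a_mul_a, symm_mul, hhe, hbK]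
  -- the diagonal on `QJ`
  have hA : ∀ {x}, x ∈ QJ → x ∈ Cz a := fun hx => S.tJ.le (hQJ.le hx)
  have hcmJ : ∀ {x y}, x ∈ QJ → y ∈ QJ → x * cb y b = cb y b * x := fun hx hy =>
    S.tJ.commute S.tJb (Ne.symm S.move) hP.isPGroup hP.le (hQJP hx)
      (mul_mem (mul_mem (inv_mem hbP') (hQJP hy)) hbP') (hQJ.le hx) (cb_mem_cs (hQJ.le hy))
  obtain ⟨D, hD⟩ : ∃ D : G → G, ∀ x, D x = x * cb x b := ⟨_, fun _ => rfl⟩
  have hDmul : ∀ {x y}, x ∈ QJ → y ∈ QJ → D (x * y) = D x * D y := by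
    intro x y hx hy
    rw [hD, hD, hD, cb_mul]
    exact Commute.mul_mul_mul_comm (hcmJ hy hx) _ _
  have hDA : ∀ {x}, x ∈ QJ → D x ∈ Cz a := fun hx =>
    hD _ ▸ mul_mem (hA hx) (cb_mem_Cz (hA hx) S.bCa)
  have hDP : ∀ {x}, x ∈ QJ → D x ∈ P'' ∧ cs K (D x) = K := by
    intro x hx
    have h1 : D x ∈ P := hD x ▸ mul_mem (hQJP hx) (mul_mem (mul_mem (inv_mem hbP') (hQJP hx)) hbP')
    have h2 : D x ∈ Cz b := by
      refine mem_Cz_comm (cb_eq_self.1 ?_)
      rw [hD, cb_mul, cb_cb, S.tK.sq, cb_one, hcmJ hx hx]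
    refine ⟨hPP'' (Subgroup.mem_inf.2 ⟨h1, h2⟩),
      S.fix_diag hδ hperf hsur (hDA hx) h2 (twoEl_of_mem hP.isPGroup h1) ⟨⟨x, hQJ.le hx⟩, ?_⟩⟩
    rw [hδ, hD, pr_mul (hA hx) (cb_mem_Cz (hA hx) S.bCa)]
  have hQD : ∀ {x}, x ∈ QJ → ∀ w ∈ QK, cb w (D x) ∈ QK := fun hx => hinvQ (hDP hx).1 (hDP hx).2
  have hDh : ∀ {x}, x ∈ QJ → cb h (D x) = h ∨ cb h (D x) = h * b := by
    intro x hx
    refine S.inverted_unique hQK hhQ hha (hQD hx h hhQ) ?_
    rw [cb_cb, ← mem_Cz.1 (hDA hx), ← cb_cb, hha, cb_mul,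
      cb_eq_self.2 (hP''.le (hDP hx).1)]
  have hφ : ∀ {x}, x ∈ QJ → Good n (cact eK (D x)) := fun hx =>
    cact_good (hQD hx) (by rw [hhe, hbK]; exact hDh hx)
  have hφσ : ∀ {x}, x ∈ QJ → ∀ w, cact eK (D x) (cact eK a w) = cact eK a (cact eK (D x) w) :=
    fun hx w => by rw [cact_comp hQa (hQD hx), cact_comp (hQD hx) hQa, mem_Cz.1 (hDA hx)]
  have hspec : ∀ {c}, (∀ w ∈ QK, cb w c ∈ QK) → (∀ w, cact eK c w = w) → ∀ y ∈ QK, cb y c = y := by
    intro c hc hid y hy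
    have := cact_spec (e := eK) hc (eK ⟨y, hy⟩)
    rw [hid, eK.symm_apply_apply] at this
    exact this.symm
  have hDa : D a = 1 := by rw [hD, cb_eq_self.2 S.bCa, S.tJ.sq]
  rcases n with _ | m
  · -- order eight
    have hfix : ∀ {x}, x ∈ QJ → x * x = a → cb h (D x) = h := fun {x} hx hxx => by
      refine (hDh hx).resolve_right fun hflip => ?_
      refine S.no_flip hJc (hQJ.le hx) hxx (hcmJ hx hx) (hQK.le hhQ) hhh hha ?_
      rw [← hD]; exact hflip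
    have hcases : ∀ {x}, x ∈ QJ → x * x = a →
        (∀ w, cact eK (D x) w = w) ∨ Crd (cact eK (D x)) 1 (qN 0) := by
      intro x hx hxx
      refine involution_cases hσ hσinv (fun k hk => ?_) (hφ hx) (hφσ hx) (fun w => ?_)
        (cact_fix (hQD hx) (by rw [hhe]; exact hfix hx hxx))
      · have hu : cb (eK.symm (QuaternionGroup.xa k) : G) a = (eK.symm (QuaternionGroup.xa k) : G) := by
          rw [← cact_spec hQa, hk]
        have hu2 : (eK.symm (QuaternionGroup.xa k) : G) * (eK.symm (QuaternionGroup.xa k) : G) = b := by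
          rw [← symm_mul, QuaternionGroup.xa_mul_xa, add_sub_cancel_right]; exact hbK
        exact S.tK.ne_one (hu2.symm.trans (S.noFix (hQK.le (eK.symm _).2)
          (twoEl_of_mem hQK.isPGroup (eK.symm _).2) (mem_Cz_comm (cb_eq_self.1 hu))))
      · rw [cact_comp (hQD hx) (hQD hx), ← hDmul hx hx, hxx, hDa]
        exact cact_fix (fun u hu => by rwa [cb_one]) (cb_one _)
    obtain ⟨c1, h1⟩ : ∃ c, c = (eJ.symm (QuaternionGroup.a (qM 0)) : G) := ⟨_, rfl⟩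
    obtain ⟨c2, h2⟩ : ∃ c, c = (eJ.symm (QuaternionGroup.xa 0) : G) := ⟨_, rfl⟩
    have h1Q : c1 ∈ QJ := h1 ▸ (eJ.symm _).2
    have h2Q : c2 ∈ QJ := h2 ▸ (eJ.symm _).2
    have h1s : c1 * c1 = a := h1 ▸ S.tJ.symm_qM_sq hQJ eJ
    have hxs : ∀ i, (eJ.symm (QuaternionGroup.xa i) : G) * (eJ.symm (QuaternionGroup.xa i) : G) = a := by
      intro i
      rw [← symm_mul, QuaternionGroup.xa_mul_xa, add_sub_cancel_right]
      exact S.tJ.symm_qN hQJ eJ
    have h3s : c1 * c2 * (c1 * c2) = a := by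
      rw [h1, h2, ← symm_mul, QuaternionGroup.a_mul_xa]; exact hxs _
    obtain ⟨f, hfQ, hff, hfid⟩ : ∃ f, f ∈ QJ ∧ f * f = a ∧ ∀ w, cact eK (D f) w = w := by
      rcases hcases h1Q h1s with e1 | e1
      · exact ⟨c1, h1Q, h1s, e1⟩
      rcases hcases h2Q (h2 ▸ hxs 0) with e2 | e2
      · exact ⟨c2, h2Q, h2 ▸ hxs 0, e2⟩
      refine ⟨c1 * c2, mul_mem h1Q h2Q, h3s, fun w => ?_⟩
      rw [hDmul h1Q h2Q, ← cact_comp (hQD h1Q) (hQD h2Q)]
      have h5 := e2.comp e1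
      rw [mul_one, mul_one, qN_add_qN] at h5
      exact Crd.ext h5 crd_id w
    have hw : eJ ⟨f, hfQ⟩ * eJ ⟨f, hfQ⟩ = QuaternionGroup.a (qN 0) := by
      refine symm_ext (e := eJ) ?_
      rw [symm_mul, eJ.symm_apply_apply, S.tJ.symm_qN hQJ eJ]
      exact hff
    obtain ⟨eJ', he⟩ := exists_relabel eJ hw (Or.inl rfl)
    refine S.no_central hKc hQJ hQK eJ' eK (f := f) (by rw [← he, eJ'.symm_apply_apply]) hhe hha
      (hcmJ hfQ hfQ) ?_
    rw [← hD]
    exact hspec (hQD hfQ) hfid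
  · -- larger order: the diagonal acts through an abelian group
    obtain ⟨y, hy⟩ : ∃ y, y = (eJ.symm (QuaternionGroup.a
        ((2 ^ m : ℕ) : ZMod (2 * 2 ^ (m + 1 + 1)))) : G) := ⟨_, rfl⟩
    obtain ⟨z, hz⟩ : ∃ z, z = (eJ.symm (QuaternionGroup.xa 0) : G) := ⟨_, rfl⟩
    have hyQ : y ∈ QJ := hy ▸ (eJ.symm _).2
    have hzQ : z ∈ QJ := hz ▸ (eJ.symm _).2
    have hyzy : y * z * y = z := by
      rw [hy, hz, ← symm_mul, ← symm_mul, QuaternionGroup.a_mul_xa, QuaternionGroup.xa_mul_a,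
        sub_add_cancel]
    have hD3 : D y * D z * D y = D z := by
      rw [← hDmul hyQ hzQ, ← hDmul (mul_mem hyQ hzQ) hyQ, hyzy]
    have hcomm : ∀ w ∈ QK, cb w (D z * D y) = cb w (D y * D z) := by
      intro w hw
      have h1 := centralizer_comm hσ hσinv (hφ hyQ) (hφ hzQ) (hφσ hyQ) (hφσ hzQ) (eK ⟨w, hw⟩)
      have h2 := congrArg (fun v => (eK.symm v : G)) h1
      simp only [cact_spec (hQD hyQ), cact_spec (hQD hzQ), MulEquiv.symm_apply_apply, cb_cb] at h2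
      exact h2
    refine S.no_central hKc hQJ hQK eJ eK (f := y * y) (h := h) ?_ hhe hha
      (hcmJ (mul_mem hyQ hyQ) (mul_mem hyQ hyQ)) ?_
    · rw [hy, ← symm_mul, QuaternionGroup.a_mul_a, half_qM]
    rw [← hD, hDmul hyQ hyQ]
    intro w hw
    have hw' : cb w (D z)⁻¹ ∈ QK :=
      hinvQ (inv_mem (hDP hzQ).1) (cs_inv_self (hDP hzQ).2) w hw
    calc cb w (D y * D y) = cb (cb w (D z)⁻¹) (D z * D y * D y) := by
          rw [cb_cb, mul_assoc (D z), inv_mul_cancel_left]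
      _ = cb (cb (cb w (D z)⁻¹) (D z * D y)) (D y) := (cb_cb _ _ _).symm
      _ = cb (cb (cb w (D z)⁻¹) (D y * D z)) (D y) := by rw [hcomm _ hw']
      _ = cb (cb w (D z)⁻¹) (D y * D z * D y) := cb_cb _ _ _
      _ = w := by rw [hD3, cb_cb, inv_mul_cancel, cb_one]

end Swp

end Cfsg.Agent.TwoPair
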