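import Cfsg.Agent.Lib.Fusion.TwoCompPair.PartOne

/-!
`a` normalizes `K` and `b` moves `J`: the diagonal of `J` and `J^b` fixes `K`.
-/

set_option autoImplicit false
set_option linter.style.haveILetI false

open Cfsg Cfsg.Agent Cfsg.Agent.Fusion
open scoped commutatorElement

namespace Cfsg.Agent.TwoPair

local instance : Fact (Nat.Prime 2) := ⟨Nat.prime_two⟩

variable {G : Type*} [Group G] [Finite G]

/-- `a` normalizes `K`, `b` moves `J`. -/
structure Swp (a b : G) (J K : Subgroup G) : Prop where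
  tJ : TC a J
  tK : TC b K
  ne : a ≠ b
  anorm : cs K a = K
  move : cs J b ≠ J
  cyc : Cyc b K

variable {a b : G} {J K : Subgroup G}

theorem eq_one_or_four {x : G} (h : TwoEl x) (h1 : x * x ≠ 1) : 4 ≤ orderOf x := by
  obtain ⟨j, hj⟩ := orderOf_twoEl h
  have h2 : ¬ 2 ^ j ∣ 2 := fun hd => h1 (by
    obtain ⟨c, hc⟩ := hd
    rw [← pow_two, hc, pow_mul, ← hj, pow_orderOf_eq_one, one_pow])
  rcases j with _ | _ | j
  · exact absurd (one_dvd 2) h2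
  · exact absurd dvd_rfl h2
  · rw [hj, pow_add, pow_add]
    have := Nat.two_pow_pos j
    omega

namespace Swp

theorem aCb (S : Swp a b J K) : a ∈ Cz b := by
  refine cb_eq_self.1 (S.tK.uniq _ ?_ ?_)
  · have h := cb_mem_cs (g := a) S.tK.mem
    rwa [S.anorm] at h
  · rw [show cb b a = MulAut.conj a⁻¹ b by simp, MulEquiv.orderOf_eq]; exact S.tK.ord

theorem bCa (S : Swp a b J K) : b ∈ Cz a := mem_Cz_comm S.aCb

theorem tJb (S : Swp a b J K) : TC a (cs J b) := S.tJ.conj_mem S.bCa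

theorem noFix (S : Swp a b J K) {y : G} (hy : y ∈ K) (h2 : TwoEl y) (hya : y ∈ Cz a) : y * y = 1 := by
  by_contra h1
  have h4 := eq_one_or_four h2 h1
  by_cases hJ : cs J y = J
  · obtain ⟨k, -, hb⟩ := exists_pow_eq S.tK hy h2 h4
    refine S.move (cs_eq_of_mem_normalizer ?_)
    rw [← hb]
    exact pow_mem (mem_normalizer_of_cs hJ) _
  · exact mov_false ⟨S.tJ, S.tK, S.ne, hy, h2, hya, h4, hJ⟩ S.cyc

theorem exists_inverted (S : Swp a b J K) {Q : Subgroup G} (hQ : SylIn 2 Q K)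
    (hinv : ∀ w ∈ Q, cb w a ∈ Q) : ∃ h ∈ Q, h * h = b ∧ cb h a = h * b := by
  have hne : ∀ x ∈ Q, x * x = b → cb x a ≠ x := fun x hx hxx e => S.tK.ne_one
    (hxx.symm.trans (S.noFix (hQ.le hx) (twoEl_of_mem hQ.isPGroup hx) (mem_Cz_comm (cb_eq_self.1 e))))
  obtain ⟨c, hc, hcc⟩ := S.tK.exists_order_four hQ
  obtain ⟨u, hu⟩ : ∃ u, u = c⁻¹ * cb c a := ⟨_, rfl⟩
  have huQ : u ∈ Q := hu ▸ mul_mem (inv_mem hc) (hinv c hc)
  have hua : cb u a = u⁻¹ := by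
    rw [hu, cb_mul, show cb c⁻¹ a = (cb c a)⁻¹ from cb_inv c a, cb_cb, S.tJ.sq, cb_one, mul_inv_rev c⁻¹, inv_inv]
  have hbi : b⁻¹ = b := inv_eq_of_mul_eq_one_right S.tK.sq
  by_cases h1 : u * u = 1
  · refine ⟨c, hc, hcc, ?_⟩
    rcases S.tK.eq_of_sq (hQ.le huQ) h1 with e | e
    · exact absurd (inv_mul_eq_one.1 (hu.symm.trans e)).symm (hne c hc hcc)
    · rw [← e, hu, mul_inv_cancel_left]
  · obtain ⟨k, hk, hkb⟩ := exists_pow_eq S.tK (hQ.le huQ) (twoEl_of_mem hQ.isPGroup huQ)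
      (eq_one_or_four (twoEl_of_mem hQ.isPGroup huQ) h1)
    obtain ⟨x, hx⟩ : ∃ x, x = u ^ 2 ^ k := ⟨_, rfl⟩
    have hxx : x * x = b := by rw [hx, ← pow_add, ← two_mul, ← pow_succ', hkb]
    refine ⟨x, hx ▸ pow_mem huQ _, hxx, ?_⟩
    rw [hx, cb_pow, hua, inv_pow, ← hx]
    refine inv_eq_of_mul_eq_one_right ?_
    rw [← mul_assoc, hxx, S.tK.sq]

theorem inverted_unique (S : Swp a b J K) {Q : Subgroup G} (hQ : SylIn 2 Q K) {h x : G} (hh : h ∈ Q)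
    (hha : cb h a = h * b) (hx : x ∈ Q) (hxa : cb x a = x * b) : x = h ∨ x = h * b := by
  have hbi : b⁻¹ = b := inv_eq_of_mul_eq_one_right S.tK.sq
  have hzK : x * h⁻¹ ∈ K := mul_mem (hQ.le hx) (inv_mem (hQ.le hh))
  have h1 : cb (x * h⁻¹) a = x * h⁻¹ := by
    rw [cb_mul, cb_inv, hha, hxa, mul_inv_rev, hbi, mul_assoc, ← mul_assoc b, S.tK.sq, one_mul]
  rcases S.tK.eq_of_sq hzK (S.noFix hzK (twoEl_of_mem hQ.isPGroup (mul_mem hx (inv_mem hh)))
      (mem_Cz_comm (cb_eq_self.1 h1))) with e | e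
  · exact Or.inl (mul_inv_eq_one.1 e)
  · refine Or.inr ?_
    rw [mul_inv_eq_iff_eq_mul] at e
    rw [e, mem_Cz.1 (S.tK.le (hQ.le hh))]

/-- The diagonal homomorphism. -/
theorem exists_diag (S : Swp a b J K) :
    ∃ δ : ↥J →* Qo a, (∀ j : J, δ j = pr a (j : G) * pr a (cb (j : G) b)) ∧
      ⁅δ.range, δ.range⁆ = δ.range ∧ δ.range ≤ prS a (Cz a ⊓ Cz b) := by
  have hJC : ∀ j : J, (j : G) ∈ Cz a := fun j => S.tJ.le j.2
  obtain ⟨δ, hδ⟩ : ∃ δ : ↥J →* Qo a, ∀ j : J, δ j = pr a (j : G) * pr a (cb (j : G) b) := by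
    refine ⟨MonoidHom.mk' (fun j : J => pr a (j : G) * pr a (cb (j : G) b)) fun i j => ?_, fun j => rfl⟩
    rw [Subgroup.coe_mul, pr_mul (hJC i) (hJC j), cb_mul, pr_mul (cb_mem_Cz (hJC i) S.bCa) (cb_mem_Cz (hJC j) S.bCa)]
    exact Commute.mul_mul_mul_comm
      (S.tJ.pr_commute S.tJb (Ne.symm S.move) j.2 (cb_mem_cs (g := b) i.2)) _ _
  refine ⟨δ, hδ, ?_, ?_⟩
  · haveI := S.tJ.isPerfect
    rw [MonoidHom.range_eq_map, ← Subgroup.map_commutator, ← commutator_def, Group.IsPerfect.commutator_eq_top]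
  rw [MonoidHom.range_eq_map, Subgroup.map_le_iff_le_comap]
  intro j _
  have hW := S.tJ.le_of_twoEl (W := ((prS a (Cz a ⊓ Cz b)).comap δ).map J.subtype) (fun i hi hi2 => ?_) j.2
  · obtain ⟨w, hw, hwe⟩ := hW
    rwa [show j = w from Subtype.ext hwe.symm]
  refine ⟨⟨i, hi⟩, Subgroup.mem_comap.2 ?_, rfl⟩
  obtain ⟨P, hP, hiP⟩ := exists_sylIn_ge (isPGroup_zpowers hi2) (Subgroup.zpowers_le.2 (S.tJ.le hi))
  have hiC := S.tJ.le hi
  have hiC' := cb_mem_Cz hiC S.bCa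
  have hcm := S.tJ.pr_commute S.tJb (Ne.symm S.move) hi (cb_mem_cs (g := b) hi)
  obtain ⟨i', hi'2, hi'C, hi'i, he⟩ := lift_commuting hi2 hiC (twoEl_cb b hi2) hiC' hcm
  have hprod : TwoEl (i * i') := by
    obtain ⟨k, hk⟩ := hi2
    obtain ⟨l, hl⟩ := hi'2
    refine ⟨k + l, ?_⟩
    rw [(show Commute i i' from mem_Cz.1 hi'i).mul_pow, pow_add, pow_mul i, hk, one_pow, one_mul,
      ← pow_add, add_comm k l, pow_add, pow_mul, hl, one_pow]
  have hxe : pr a (i * i') = pr a i * pr a (cb i b) := by rw [pr_mul hiC hi'C, he]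
  have hbp : pr a b * pr a b = 1 := by rw [← pr_mul S.bCa S.bCa, S.tK.sq, pr_one]
  have hbinv : (pr a b)⁻¹ = pr a b := inv_eq_of_mul_eq_one_right hbp
  obtain ⟨x', -, hx'a, hx'b, hx'e⟩ := lift_commuting S.tK.twoEl_self S.bCa hprod (mul_mem hiC hi'C) (by
    rw [hxe]
    have hci : pr a (cb i b) = pr a b * pr a i * pr a b := by rw [pr_cb hiC S.bCa, hbinv]
    conv_lhs => rw [hcm]
    rw [hci]
    simp only [mul_assoc, hbp, mul_one]
    rw [← mul_assoc (pr a b) (pr a b), hbp, one_mul])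
  rw [hδ, ← hxe, ← hx'e]
  exact pr_mem_prS inf_le_left ⟨hx'a, hx'b⟩

/-- A normal subgroup of the diagonal is everything or central. -/
theorem diag_normal (S : Swp a b J K) {δ : ↥J →* Qo a}
    (hδ : ∀ j : J, δ j = pr a (j : G) * pr a (cb (j : G) b)) {W : Subgroup (Qo a)}
    (hWn : δ.range ≤ Subgroup.normalizer (W : Set (Qo a))) :
    δ.range ≤ W ∨ ∀ w ∈ δ.range, w ∈ W → ∀ d ∈ δ.range, w * d = d * w := by
  have hJC : ∀ j : J, (j : G) ∈ Cz a := fun j => S.tJ.le j.2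
  have hdep : ∀ i j : J, pr a (i : G) = pr a (j : G) → δ i = δ j := fun i j e => by
    rw [hδ, hδ, pr_cb (hJC i) S.bCa, pr_cb (hJC j) S.bCa, e]
  obtain ⟨π', hπ'⟩ : ∃ π' : ↥J →* ↥(prS a J), ∀ j : J, (π' j : Qo a) = pr a (j : G) :=
    ⟨MonoidHom.mk' (fun j : J => (⟨pr a (j : G), pr_mem_prS S.tJ.le j.2⟩ : prS a J)) fun i j =>
      Subtype.ext (pr_mul (hJC i) (hJC j)), fun j => rfl⟩
  have hsurj : Function.Surjective π' := fun q => by
    obtain ⟨x, hx, he⟩ := (mem_prS S.tJ.le).1 q.2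
    exact ⟨⟨x, hx⟩, Subtype.ext ((hπ' _).trans he)⟩
  haveI hn : (W.comap δ).Normal := ⟨fun x hx g => Subgroup.mem_comap.2 (by
    rw [map_mul, map_mul, map_inv]
    exact (Subgroup.mem_normalizer_iff.1 (hWn ⟨g, rfl⟩) _).1 (Subgroup.mem_comap.1 hx))⟩
  haveI := hn.map π' hsurj
  rcases Solv.qs_normal_le_center_or_top S.tJ.prS_component.2 ((W.comap δ).map π') with h | h
  · first
      | exact Or.inl (by
          rintro _ ⟨j, rfl⟩
          obtain ⟨w, hw, he⟩ := (h.symm ▸ Subgroup.mem_top (π' j) : π' j ∈ (W.comap δ).map π')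
          rw [← hdep w j (by rw [← hπ', ← hπ', he])]
          exact hw)
      | exact Or.inr (by
          rintro _ ⟨i, rfl⟩ hi _ ⟨j, rfl⟩
          have h1 := Subgroup.mem_center_iff.1 (h ⟨i, hi, rfl⟩) (π' j)
          rw [← map_mul, ← map_mul] at h1
          rw [← map_mul, ← map_mul]
          exact (hdep _ _ (by rw [← hπ', ← hπ', h1])).symm)
  · first
      | exact Or.inl (by
          rintro _ ⟨j, rfl⟩
          obtain ⟨w, hw, he⟩ := (h.symm ▸ Subgroup.mem_top (π' j) : π' j ∈ (W.comap δ).map π')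
          rw [← hdep w j (by rw [← hπ', ← hπ', he])]
          exact hw)
      | exact Or.inr (by
          rintro _ ⟨i, rfl⟩ hi _ ⟨j, rfl⟩
          have h1 := Subgroup.mem_center_iff.1 (h ⟨i, hi, rfl⟩) (π' j)
          rw [← map_mul, ← map_mul] at h1
          rw [← map_mul, ← map_mul]
          exact (hdep _ _ (by rw [← hπ', ← hπ', h1])).symm)

/-- The 2-elements lifting the diagonal normalize `K`. -/
theorem fix_diag (S : Swp a b J K) {δ : ↥J →* Qo a}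
    (hδ : ∀ j : J, δ j = pr a (j : G) * pr a (cb (j : G) b)) (hperf : ⁅δ.range, δ.range⁆ = δ.range)
    (hsur : δ.range ≤ prS a (Cz a ⊓ Cz b)) {c : G} (hca : c ∈ Cz a) (hcb : c ∈ Cz b) (hc2 : TwoEl c)
    (hcD : pr a c ∈ δ.range) : cs K c = K := by
  obtain ⟨X, hX⟩ : ∃ X : Subgroup G, X = Cz a ⊓ Cz b := ⟨_, rfl⟩
  have hXa : X ≤ Cz a := hX ▸ inf_le_left
  have hXb : X ≤ Cz b := hX ▸ inf_le_right
  have hXmem : ∀ {x}, x ∈ Cz a → x ∈ Cz b → x ∈ X := fun h1 h2 => hX ▸ Subgroup.mem_inf.2 ⟨h1, h2⟩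
  have hJC : ∀ j : J, (j : G) ∈ Cz a := fun j => S.tJ.le j.2
  obtain ⟨D, hD⟩ : ∃ D, D = δ.range := ⟨_, rfl⟩
  rw [← hD] at hperf hsur hcD
  haveI hMn : (Cfsg.pLayer 2 ↥(Cz b)).Normal := pLayer_normal
  obtain ⟨Xm, hXm⟩ : ∃ Xm : Subgroup G, Xm = (Cfsg.pLayer 2 ↥(Cz b)).map (Cz b).subtype ⊓ X := ⟨_, rfl⟩
  have hXmX : Xm ≤ X := hXm ▸ inf_le_right
  have hXma : Xm ≤ Cz a := hXmX.trans hXa
  have hXmn : X ≤ Subgroup.normalizer (Xm : Set G) := by
    intro x hx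
    refine inv_inv x ▸ inv_mem (mem_normalizer_of_cj_le ?_)
    rintro _ ⟨w, hw, rfl⟩
    rw [hXm] at hw ⊢
    obtain ⟨⟨m, hm, rfl⟩, hwX⟩ := hw
    refine ⟨⟨(⟨x, hXb hx⟩ : Cz b)⁻¹ * m * ⟨x, hXb hx⟩, ?_, by simp⟩, ?_⟩
    · have := hMn.conj_mem m hm (⟨x, hXb hx⟩ : Cz b)⁻¹
      rwa [inv_inv] at this
    · show x⁻¹ * (m : G) * x⁻¹⁻¹ ∈ X
      rw [inv_inv]
      exact mul_mem (mul_mem (inv_mem hx) hwX) hx
  obtain ⟨N, hN⟩ : ∃ N, N = prS a Xm := ⟨_, rfl⟩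
  have hDN : D ≤ Subgroup.normalizer (N : Set (Qo a)) := by
    intro d hd
    obtain ⟨x, hx, rfl⟩ := (mem_prS (inf_le_left : Cz a ⊓ Cz b ≤ Cz a)).1 (hsur hd)
    have hxX : x ∈ X := hX ▸ hx
    refine mem_normalizer_of_cj_le ?_
    rintro _ ⟨q, hq, rfl⟩
    rw [hN] at hq ⊢
    obtain ⟨w, hw, rfl⟩ := (mem_prS hXma).1 hq
    refine (mem_prS hXma).2 ⟨x * w * x⁻¹, (Subgroup.mem_normalizer_iff.1 (hXmn hxX) w).1 hw, ?_⟩
    rw [pr_mul (mul_mem hx.1 (hXma hw)) (inv_mem hx.1), pr_mul hx.1 (hXma hw), pr_inv hx.1]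
    rfl
  -- commutators of the diagonal with `N` normalize the diagonal
  have hcomD : ⁅D, N⁆ ≤ Subgroup.normalizer (D : Set (Qo a)) := by
    rw [Subgroup.commutator_le]
    intro d hd q hq
    obtain ⟨j, rfl⟩ : ∃ j, δ j = d := by rw [hD] at hd; exact hd
    obtain ⟨e, he, hee⟩ := (mem_prS (inf_le_left : Cz a ⊓ Cz b ≤ Cz a)).1 (hsur hd)
    obtain ⟨m, hm, rfl⟩ := (mem_prS hXma).1 (hN ▸ hq)
    have heX : e ∈ X := hX ▸ he
    have heC := hXa heX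
    have hmC := hXma hm
    obtain ⟨z, hz⟩ : ∃ z, z = e * m * e⁻¹ * m⁻¹ := ⟨_, rfl⟩
    have hzX : z ∈ X := hz ▸ mul_mem (mul_mem (mul_mem heX (hXmX hm)) (inv_mem heX)) (inv_mem (hXmX hm))
    have hzC := hXa hzX
    have hze : ⁅δ j, pr a m⁆ = pr a z := by
      rw [commutatorElement_def, hz, pr_mul (mul_mem (mul_mem heC hmC) (inv_mem heC)) (inv_mem hmC),
        pr_mul (mul_mem heC hmC) (inv_mem heC), pr_mul heC hmC, pr_inv heC, pr_inv hmC, hee]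
    have hjC' := cb_mem_Cz (hJC j) S.bCa
    have hfixall : ∀ {L : Subgroup G}, TC a L → cs L e = L := by
      intro L hL
      rw [hL.cs_congr heC (mul_mem (hJC j) hjC') (by rw [hee, hδ, pr_mul (hJC j) hjC']), ← cs_cs,
        hL.normalizes S.tJ j.2, hL.normalizes S.tJb (cb_mem_cs j.2)]
    have hzJ : cs J z = J := by
      rw [hz, ← cs_cs, ← cs_cs, ← cs_cs, hfixall S.tJ,
        cs_inv_self (hfixall (S.tJ.conj_mem hmC)), cs_cs, mul_inv_cancel, cs_one]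
    rw [hze]
    refine inv_inv (pr a z) ▸ inv_mem (mem_normalizer_of_cj_le ?_)
    rintro _ ⟨q', hq', rfl⟩
    obtain ⟨i, rfl⟩ : ∃ i, δ i = q' := by rw [hD] at hq'; exact hq'
    have hiz : cb (i : G) z ∈ J := by have h := cb_mem_cs (g := z) i.2; rwa [hzJ] at h
    rw [hD]
    refine ⟨⟨cb (i : G) z, hiz⟩, ?_⟩
    have hzb : z * b = b * z := (mem_Cz.1 (hXb hzX)).symm
    show δ _ = (pr a z)⁻¹ * δ i * (pr a z)⁻¹⁻¹
    rw [inv_inv, hδ, hδ]
    show pr a (cb (i : G) z) * pr a (cb (cb (i : G) z) b) = _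
    rw [cb_cb (i : G) z b, hzb, ← cb_cb, pr_cb (hJC i) hzC, pr_cb (cb_mem_Cz (hJC i) S.bCa) hzC]
    group
  have hcomN : ⁅D, N⁆ ≤ N := by
    rw [Subgroup.commutator_le]
    intro d hd q hq
    rw [commutatorElement_def]
    exact mul_mem ((Subgroup.mem_normalizer_iff.1 (hDN hd) q).1 hq) (inv_mem hq)
  rcases S.diag_normal hδ (W := δ.range ⊓ N) (by
      intro d hd
      refine mem_normalizer_of_cj_le ?_
      rw [cj_inf]
      refine inf_le_inf (cj_eq_self_of_mem hd).le (cj_eq_self (hDN (hD ▸ hd))).le) with hle | hcen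
  · -- the diagonal lies in the layer
    have hcN : pr a c ∈ N := (hle (hD ▸ hcD)).2
    obtain ⟨m, hm, hme⟩ := (mem_prS hXma).1 (hN ▸ hcN)
    have hr : m⁻¹ * c ∈ OC a := (pr_eq (hXma hm) hca).1 hme
    have hrb : m⁻¹ * c ∈ Cz b := mul_mem (inv_mem (hXb (hXmX hm))) hcb
    rw [hXm] at hm
    obtain ⟨⟨m', hm', rfl⟩, -⟩ := hm
    refine cs_eq_of_mem_normalizer ?_
    have hq : QuotientGroup.mk' (Cfsg.pLayer 2 ↥(Cz b)) ⟨c, hcb⟩ = 1 := by
      have e1 : QuotientGroup.mk' (Cfsg.pLayer 2 ↥(Cz b)) ⟨c, hcb⟩ =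
          QuotientGroup.mk' (Cfsg.pLayer 2 ↥(Cz b)) ⟨_, hrb⟩ := by
        have : (⟨c, hcb⟩ : Cz b) = m' * ⟨_, hrb⟩ := Subtype.ext (by simp)
        conv_lhs => rw [this]
        rw [map_mul, QuotientGroup.mk'_apply _ m', (QuotientGroup.eq_one_iff m').2 hm', one_mul]
      obtain ⟨k, hk⟩ := hc2
      refine twoEl_mem_odd (H := ((OC a).subgroupOf (Cz b)).map (QuotientGroup.mk' _))
        ?_ ⟨k, by rw [← map_pow, show (⟨c, hcb⟩ : Cz b) ^ 2 ^ k = 1 from Subtype.ext hk, map_one]⟩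
        (e1 ▸ Subgroup.mem_map_of_mem _ hr)
      refine Nat.Coprime.coprime_dvd_left (Subgroup.card_map_dvd _ _) ?_
      rw [← Subgroup.card_map_of_injective (Cz b).subtype_injective, Subgroup.subgroupOf_map_subtype]
      exact (OC_coprime a).coprime_dvd_left (Subgroup.card_dvd_of_le inf_le_left)
    have h2 := pLayer_le_normalizer (p := 2) S.tK.comp.2 ((QuotientGroup.eq_one_iff _).1 hq)
    rw [← Subgroup.subgroupOf_normalizer_eq S.tK.le] at h2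
    exact h2
  -- the diagonal centralizes `N`
  have hA : ⁅D, ⁅D, N⁆⁆ ≤ D ⊓ N := by
    rw [Subgroup.commutator_le]
    intro d hd w hw
    refine Subgroup.mem_inf.2 ⟨?_, ?_⟩
    · rw [commutatorElement_def, mul_assoc, mul_assoc, ← mul_assoc w]
      exact mul_mem hd ((Subgroup.mem_normalizer_iff.1 (hcomD hw) _).1 (inv_mem hd))
    · rw [commutatorElement_def]
      exact mul_mem ((Subgroup.mem_normalizer_iff.1 (hDN hd) w).1 (hcomN hw)) (inv_mem (hcomN hw))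
  have hA2 : ⁅⁅D, ⁅D, N⁆⁆, D⁆ = ⊥ := by
    rw [eq_bot_iff, Subgroup.commutator_le]
    intro w hw d hd
    rw [Subgroup.mem_bot, commutatorElement_eq_one_iff_mul_comm]
    obtain ⟨hwD, hwN⟩ := hA hw
    exact hcen w (hD ▸ hwD) ⟨hD ▸ hwD, hwN⟩ d (hD ▸ hd)
  have hDA : ⁅D, ⁅D, N⁆⁆ = ⊥ := by
    have h1 := Subgroup.commutator_commutator_eq_bot_of_rotate (H₁ := D) (H₂ := D) (H₃ := ⁅D, N⁆)
      hA2 (by rw [Subgroup.commutator_comm ⁅D, N⁆ D]; exact hA2)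
    rwa [hperf] at h1
  have hDN0 : ⁅D, N⁆ = ⊥ := by
    have h2 : ⁅⁅D, N⁆, D⁆ = ⊥ := by rw [Subgroup.commutator_comm]; exact hDA
    have h1 := Subgroup.commutator_commutator_eq_bot_of_rotate (H₁ := D) (H₂ := D) (H₃ := N)
      h2 (by rw [Subgroup.commutator_comm N D]; exact h2)
    rwa [hperf] at h1
  have hDNc : ∀ d ∈ D, ∀ q ∈ N, q * d = d * q := fun d hd q hq => by
    have := Subgroup.commutator_mem_commutator hd hq
    rw [hDN0, Subgroup.mem_bot, commutatorElement_eq_one_iff_mul_comm] at this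
    exact this.symm
  -- an element of order four of `K` inverted by `a`
  obtain ⟨PK, hPK, haPK⟩ := exists_sylIn_ge (isPGroup_zpowers S.tJ.twoEl_self) (Subgroup.zpowers_le.2 S.aCb)
  obtain ⟨h, ⟨hhPK, hhK⟩, hhh, hha⟩ := S.exists_inverted (S.tK.sylIn_inf hPK) (fun w hw => by
    obtain ⟨hw1, hw2⟩ := Subgroup.mem_inf.1 hw
    refine Subgroup.mem_inf.2 ⟨mul_mem (mul_mem (inv_mem (haPK (Subgroup.mem_zpowers a))) hw1)
      (haPK (Subgroup.mem_zpowers a)), ?_⟩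
    have := cb_mem_cs (g := a) hw2
    rwa [S.anorm] at this)
  have hhb := S.tK.le hhK
  have hhK' : h ∈ K := hhK
  have hah : cb a h = a * b := by
    have e1 : h⁻¹ * a = a * (h * b)⁻¹ := by
      rw [← hha]; simp [cb, mul_assoc]
    calc cb a h = h⁻¹ * a * h := rfl
      _ = a * ((h * b)⁻¹ * h) := by rw [e1, mul_assoc]
      _ = a * b := by
        rw [mul_inv_rev, mul_assoc, inv_mul_cancel, mul_one, inv_eq_of_mul_eq_one_right S.tK.sq]
  have hconj : ∀ {x : G}, x ∈ X → cb x h ∈ X := by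
    intro x hx
    have h1 : cb x h ∈ Cz b := cb_mem_Cz (hXb hx) hhb
    refine hXmem (mem_Cz.2 ?_) h1
    have h2 : a * b * cb x h = cb x h * (a * b) := by
      rw [← hah, ← cb_mul, ← cb_mul, mem_Cz.1 (hXa hx)]
    have h3 : b * cb x h = cb x h * b := mem_Cz.1 h1
    calc a * cb x h = a * b * cb x h * b := by
          rw [mul_assoc (a * b), ← h3, mul_assoc a b, ← mul_assoc b b, S.tK.sq, one_mul]
      _ = cb x h * (a * b) * b := by rw [h2]
      _ = cb x h * a := by rw [mul_assoc, mul_assoc a b b, S.tK.sq, mul_one]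
  have hhh' : ∀ {x : G}, x ∈ Cz b → cb (cb x h) h = x := fun hx => by
    rw [cb_cb, hhh, cb_eq_self.2 (mem_Cz_comm hx)]
  obtain ⟨θ, hθ⟩ : ∃ θ : ↥X ≃* ↥X, ∀ x, (θ x : G) = cb (x : G) h :=
    ⟨{ toFun := fun x => ⟨cb (x : G) h, hconj x.2⟩
       invFun := fun x => ⟨cb (x : G) h, hconj x.2⟩
       left_inv := fun x => Subtype.ext (hhh' (hXb x.2))
       right_inv := fun x => Subtype.ext (hhh' (hXb x.2))
       map_mul' := fun x z => Subtype.ext (cb_mul _ _ _) }, fun _ => rfl⟩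
  obtain ⟨R1, hR1⟩ : ∃ R1 : Subgroup ↥X, R1 = (OC a).subgroupOf X := ⟨_, rfl⟩
  haveI hR1n : R1.Normal := hR1 ▸ Subgroup.normal_subgroupOf_of_le_normalizer (hXa.trans (OC_normalizer a))
  haveI hR2n : (R1.map θ.toMonoidHom).Normal := hR1n.map _ θ.surjective
  have hR1c : (Nat.card R1).Coprime 2 := by
    rw [hR1, ← Subgroup.card_map_of_injective X.subtype_injective, Subgroup.subgroupOf_map_subtype]
    exact (OC_coprime a).coprime_dvd_left (Subgroup.card_dvd_of_le inf_le_left)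
  obtain ⟨RX, hRX⟩ : ∃ RX : Subgroup ↥X, RX = R1 ⊔ R1.map θ.toMonoidHom := ⟨_, rfl⟩
  haveI hRXn : RX.Normal := hRX ▸ inferInstance
  have hRXc : (Nat.card RX).Coprime 2 := by
    refine Nat.Coprime.coprime_dvd_left (hRX ▸ Solv.card_sup_dvd R1 (R1.map θ.toMonoidHom)) ?_
    rw [Subgroup.card_map_of_injective θ.injective]
    exact hR1c.mul_left hR1c
  have hθθ : ∀ x, θ (θ x) = x := fun x => Subtype.ext (by rw [hθ, hθ]; exact hhh' (hXb x.2))
  have hθRX : ∀ x ∈ RX, θ x ∈ RX := by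
    have h1 : RX.map θ.toMonoidHom = RX := by
      have h2 : θ.toMonoidHom.comp θ.toMonoidHom = MonoidHom.id _ := MonoidHom.ext hθθ
      rw [hRX, Subgroup.map_sup, Subgroup.map_map, h2, Subgroup.map_id, sup_comm]
    intro x hx
    rw [← h1]
    exact ⟨x, hx, rfl⟩
  obtain ⟨θb, hθb⟩ : ∃ θb : ↥X ⧸ RX →* ↥X ⧸ RX, ∀ x, θb (QuotientGroup.mk' RX x) = QuotientGroup.mk' RX (θ x) :=
    ⟨QuotientGroup.map RX RX θ.toMonoidHom (fun x hx => Subgroup.mem_comap.2 (hθRX x hx)), fun x => rfl⟩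
  obtain ⟨D0, hD0⟩ : ∃ D0 : Subgroup ↥X,
      D0 = ((D.comap (QuotientGroup.mk' _)).map (Cz a).subtype).subgroupOf X := ⟨_, rfl⟩
  have hmem : ∀ x : ↥X, x ∈ D0 ↔ pr a (x : G) ∈ D := by
    intro x
    rw [hD0, Subgroup.mem_subgroupOf]
    constructor
    · rintro ⟨x', hx', e⟩
      rw [← e, Subgroup.subtype_apply, ← pr_mk]; exact hx'
    · intro hp
      exact ⟨⟨x, hXa x.2⟩, Subgroup.mem_comap.2 (by rw [pr_mk]; exact hp), rfl⟩
  obtain ⟨u, hu⟩ : ∃ u : ↥X → ↥X, ∀ x, u x = x⁻¹ * θ x := ⟨_, fun _ => rfl⟩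
  have hhM : (⟨h, hhb⟩ : Cz b) ∈ Cfsg.pLayer 2 ↥(Cz b) :=
    (le_sSup S.tK.comp.2 : K.subgroupOf (Cz b) ≤ Cfsg.pLayer 2 ↥(Cz b)) hhK'
  have huN : ∀ x, pr a (u x : G) ∈ N := by
    intro x
    refine hN ▸ pr_mem_prS hXma ?_
    rw [hXm]
    refine ⟨⟨(⟨x, hXb x.2⟩ : Cz b)⁻¹ * ((⟨h, hhb⟩ : Cz b)⁻¹ * ⟨x, hXb x.2⟩ * ⟨h, hhb⟩), ?_, ?_⟩, (u x).2⟩
    · have h1 := hMn.conj_mem _ (inv_mem hhM) (⟨x, hXb x.2⟩ : Cz b)⁻¹
      rw [inv_inv] at h1
      have h2 := mul_mem h1 hhM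
      simpa [mul_assoc] using h2
    · show (x : G)⁻¹ * (h⁻¹ * x * h) = (u x : G)
      rw [hu]; simp only [Subgroup.coe_mul, Subgroup.coe_inv, hθ]
  have key : ∀ x ∈ D0, ∀ e ∈ D0,
      QuotientGroup.mk' RX (u (x * e)) = QuotientGroup.mk' RX (u x) * QuotientGroup.mk' RX (u e) := by
    intro x _ e he
    have hr : (u x)⁻¹ * (e⁻¹ * u x * e) ∈ RX := by
      refine hRX ▸ Subgroup.mem_sup_left ?_
      rw [hR1, Subgroup.mem_subgroupOf]
      have hux := hXa (u x).2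
      have hec := hXa e.2
      refine (pr_eq hux (mul_mem (mul_mem (inv_mem hec) hux) hec)).1 ?_
      rw [pr_mul (mul_mem (inv_mem hec) hux) hec, pr_mul (inv_mem hec) hux, pr_inv hec, mul_assoc,
        hDNc _ ((hmem e).1 he) _ (huN x), inv_mul_cancel_left]
    have e1 : QuotientGroup.mk' RX (e⁻¹ * u x * e) = QuotientGroup.mk' RX (u x) :=
      (QuotientGroup.eq.2 hr).symm
    rw [← e1, ← map_mul]
    congr 1
    rw [hu, hu, hu, map_mul, mul_inv_rev]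
    group
  have hinv : ∀ x, θb (QuotientGroup.mk' RX (u x)) = (QuotientGroup.mk' RX (u x))⁻¹ := by
    intro x
    rw [hθb, ← map_inv, hu, map_mul, map_inv, hθθ, mul_inv_rev, inv_inv]
  obtain ⟨f, hf⟩ : ∃ f : ↥D0 →* ↥X ⧸ RX, ∀ x : D0, f x = QuotientGroup.mk' RX (u x) :=
    ⟨MonoidHom.mk' (fun x : D0 => QuotientGroup.mk' RX (u x)) fun x e => key x x.2 e e.2, fun _ => rfl⟩
  have hfc : ∀ x e : D0, Commute (f x) (f e) := by
    intro x e
    have h1 := hinv ((x : ↥X) * e)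
    rw [key x x.2 e e.2, map_mul, hinv, hinv, mul_inv_rev, ← hf, ← hf] at h1
    have h2 := congrArg (fun q => q⁻¹) h1
    simp only [mul_inv_rev, inv_inv] at h2
    exact h2.symm
  have hker : ⁅D0, D0⁆.subgroupOf D0 ≤ f.ker := by
    have h1 : ⁅(⊤ : Subgroup D0), (⊤ : Subgroup D0)⁆ ≤ f.ker := by
      rw [Subgroup.commutator_le]
      intro x _ e _
      rw [MonoidHom.mem_ker, map_commutatorElement, commutatorElement_eq_one_iff_mul_comm]
      exact (hfc x e).eq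
    intro x hx
    have h2 : (⁅(⊤ : Subgroup D0), (⊤ : Subgroup D0)⁆).map D0.subtype = ⁅D0, D0⁆ := by
      rw [Subgroup.map_commutator, ← MonoidHom.range_eq_map, Subgroup.range_subtype]
    have h3 : (x : ↥X) ∈ ⁅D0, D0⁆ := hx
    rw [← h2] at h3
    obtain ⟨w, hw, hwe⟩ := h3
    rw [show x = w from Subtype.ext hwe.symm]
    exact h1 hw
  -- every element of `D0` is congruent to its conjugate by `h`
  have hall : ∀ x ∈ D0, u x ∈ RX := by
    obtain ⟨π, hπ⟩ : ∃ π : ↥X →* Qo a, ∀ x, π x = pr a (x : G) :=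
      ⟨MonoidHom.mk' (fun x : ↥X => pr a (x : G)) fun x e => pr_mul (hXa x.2) (hXa e.2), fun _ => rfl⟩
    have himg : D0.map π = D := by
      refine le_antisymm ?_ fun q hq => ?_
      · rintro _ ⟨x, hx, rfl⟩
        rw [hπ]; exact (hmem x).1 hx
      · obtain ⟨x, hx, rfl⟩ := (mem_prS (inf_le_left : Cz a ⊓ Cz b ≤ Cz a)).1 (hsur hq)
        exact ⟨⟨x, hX ▸ hx⟩, (hmem _).2 hq, hπ _⟩
    intro x hx
    obtain ⟨z, hz, hze⟩ : π x ∈ ⁅D0, D0⁆.map π := by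
      rw [Subgroup.map_commutator, himg, hperf, hπ]; exact (hmem x).1 hx
    have hzD : z ∈ D0 := Subgroup.commutator_le_self D0 hz
    obtain ⟨r, hr⟩ : ∃ r, r = z⁻¹ * x := ⟨_, rfl⟩
    have hrD : r ∈ D0 := hr ▸ mul_mem (inv_mem hzD) hx
    have hrR : r ∈ R1 := by
      rw [hR1, Subgroup.mem_subgroupOf, hr]
      refine (pr_eq (hXa z.2) (hXa x.2)).1 ?_
      rw [← hπ, ← hπ, hze]
    have h4 : QuotientGroup.mk' RX (u z) = 1 := by
      have := hker (show (⟨z, hzD⟩ : D0) ∈ ⁅D0, D0⁆.subgroupOf D0 from hz)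
      rw [MonoidHom.mem_ker, hf] at this
      exact this
    have h5 : QuotientGroup.mk' RX (u r) = 1 := by
      rw [QuotientGroup.mk'_apply, QuotientGroup.eq_one_iff, hu, hRX]
      exact mul_mem (Subgroup.mem_sup_left (inv_mem hrR))
        (Subgroup.mem_sup_right (Subgroup.mem_map_of_mem θ.toMonoidHom hrR))
    have h6 : QuotientGroup.mk' RX (u x) = 1 := by
      rw [show x = z * r by rw [hr, mul_inv_cancel_left], key z hzD r hrD, h4, h5, one_mul]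
    rwa [QuotientGroup.mk'_apply, QuotientGroup.eq_one_iff] at h6
  by_contra hK
  have hcX : c ∈ X := hXmem hca hcb
  have huc := hall ⟨c, hcX⟩ ((hmem _).2 hcD)
  have hue : (u ⟨c, hcX⟩ : G) = (cb h c)⁻¹ * h := by
    rw [hu]; simp only [Subgroup.coe_mul, Subgroup.coe_inv, hθ]; simp [cb, mul_assoc]
  have tK'' : TC b (cs K c) := S.tK.conj_mem hcb
  have hh''b := tK''.le (cb_mem_cs (g := c) hhK')
  have hcm : Commute (pr b (cb h c)) (pr b h) :=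
    tK''.pr_commute S.tK hK (cb_mem_cs hhK') hhK'
  have hsq : pr b ((cb h c)⁻¹ * h) * pr b ((cb h c)⁻¹ * h) = 1 := by
    rw [pr_mul (inv_mem hh''b) hhb, pr_inv hh''b, ← hcm.inv_left.mul_mul_mul_comm, ← mul_inv_rev,
      ← pr_mul hh''b hh''b, ← pr_mul hhb hhb, ← cb_mul, hhh, cb_eq_self.2 hcb, inv_mul_cancel]
  have hodd : pr b ((cb h c)⁻¹ * h) = 1 := by
    obtain ⟨π, hπ⟩ : ∃ π : ↥X →* Qo b, ∀ x, π x = pr b (x : G) :=
      ⟨MonoidHom.mk' (fun x : ↥X => pr b (x : G)) fun x e => pr_mul (hXb x.2) (hXb e.2), fun _ => rfl⟩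
    refine twoEl_mem_odd (H := RX.map π) (hRXc.coprime_dvd_left (Subgroup.card_map_dvd _ _))
      ⟨1, by rw [pow_one, pow_two]; exact hsq⟩ ⟨_, huc, by rw [hπ, hue]⟩
  rw [pr_mul (inv_mem hh''b) hhb, pr_inv hh''b, inv_mul_eq_one] at hodd
  refine S.tK.not_cent hhK' ⟨2, by rw [show (2 : ℕ) ^ 2 = 2 + 2 by norm_num, pow_add, pow_two, hhh, S.tK.sq]⟩
    (by rw [hhh]; exact S.tK.ne_one) fun j hj => ?_
  rw [← hodd]
  exact (S.tK.pr_commute tK'' (Ne.symm hK) hj (cb_mem_cs hhK')).symm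

end Swp

end Cfsg.Agent.TwoPair
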