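import Cfsg.Agent.Lib.Fusion.TwoCompPair.PartTwo
import Cfsg.Agent.Lib.Char.DoubleCoverInvol
import Cfsg.Prelude.Def_CaseTheorems

/-!
The cyclic property in `SL(2, F)` and in the double cover of the alternating group of degree seven,
and its transfer to a 2-component.
-/

set_option autoImplicit false
set_option linter.style.haveILetI false

open Cfsg Cfsg.Agent Cfsg.Agent.Fusion

namespace Cfsg.Agent.TwoPair

local instance : Fact (Nat.Prime 2) := ⟨Nat.prime_two⟩

/-- An element whose square is `z` lies in a quaternion group with a cycle on its axes. -/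
def QCyc (Q : Type*) [Group Q] (z : Q) : Prop :=
  ∀ x : Q, x * x = z → ∃ t : Q, cb (cb x t) x = cb x t * z ∧
    (cb (cb x t) t = x * cb x t ∨ cb (cb x t) t = x * cb x t * z)

theorem QCyc.congr {Q Q' : Type*} [Group Q] [Group Q'] (e : Q ≃* Q') {z : Q} (h : QCyc Q' (e z)) :
    QCyc Q z := by
  intro x hx
  have hcb : ∀ u v : Q, e (cb u v) = cb (e u) (e v) := fun u v => by simp [cb]
  obtain ⟨t', h1, h2⟩ := h (e x) (by rw [← map_mul, hx])
  obtain ⟨t, rfl⟩ := e.surjective t'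
  refine ⟨t, e.injective ?_, h2.imp (fun h => e.injective ?_) fun h => e.injective ?_⟩
  · rw [hcb, hcb, map_mul, hcb]; exact h1
  · rw [hcb, hcb, map_mul, hcb]; exact h
  · rw [hcb, hcb, map_mul, map_mul, hcb]; exact h

section SL
variable {F : Type*} [Field F] [Fintype F]

local notation "M2" => Matrix (Fin 2) (Fin 2) F

theorem two_ne_of_odd (hF : Odd (Fintype.card F)) : (2 : F) ≠ 0 := by
  refine Ring.two_ne_zero ?_
  intro h
  rw [FiniteField.even_card_iff_char_two] at h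
  obtain ⟨k, hk⟩ := hF
  omega

theorem tr_zero {M : M2} (hd : M.det = 1) (h : M * M = -1) : M 1 1 = -M 0 0 := by
  rw [Matrix.det_fin_two] at hd
  have h00 := congrFun (congrFun h 0) 0
  have h11 := congrFun (congrFun h 1) 1
  simp [Matrix.mul_apply, Fin.sum_univ_two] at h00 h11
  have h0 : (M 0 0 + M 1 1) * (M 0 0 + M 1 1) = 0 := by linear_combination h00 + h11 + 2 * hd
  linear_combination (mul_self_eq_zero.1 h0)

theorem exists_anti (hF : Odd (Fintype.card F)) {X : M2} (hd : X.det = 1) (h : X * X = -1) :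
    ∃ K : M2, K.det = 1 ∧ K * K = -1 ∧ K * X = -(X * K) := by
  have h2 := two_ne_of_odd hF
  have ht := tr_zero hd h
  rw [Matrix.det_fin_two, ht] at hd
  suffices ∃ u v w : F, 2 * X 0 0 * u + X 0 1 * w + X 1 0 * v = 0 ∧ u * u + v * w = -1 by
    obtain ⟨u, v, w, e1, e2⟩ := this
    refine ⟨!![u, v; w, -u], ?_, ?_, ?_⟩
    · rw [Matrix.det_fin_two_of]; linear_combination -e2
    · ext i j
      fin_cases i <;> fin_cases j <;> simp [Matrix.mul_apply, Fin.sum_univ_two]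
      · linear_combination e2
      · ring
      · ring
      · linear_combination e2
    · ext i j
      fin_cases i <;> fin_cases j <;> simp [Matrix.mul_apply, Fin.sum_univ_two, ht]
      · linear_combination e1
      · ring
      · ring
      · linear_combination e1
  by_cases hr : X 1 0 = 0
  · have hp : X 0 0 ≠ 0 := fun h0 => by rw [hr, h0] at hd; simp at hd
    refine ⟨-X 0 1 / (2 * X 0 0), -1 - (-X 0 1 / (2 * X 0 0)) * (-X 0 1 / (2 * X 0 0)), 1, ?_, by ring⟩
    rw [hr]; field_simp; ring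
  · obtain ⟨α, β, hab⟩ : ∃ α β : F, α * α + β * β = -1 := by
      obtain ⟨α, β, hab⟩ := FiniteField.exists_root_sum_quadratic
        (f := (Polynomial.X : Polynomial F) ^ 2) (g := Polynomial.X ^ 2 + Polynomial.C 1)
        (Polynomial.degree_X_pow 2) (Polynomial.degree_X_pow_add_C (by norm_num) _)
        (Nat.odd_iff.1 hF)
      simp at hab
      exact ⟨α, β, by linear_combination hab⟩
    refine ⟨α + X 0 0 * β, -(2 * X 0 0 * (α + X 0 0 * β) + X 0 1 * (X 1 0 * β)) / X 1 0,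
      X 1 0 * β, ?_, ?_⟩
    · field_simp; ring
    · field_simp
      linear_combination hab + β ^ 2 * hd

theorem qcyc_sl (hF : Odd (Fintype.card F)) : QCyc (Matrix.SpecialLinearGroup (Fin 2) F) (-1) := by
  intro x hx
  have h2 := two_ne_of_odd hF
  obtain ⟨X, hX⟩ : ∃ X : M2, X = x.1 := ⟨_, rfl⟩
  have hXd : X.det = 1 := hX ▸ x.2
  have hXX : X * X = -1 := by
    rw [hX]
    exact (congrArg Subtype.val hx).trans (by simp)
  obtain ⟨K, hKd, hKK, hKX⟩ := exists_anti hF hXd hXX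
  have hXK2 : X * K * (X * K) = -1 := by
    calc X * K * (X * K) = X * (K * X) * K := by simp [mul_assoc]
      _ = -(X * X * (K * K)) := by rw [hKX]; simp [mul_assoc]
      _ = _ := by rw [hXX, hKK]; simp
  obtain ⟨N, hN⟩ : ∃ N : M2, N = X + K + X * K := ⟨_, rfl⟩
  have hN11 : N 1 1 = -N 0 0 := by
    have t1 := tr_zero hXd hXX
    have t2 := tr_zero hKd hKK
    have t3 := tr_zero (M := X * K) (by rw [Matrix.det_mul, hXd, hKd, mul_one]) hXK2
    rw [hN, Matrix.add_apply, Matrix.add_apply, Matrix.add_apply, Matrix.add_apply, t1, t2, t3]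
    ring
  have hKXK : K * (X * K) = X := by
    rw [← mul_assoc, hKX, neg_mul, mul_assoc, hKK, mul_neg, mul_one, neg_neg]
  have hXXK : X * (X * K) = -K := by rw [← mul_assoc, hXX, neg_mul, one_mul]
  have hXKX : X * K * X = K := by
    rw [mul_assoc, hKX, mul_neg, hXXK, neg_neg]
  have hXKK : X * K * K = -X := by rw [mul_assoc, hKK, mul_neg, mul_one]
  have hNN : N * N = -1 + -1 + -1 := by
    rw [hN]
    simp only [mul_add, add_mul, hXX, hKK, hXK2, hKX, hKXK, hXXK, hXKX, hXKK]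
    abel
  obtain ⟨T, hT⟩ : ∃ T : M2, T = (2 : F)⁻¹ • (1 - N) := ⟨_, rfl⟩
  have hTd : T.det = 1 := by
    rw [hT, Matrix.det_smul, Fintype.card_fin, Matrix.det_fin_two]
    have h00 := congrFun (congrFun hNN 0) 0
    simp [Matrix.mul_apply, Fin.sum_univ_two] at h00
    simp [hN11]
    field_simp
    linear_combination -h00
  have e1 : X * T = T * K := by
    rw [hT, hN, mul_smul_comm, smul_mul_assoc]
    congr 1
    simp only [mul_sub, sub_mul, mul_add, add_mul, mul_one, one_mul, hXX, hKK, hKX, hKXK, hXXK, hXKX,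
      hXKK]
    abel
  have e2 : K * T = T * (X * K) := by
    rw [hT, hN, mul_smul_comm, smul_mul_assoc]
    congr 1
    simp only [mul_sub, sub_mul, mul_add, add_mul, mul_one, one_mul, hXX, hKK, hKX, hKXK, hXXK, hXKX,
      hXKK, hXK2]
    abel
  obtain ⟨t, ht⟩ : ∃ t : Matrix.SpecialLinearGroup (Fin 2) F, t.1 = T := ⟨⟨T, hTd⟩, rfl⟩
  obtain ⟨k, hk⟩ : ∃ k : Matrix.SpecialLinearGroup (Fin 2) F, k.1 = K := ⟨⟨K, hKd⟩, rfl⟩
  have hxt : cb x t = k := by
    rw [cb, mul_assoc, inv_mul_eq_iff_eq_mul]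
    refine Subtype.ext ?_
    rw [Matrix.SpecialLinearGroup.coe_mul, Matrix.SpecialLinearGroup.coe_mul, ht, hk, ← hX, e1]
  refine ⟨t, ?_, Or.inl ?_⟩ <;> rw [hxt, cb, mul_assoc, inv_mul_eq_iff_eq_mul] <;> refine Subtype.ext ?_
  · simp only [Matrix.SpecialLinearGroup.coe_mul, Matrix.SpecialLinearGroup.coe_neg,
      Matrix.SpecialLinearGroup.coe_one, hk, ← hX]
    rw [hKX]; simp
  · simp only [Matrix.SpecialLinearGroup.coe_mul, ht, hk, ← hX]
    exact e2

theorem sl_sq_one (hF : Odd (Fintype.card F)) {A : Matrix.SpecialLinearGroup (Fin 2) F} (h : A * A = 1) :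
    A = 1 ∨ A = -1 := by
  have h2 := two_ne_of_odd hF
  have hd := A.2
  rw [Matrix.det_fin_two] at hd
  have hM := congrArg Subtype.val h
  have e00 := congrFun (congrFun hM 0) 0
  have e01 := congrFun (congrFun hM 0) 1
  have e10 := congrFun (congrFun hM 1) 0
  have e11 := congrFun (congrFun hM 1) 1
  simp [Matrix.mul_apply, Fin.sum_univ_two] at e00 e01 e10 e11
  obtain ⟨p, hp⟩ : ∃ p, p = A.1 0 0 := ⟨_, rfl⟩
  obtain ⟨s, hs⟩ : ∃ s, s = A.1 1 1 := ⟨_, rfl⟩
  rw [← hp] at hd e00 e01 e10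
  rw [← hs] at hd e01 e10 e11
  have hps : (p - s) * (p + s) = 0 := by linear_combination e00 - e11
  have hne : p + s ≠ 0 := fun h0 => h2 (by linear_combination -e00 - hd + p * h0)
  have hq : A.1 0 1 = 0 := (mul_eq_zero.1 (show (p + s) * A.1 0 1 = 0 by linear_combination e01)).resolve_left hne
  have hr : A.1 1 0 = 0 := (mul_eq_zero.1 (show (p + s) * A.1 1 0 = 0 by linear_combination e10)).resolve_left hne
  have hpse : s = p := (sub_eq_zero.1 ((mul_eq_zero.1 hps).resolve_right hne)).symm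
  rw [hq, hr, hpse] at hd
  have hp2 : (p - 1) * (p + 1) = 0 := by linear_combination hd
  rcases mul_eq_zero.1 hp2 with e | e
  · left
    ext i j
    fin_cases i <;> fin_cases j <;> simp [hq, hr, ← hp, ← hs, hpse, sub_eq_zero.1 e]
  · right
    ext i j
    fin_cases i <;> fin_cases j <;> simp [hq, hr, ← hp, ← hs, hpse, eq_neg_of_add_eq_zero_left e]

end SL

open Equiv in
theorem alt7_cycle (s : alternatingGroup (Fin 7)) (hs : s * s = 1) (h1 : s ≠ 1) :
    ∃ t : alternatingGroup (Fin 7), cb s t ≠ s ∧ cb (cb s t) s = cb s t ∧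
      cb (cb s t) t = s * cb s t := by
  obtain ⟨s0, hs0⟩ : ∃ s0 : Perm (Fin 7), s0 = swap 0 1 * swap 2 3 := ⟨_, rfl⟩
  obtain ⟨t0, ht0⟩ : ∃ t0 : Perm (Fin 7), t0 = swap 1 2 * swap 2 3 := ⟨_, rfl⟩
  have e0 : s0 * s0 = 1 ∧ s0 ≠ 1 := by rw [hs0]; decide
  have f0 : Perm.sign t0 = 1 ∧ cb s0 t0 ≠ s0 ∧ cb (cb s0 t0) s0 = cb s0 t0 ∧
      (cb (cb s0 t0) t0 = s0 * cb s0 t0) := by rw [hs0, ht0]; decide
  have e : (s : Perm (Fin 7)) * s = 1 ∧ (s : Perm (Fin 7)) ≠ 1 :=
    ⟨congrArg Subtype.val hs, fun h => h1 (Subtype.ext h)⟩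
  have hct : s0.cycleType = (s : Perm (Fin 7)).cycleType := by
    rw [Char.cycleType_of_even_involution le_rfl (Char.orderOf_perm_two e0) (by rw [hs0]; decide),
      Char.cycleType_of_even_involution le_rfl (Char.orderOf_perm_two e)
        (Perm.mem_alternatingGroup.1 s.2)]
  obtain ⟨g, hg⟩ := isConj_iff.1 (Perm.isConj_iff_cycleType_eq.2 hct)
  obtain ⟨g', hg', hgs⟩ : ∃ g', g' * s0 * g'⁻¹ = (s : Perm (Fin 7)) ∧ Perm.sign g' = 1 := by
    rcases Int.units_eq_one_or (Perm.sign g) with h | h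
    · exact ⟨g, hg, h⟩
    · refine ⟨g * swap 5 6, ?_, by simp [h]⟩
      rw [← hg]
      have hcm : swap 5 6 * s0 = s0 * swap 5 6 := by rw [hs0]; decide
      rw [mul_inv_rev]
      calc g * swap 5 6 * s0 * ((swap 5 6)⁻¹ * g⁻¹) = g * (swap 5 6 * s0) * ((swap 5 6)⁻¹ * g⁻¹) := by
            simp [mul_assoc]
        _ = _ := by rw [hcm]; simp [mul_assoc]
  refine ⟨⟨g' * t0 * g'⁻¹, by simp [Perm.mem_alternatingGroup, hgs, f0.1]⟩, fun h => f0.2.1 ?_,
    Subtype.ext ?_, Subtype.ext ?_⟩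
  · have h' := congrArg Subtype.val h
    simp only [cb, Subgroup.coe_mul, Subgroup.coe_inv, ← hg'] at h'
    refine (MulAut.conj g').injective ?_
    simpa [cb, mul_assoc] using h'
  · simp only [cb, Subgroup.coe_mul, Subgroup.coe_inv, ← hg']
    have := congrArg (MulAut.conj g') f0.2.2.1
    simpa [cb, mul_assoc] using this
  · simp only [cb, Subgroup.coe_mul, Subgroup.coe_inv, ← hg']
    have := congrArg (MulAut.conj g') f0.2.2.2
    simpa [cb, mul_assoc] using this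

theorem qcyc_cover {H : Type*} [Group H] [Finite H]
    (hH : Cfsg.IsNonsplitDoubleCover H ↥(alternatingGroup (Fin 7))) {z : H} (hz : z * z = 1) (hz1 : z ≠ 1)
    (huniq : ∀ w : H, w * w = 1 → w = 1 ∨ w = z) : QCyc H z := by
  obtain ⟨hc, ⟨e⟩, -⟩ := hH
  obtain ⟨π, hπ⟩ : ∃ π : H →* ↥(alternatingGroup (Fin 7)),
      π = e.toMonoidHom.comp (QuotientGroup.mk' (Subgroup.center H)) := ⟨_, rfl⟩
  have hπs : Function.Surjective π := hπ ▸ e.surjective.comp (QuotientGroup.mk'_surjective _)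
  have hker : ∀ g, π g = 1 → g = 1 ∨ g = z := by
    intro g hg
    rw [hπ] at hg
    have hgc : g ∈ Subgroup.center H := by
      rw [← QuotientGroup.ker_mk' (Subgroup.center H), MonoidHom.mem_ker]
      exact e.injective (hg.trans (map_one e).symm)
    refine huniq g ?_
    have := congrArg Subtype.val (pow_card_eq_one' (x := (⟨g, hgc⟩ : Subgroup.center H)))
    rw [hc] at this
    simpa [pow_two] using this
  have hπz : π z = 1 := by
    obtain ⟨c, hc1⟩ : ∃ c : Subgroup.center H, c ≠ 1 := by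
      haveI : Nontrivial (Subgroup.center H) := Finite.one_lt_card_iff_nontrivial.1 (by omega)
      exact exists_ne 1
    have hcc : (c : H) * c = 1 := by
      have := congrArg Subtype.val (pow_card_eq_one' (x := c))
      rw [hc] at this
      simpa [pow_two] using this
    rcases huniq c hcc with h | h
    · exact absurd (Subtype.ext h) hc1
    · rw [← h, hπ, MonoidHom.comp_apply, QuotientGroup.mk'_apply, (QuotientGroup.eq_one_iff (c : H)).2 c.2,
        map_one]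
  have hcong : ∀ u v, π u = π v → u = v ∨ u = v * z := fun u v h =>
    (hker (v⁻¹ * u) (by rw [map_mul, map_inv, h, inv_mul_cancel])).imp
      (fun h => (inv_mul_eq_one.1 h).symm) (fun h => by rw [← h, mul_inv_cancel_left])
  intro x hx
  obtain ⟨t', h1, h2, h3⟩ := alt7_cycle (π x) (by rw [← map_mul, hx, hπz]) (fun h => by
    rcases hker x h with e | e <;> rw [e] at hx
    · exact hz1 ((one_mul _).symm.trans hx).symm
    · exact hz1 (hx.symm.trans hz))
  obtain ⟨t, rfl⟩ := hπs t'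
  have hcb : ∀ u v, π (cb u v) = cb (π u) (π v) := fun u v => by simp [cb]
  refine ⟨t, (hcong _ _ (by rw [hcb, hcb, h2])).resolve_left fun hc => ?_, ?_⟩
  · have hcm : Commute (cb x t) x := (mem_Cz.1 (cb_eq_self.1 hc) :)
    have hsq : (x⁻¹ * cb x t) * (x⁻¹ * cb x t) = 1 := by
      rw [hcm.symm.inv_left.symm.mul_mul_mul_comm, ← mul_inv_rev, hx, ← cb_mul, hx]
      rw [show cb z t = z by
        refine cb_eq_self.2 (mem_Cz.2 ?_)
        refine (huniq (t * z * t⁻¹) (calc t * z * t⁻¹ * (t * z * t⁻¹) = t * (z * z) * t⁻¹ := by group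
              _ = 1 := by rw [hz, mul_one, mul_inv_cancel])).elim (fun h => ?_) fun h => ?_
        · exact absurd (by simpa [mul_assoc] using congrArg (fun w => t⁻¹ * w * t) h) hz1
        · exact (mul_inv_eq_iff_eq_mul.1 h).symm,
        inv_mul_cancel]
    refine h1 ?_
    rw [← hcb]
    rcases huniq _ hsq with e | e
    · rw [← inv_mul_eq_one.1 e]
    · rw [inv_mul_eq_iff_eq_mul] at e
      rw [e, map_mul, hπz, mul_one]
  · exact hcong _ _ (by rw [hcb, hcb, map_mul, hcb, h3])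

variable {G : Type*} [Group G] [Finite G] {a : G} {J : Subgroup G}

theorem TC.pr_of_mk (h : TC a J) {x y : J}
    (he : (QuotientGroup.mk x : ↥J ⧸ Cfsg.oddCore ↥J) = QuotientGroup.mk y) : pr a (x : G) = pr a (y : G) := by
  have h1 : x⁻¹ * y ∈ Cfsg.oddCore ↥J := QuotientGroup.eq.1 he
  obtain ⟨e, hedef⟩ : ∃ e : ↥J ≃* ↥(J.subgroupOf (Cz a)), e = (Subgroup.subgroupOfEquivOfLe h.le).symm :=
    ⟨_, rfl⟩
  have hev : ∀ w : J, ((e w : ↥(Cz a)) : G) = w := fun w => by rw [hedef]; rfl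
  have h2 : e (x⁻¹ * y) ∈ Cfsg.pPrimeCore 2 ↥(J.subgroupOf (Cz a)) := by
    rw [← PComp.pPrimeCore_map_equiv (p := 2) e]
    exact Subgroup.mem_map_of_mem e.toMonoidHom h1
  rw [← PComp.pcore_inf (p := 2) h.comp.2.1, Subgroup.mem_subgroupOf] at h2
  refine (pr_eq (h.le x.2) (h.le y.2)).2 ⟨_, h2, ?_⟩
  rw [Subgroup.subtype_apply, hev]; simp

theorem TC.quot_involution (h : TC a J) :
    let z : ↥J ⧸ Cfsg.oddCore ↥J := QuotientGroup.mk ⟨a, h.mem⟩
    z * z = 1 ∧ z ≠ 1 ∧ ∀ w, w * w = 1 → w = 1 ∨ w = z := by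
  have hc := card_pPrimeCore_coprime 2 ↥J
  refine ⟨?_, fun e => ?_, fun w hw => ?_⟩
  · rw [← QuotientGroup.mk_mul, show (⟨a, h.mem⟩ : J) * ⟨a, h.mem⟩ = 1 from Subtype.ext h.sq]; rfl
  · have h1 := (QuotientGroup.eq_one_iff _).1 e
    exact h.ne_one (congrArg Subtype.val (twoEl_mem_odd hc (x := (⟨a, h.mem⟩ : J))
      ⟨1, Subtype.ext (by simp [pow_two, h.sq])⟩ h1))
  · obtain ⟨x, rfl⟩ := QuotientGroup.mk_surjective w
    obtain ⟨j, m, hm, hcard⟩ := Nat.exists_eq_pow_mul_and_not_dvd (orderOf_pos x).ne' 2 (by norm_num)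
    have h2 : TwoEl (x ^ m) := ⟨j, by rw [← pow_mul, mul_comm, ← hcard, pow_orderOf_eq_one]⟩
    have h3 : x ^ m * x ^ m = 1 := by
      refine twoEl_mem_odd hc ?_ ?_
      · obtain ⟨k, hk⟩ := h2
        exact ⟨k, by rw [← pow_two, ← pow_mul, mul_comm, pow_mul, hk, one_pow]⟩
      · rw [← QuotientGroup.eq_one_iff (N := Cfsg.pPrimeCore 2 ↥J), ← pow_add, QuotientGroup.mk_pow,
          ← two_mul, pow_mul, pow_two, hw, one_pow]
    have h4 : (QuotientGroup.mk x : ↥J ⧸ Cfsg.oddCore ↥J) = QuotientGroup.mk (x ^ m) := by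
      obtain ⟨r, rfl⟩ : Odd m := Nat.odd_iff.2 (by omega)
      rw [QuotientGroup.mk_pow, pow_succ, pow_mul, pow_two, hw, one_pow, one_mul]
    rw [h4]
    rcases h.eq_of_sq (x ^ m).2 (congrArg Subtype.val h3) with e | e
    · left; rw [show x ^ m = 1 from Subtype.ext e]; rfl
    · right; rw [show x ^ m = ⟨a, h.mem⟩ from Subtype.ext e]

theorem TC.cyc (h : TC a J) (hq : ∀ z : ↥J ⧸ Cfsg.oddCore ↥J, z * z = 1 → z ≠ 1 →
    (∀ w, w * w = 1 → w = 1 ∨ w = z) → QCyc _ z) : Cyc a J := by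
  obtain ⟨hz, hz1, hzu⟩ := h.quot_involution
  intro x hx hxx
  obtain ⟨q, h1, h2⟩ := hq _ hz hz1 hzu (QuotientGroup.mk ⟨x, hx⟩) (by
    rw [← QuotientGroup.mk_mul]; exact congrArg _ (Subtype.ext hxx))
  obtain ⟨t, rfl⟩ := QuotientGroup.mk_surjective q
  refine ⟨t, t.2, ?_, h2.imp ?_ ?_⟩
  · exact h.pr_of_mk (x := cb (cb (⟨x, hx⟩ : J) t) ⟨x, hx⟩) (y := cb (⟨x, hx⟩ : J) t * (⟨a, h.mem⟩ : J)) h1
  · exact fun h2 => h.pr_of_mk (x := cb (cb (⟨x, hx⟩ : J) t) t) (y := (⟨x, hx⟩ : J) * cb (⟨x, hx⟩ : J) t) h2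
  · exact fun h2 => h.pr_of_mk (x := cb (cb (⟨x, hx⟩ : J) t) t)
      (y := (⟨x, hx⟩ : J) * cb (⟨x, hx⟩ : J) t * (⟨a, h.mem⟩ : J)) h2

theorem nonempty_quot_conj (J : Subgroup G) (g : G) :
    Nonempty (↥(cs J g) ⧸ Cfsg.oddCore ↥(cs J g) ≃* ↥J ⧸ Cfsg.oddCore ↥J) := by
  have e : ↥(cs J g) ≃* ↥J := (J.equivMapOfInjective _ (MulAut.conj g⁻¹).injective).symm
  exact ⟨QuotientGroup.congr _ _ e (PComp.pPrimeCore_map_equiv (p := 2) e)⟩

theorem sylIn_card {Q : Subgroup G} (hQ : SylIn 2 Q J) :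
    Nat.card Q = 2 ^ (Nat.card (↥J ⧸ Cfsg.oddCore ↥J)).factorization 2 := by
  obtain ⟨P, hP⟩ := hQ.exists_sylow_subgroupOf
  rw [← Nat.card_congr (Subgroup.subgroupOfEquivOfLe hQ.le).toEquiv, ← hP, P.card_eq_multiplicity,
    Subgroup.card_eq_card_quotient_mul_card_subgroup (Cfsg.oddCore ↥J),
    Nat.factorization_mul Nat.card_pos.ne' Nat.card_pos.ne', Finsupp.add_apply,
    Nat.factorization_eq_zero_of_not_dvd (n := Nat.card (Cfsg.oddCore ↥J)) fun hd =>
      Nat.prime_two.ne_one (Nat.eq_one_of_dvd_coprimes (card_pPrimeCore_coprime 2 ↥J) hd dvd_rfl),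
    add_zero]

end Cfsg.Agent.TwoPair
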